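import Cfsg.Agent.CITCor.ClsSSC
import Cfsg.Agent.CITCor.L2Even
import Cfsg.Agent.Inst.BenderCore
import Cfsg.Agent.S0028
import Cfsg.Agent.FT.BG3.T38

/-!
Tools for centreless groups with few class sizes.
-/

set_option autoImplicit false

namespace Cfsg.Lib.CITCor.Cls

open Subgroup Cfsg.Lib.Solv Cfsg.Lib.Solv.ClassSize Cfsg.Lib.Fus Cfsg.Lib.Local
open scoped commutatorElement Pointwise

universe u

local notation:max "𝐂[" x "]" => Subgroup.centralizer ({x} : Set _)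

variable {G : Type u} [Group G] [Finite G]

theorem exists_radical (G : Type u) [Group G] [Finite G] : ∃ R : Subgroup G, ∃ _ : R.Normal,
    Group.IsSolvable R ∧ ∀ S : Subgroup (G ⧸ R), S.Normal → Group.IsSolvable S → S = ⊥ := by
  obtain ⟨R, ⟨hR, hs⟩, hmax⟩ := (wellFounded_gt (α := Subgroup G)).has_min
    {R | R.Normal ∧ Group.IsSolvable R} ⟨⊥, inferInstance, inferInstance⟩
  refine ⟨R, hR, hs, fun S hS hS' => ?_⟩
  have h1 : Group.IsSolvable (S.comap (QuotientGroup.mk' R)) := by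
    refine isSolvable_of_map_mk' R _ ?_
    rwa [map_comap_eq_self_of_surjective (QuotientGroup.mk'_surjective R)]
  have h2 : R ≤ S.comap (QuotientGroup.mk' R) := fun x hx => by
    rw [mem_comap, QuotientGroup.mk'_apply, (QuotientGroup.eq_one_iff x).2 hx]
    exact one_mem _
  have h3 := eq_of_le_of_not_lt h2 (hmax _ ⟨inferInstance, h1⟩)
  rw [← map_comap_eq_self_of_surjective (QuotientGroup.mk'_surjective R) S, ← h3]
  exact (Subgroup.map_eq_bot_iff _).2 (by simp)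

/-- If all `p'`-elements of prime power order have `{p, σ}`-class size, the group is solvable. -/
theorem isSolvable_of_kaz {p σ i t : ℕ} (hp : p.Prime) (hσ : σ.Prime)
    (h : ∀ (r k : ℕ) (x : G), r.Prime → r ≠ p → orderOf x = r ^ k → 𝐂[x].index ∣ p ^ i * σ ^ t) :
    Group.IsSolvable G := by
  obtain ⟨R, hR, hs, hrad⟩ := exists_radical G
  have key : ∀ (r : ℕ) (z : G ⧸ R), r.Prime → r ≠ p → orderOf z = r →
      (σ = p ∨ ¬ σ ∣ 𝐂[z].index) → False := by
    intro r z hr hrp hz hσz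
    obtain ⟨x, rfl, k, hk⟩ := exists_lift_prime_pow (QuotientGroup.mk' R)
      (QuotientGroup.mk'_surjective R) (k := 1) hr (by rw [pow_one, hz])
    have h1 := (index_cent_mk_dvd R x).trans (h r k x hr hrp hk)
    have h2 : 𝐂[(x : G ⧸ R)].index ∣ p ^ (i + t) := by
      rcases hσz with rfl | h2
      · rwa [pow_add]
      · exact (((hσ.coprime_iff_not_dvd.2 h2).symm.pow_right t).dvd_of_dvd_mul_right h1).trans
          (pow_dvd_pow p (Nat.le_add_right i t))
    have h3 := hrad _ inferInstance (isSolvable_normalClosure hp h2)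
    have h4 : (x : G ⧸ R) ∈ normalClosure ({(x : G ⧸ R)} : Set (G ⧸ R)) :=
      subset_normalClosure (Set.mem_singleton _)
    rw [h3, mem_bot] at h4
    rw [QuotientGroup.mk'_apply, h4, orderOf_one] at hz
    exact hr.one_lt.ne hz
  have : Group.IsSolvable (G ⧸ R) := by
    refine Char.isSolvable_of_prime_dvd_card hp hp _ fun r hr hd => Or.inl ?_
    by_contra hrp
    have := Fact.mk hr
    by_cases h1 : σ ≠ p ∧ σ ∣ Nat.card (G ⧸ R)
    · have := Fact.mk hσ
      obtain ⟨P⟩ : Nonempty (Sylow σ (G ⧸ R)) := inferInstance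
      obtain ⟨z, -, hz, hc⟩ := exists_central_orderOf_eq P.isPGroup' (P.ne_bot_of_dvd_card h1.2)
      exact key σ z hσ h1.1 hz (Or.inr (not_dvd_index_of_sylow_le P fun x hx =>
        mem_cent.2 (hc x hx).symm))
    · obtain ⟨z, hz⟩ := exists_prime_orderOf_dvd_card' r hd
      refine key r z hr hrp hz ?_
      by_contra h2
      push Not at h2
      exact h1 ⟨h2.1, h2.2.trans (index_dvd_card _)⟩
  exact isSolvable_of_quotient R

omit [Finite G] in
theorem isSolvable_of_sup (M : Subgroup G) [M.Normal] [Group.IsSolvable M] (A : Subgroup G)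
    [Group.IsSolvable A] (h : M ⊔ A = ⊤) : Group.IsSolvable G := by
  have h1 : Group.IsSolvable (⊤ : Subgroup G) := by
    refine isSolvable_of_map_mk' M _ ?_
    rw [← h, Subgroup.map_sup, (Subgroup.map_eq_bot_iff _).2 (by simp), bot_sup_eq]
    exact isSolvable_map' _ A
  exact Group.isSolvable_of_surjective (f := (⊤ : Subgroup G).subtype)
    fun x => ⟨⟨x, mem_top x⟩, rfl⟩

theorem isNilpotent_of_two_sizes' {m : ℕ}
    (h : ∀ x : G, 𝐂[x].index = 1 ∨ 𝐂[x].index = m) : Group.IsNilpotent G := by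
  by_cases hc : ∀ x : G, x ∈ center G
  · have : IsMulCommutative G := ⟨⟨fun a b => mem_center_iff.1 (hc b) a⟩⟩
    exact isNilpotent_of_isMulCommutative G
  · push Not at hc
    obtain ⟨x, hx⟩ := hc
    obtain ⟨r, k, y, hr, -, -, hk, hy⟩ := exists_primary_not_mem hx
    have := Fact.mk hr
    obtain ⟨R, hR⟩ := (isPGroup_zpowers_of_orderOf hk).exists_le_sylow
    have := isNilpotent_of_two_sizes (N := ⊤) (fun y _ => h y) R
      (fun hle => hy (hle (hR (mem_zpowers y)))) le_top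
    exact Group.nilpotent_of_mulEquiv topEquiv

theorem exists_central_of_dvd {r : ℕ} [Fact r.Prime] (R : Sylow r G) (hd : r ∣ Nat.card G) :
    ∃ z ∈ (R : Subgroup G), orderOf z = r ∧ (R : Subgroup G) ≤ 𝐂[z] := by
  obtain ⟨z, hz, ho, hc⟩ := exists_central_orderOf_eq R.isPGroup' (R.ne_bot_of_dvd_card hd)
  exact ⟨z, hz, ho, fun x hx => mem_cent.2 (hc x hx).symm⟩

omit [Finite G] in
theorem ne_one_of_orderOf_prime {r : ℕ} (hr : r.Prime) {x : G} (hx : orderOf x = r) : x ≠ 1 := by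
  rintro rfl
  rw [orderOf_one] at hx
  exact hr.one_lt.ne hx

omit [Finite G] in
theorem orderOf_conj' (g x : G) : orderOf (g * x * g⁻¹) = orderOf x :=
  (MulAut.conj g).orderOf_eq x

theorem abCent_of_iso (hZ : center G = ⊥)
    (h : ∀ (x : G) (k : ℕ), x ≠ 1 → orderOf x = 2 ^ k → Iso x) : AbCent G := by
  have hnc : ∀ {x : G}, x ≠ 1 → x ∉ center G := fun hx => by rwa [hZ, mem_bot]
  have hT : ∀ T : Sylow 2 G, ∀ w ∈ (T : Subgroup G), (T : Subgroup G) ≤ 𝐂[w] := by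
    intro T
    by_cases h1 : (T : Subgroup G) = ⊥
    · intro w _
      rw [h1]
      exact bot_le
    obtain ⟨z, hz, hz2, hc⟩ := exists_central_orderOf_eq T.isPGroup' h1
    have hzT : (T : Subgroup G) ≤ 𝐂[z] := fun x hx => mem_cent.2 (hc x hx).symm
    have hz1 := ne_one_of_orderOf_prime Nat.prime_two hz2
    have hiso : ∀ w ∈ (T : Subgroup G), w ≠ 1 → Iso w := fun w hw hw1 => by
      obtain ⟨k, hk⟩ := exists_orderOf_eq_pow_of_mem T.isPGroup' hw
      exact h w k hw1 hk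
    have key : ∀ w ∈ (T : Subgroup G), w * w ≠ 1 → (T : Subgroup G) ≤ 𝐂[w] := by
      intro w hw hw2
      have hzz : z * z = 1 := by rw [← pow_two, ← hz2, pow_orderOf_eq_one]
      have h2 : (w * z) ^ 2 = w ^ 2 := by
        rw [(show Commute w z from (hc w hw).symm).mul_pow, pow_two z, hzz, mul_one]
      have hw1 : w ≠ 1 := fun h3 => hw2 (by rw [h3, one_mul])
      have hwz : w * z ≠ 1 := fun h3 => hw2 (by rw [← pow_two, ← h2, h3, one_pow])
      have hw2' : w ^ 2 ≠ 1 := by rwa [pow_two]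
      have e1 := (hiso w hw hw1).max _ (hnc hw2') (cent_le_cent_pow w 2)
      have e2 := (hiso _ (mul_mem hw hz) hwz).max _ (hnc hw2') (h2 ▸ cent_le_cent_pow (w * z) 2)
      have h3 : 𝐂[w] ≤ 𝐂[z] := fun x hx => by
        have h4 := mem_cent.1 (e2.le (e1.ge hx))
        rw [← mul_assoc, mem_cent.1 hx, mul_assoc, mul_assoc] at h4
        exact mem_cent.2 (mul_left_cancel h4)
      rw [← (hiso w hw hw1).max z (hnc hz1) h3]
      exact hzT
    by_cases h2 : ∀ w ∈ (T : Subgroup G), w * w = 1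
    · intro w hw x hx
      have h3 := h2 _ (mul_mem hx hw)
      rw [mem_cent]
      calc x * w = (w * w) * (x * w) * (x * x) := by rw [h2 w hw, h2 x hx]; simp
        _ = w * (w * x * w * x) * x := by group
        _ = w * x := by
          have := h2 _ (mul_mem hw hx)
          rw [← mul_assoc] at this
          rw [this, mul_one]
    · push Not at h2
      obtain ⟨y, hy, hy2⟩ := h2
      intro w hw
      by_cases h3 : w * w = 1
      · have hc' : w * y = y * w := mem_cent.1 (key y hy hy2 hw)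
        have h4 : w * y * (w * y) ≠ 1 := by
          rwa [show w * y * (w * y) = w * w * (y * y) by
            rw [mul_assoc, ← mul_assoc y, ← hc']; group, h3, one_mul]
        intro x hx
        have h5 := mem_cent.1 (key _ (mul_mem hw hy) h4 hx)
        rw [mul_assoc, ← mem_cent.1 (key y hy hy2 hx), ← mul_assoc, ← mul_assoc] at h5
        exact mem_cent.2 (mul_right_cancel h5)
      · exact key w hw h3
  refine abCent_iff.2 fun t ht => ?_
  have ht1 := ne_one_of_orderOf_prime Nat.prime_two ht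
  by_cases h2 : IsPGroup 2 𝐂[t]
  · obtain ⟨T, hTt⟩ := h2.exists_le_sylow
    exact PG.isMulCommutative_of_forall fun a ha b hb => mem_cent.1 (hT T b (hTt hb) (hTt ha))
  · refine ((h t 1 ht1 (by rw [pow_one, ht])).ssc fun p => ?_).comm
    by_cases hp : p = 2
    · rw [isPGroup_iff_isPiNum] at h2
      unfold IsPiNum at h2
      push Not at h2
      obtain ⟨r, hr, hd, hr2⟩ := h2
      obtain ⟨u, hu, ho⟩ := exists_mem_orderOf_eq_prime hr hd
      exact ⟨r, 1, u, hr, hp ▸ hr2, hu, hnc (ne_one_of_orderOf_prime hr ho), by rw [pow_one, ho]⟩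
    · exact ⟨2, 1, t, Nat.prime_two, Ne.symm hp, self_mem_cent t, hnc ht1, by rw [pow_one, ht]⟩

theorem isL2Even_of_abCent (hZ : center G = ⊥) (hns : ¬ Group.IsSolvable G) (h : AbCent G) :
    IsL2Even G := by
  obtain ⟨S⟩ : Nonempty (Sylow 2 G) := inferInstance
  have hS : ¬ (S : Subgroup G).Normal := fun h' => hns (Cor.isSolvable_of_normal_sylow_two S h')
  have h2 : Chev.RankOne.TwoRank G := by
    by_contra h2
    exact hns (Cor.isSolvable_of_isCyclic_sylow_two S (isCyclic_of_not_twoRank h2 S.isPGroup'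
      fun a ha b hb => h.comm_of_isPGroup S.isPGroup' ha hb))
  have hL := h.isL2Even_quotient S hS h2
  have hO := h.oddCore_le_center S hS h2 hL
  rw [hZ, le_bot_iff] at hO
  exact hL.of_equiv ((QuotientGroup.quotientMulEquivOfEq hO).trans QuotientGroup.quotientBot)

/-- An involution centralizing no non-trivial element of a normal subgroup is central modulo its
centralizer. -/
theorem isSolvable_of_fpf_involution {V : Subgroup G} [V.Normal] [IsMulCommutative V] {t : G}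
    (ht : orderOf t = 2) (hV : ∀ v ∈ V, v ∈ 𝐂[t] → v = 1)
    (hodd : Odd (Nat.card (centralizer (V : Set G)))) [Group.IsSolvable 𝐂[t]] :
    Group.IsSolvable G := by
  have htt : t * t = 1 := by rw [← pow_two, ← ht, pow_orderOf_eq_one]
  have hinv : ∀ v ∈ V, t * v * t⁻¹ = v⁻¹ := fun v hv => by
    have h1 : t * v * t⁻¹ ∈ V := (inferInstance : V.Normal).conj_mem v hv t
    have h2 := hV _ (mul_mem h1 hv) (by
      rw [mem_cent_comm, mem_cent_iff_conj, ← conj_mul, setLike_mul_comm h1 hv]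
      congr 1
      calc t * (t * v * t⁻¹) * t⁻¹ = (t * t) * v * (t * t)⁻¹ := by group
        _ = v := by rw [htt]; simp)
    exact eq_inv_of_mul_eq_one_left h2
  have := FT.odd_order_solvable hodd
  refine isSolvable_of_sup (centralizer (V : Set G)) 𝐂[t] ?_
  have h1 := map_cent_of_coprime (centralizer (V : Set G)) (w := t)
    (by rw [ht]; exact hodd.coprime_two_left)
  have h2 : 𝐂[(t : G ⧸ centralizer (V : Set G))] = ⊤ := by
    rw [cent_eq_top_iff, mem_center_iff]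
    intro g
    obtain ⟨g, rfl⟩ := QuotientGroup.mk_surjective g
    rw [← QuotientGroup.mk_mul, ← QuotientGroup.mk_mul, QuotientGroup.eq]
    intro v hv
    have h5 := hinv v hv
    have h6 : t⁻¹ = t := inv_eq_of_mul_eq_one_left htt
    have h7 := hinv _ ((inferInstance : V.Normal).conj_mem v hv g)
    refine (mul_inv_eq_iff_eq_mul.1 ?_).symm
    calc (g * t)⁻¹ * (t * g) * v * ((g * t)⁻¹ * (t * g))⁻¹
        = t⁻¹ * (g⁻¹ * (t * (g * v * g⁻¹) * t⁻¹) * g) * t := by group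
      _ = t⁻¹ * v⁻¹ * t := by rw [h7]; group
      _ = (t * v * t⁻¹)⁻¹ := by simp only [mul_inv_rev, h6, mul_assoc]
      _ = v := by rw [h5, inv_inv]
  rw [h2] at h1
  have h3 := congrArg (comap (QuotientGroup.mk' (centralizer (V : Set G)))) h1
  rwa [comap_map_eq, QuotientGroup.ker_mk', comap_top, sup_comm] at h3

/-- The configuration in which the maximal centralizers of one type are `{2, q}`-groups. -/
structure Beta (G : Type u) [Group G] (q m k : ℕ) : Prop where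
  hZ : center G = ⊥
  hq : q.Prime
  q2 : q ≠ 2
  types : ∀ x : G, x ≠ 1 → 𝐂[x].index = m ∨ 𝐂[x].index = m * k ∨
    (¬ 2 ∣ Nat.card 𝐂[x] ∧ ¬ q ∣ Nat.card 𝐂[x])
  m2 : ¬ 2 ∣ m
  mq : ¬ q ∣ m
  k2 : 2 ∣ k
  kq : q ∣ k
  k0 : k ≠ 0
  pi : ∀ x : G, 𝐂[x].index = m ∨ 𝐂[x].index = m * k → ∀ r : ℕ, r.Prime → r ∣ Nat.card 𝐂[x] →
    r = 2 ∨ r = q
  dvd : m * k ∣ Nat.card G

namespace Beta

variable {q m k : ℕ} (h : Beta G q m k)
include h

omit [Finite G] in
theorem nc {x : G} (hx : x ≠ 1) : x ∉ center G := by rwa [h.hZ, mem_bot]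

omit [Finite G] in
theorem lt : m < m * k := by
  have h1 : 2 ≤ k := Nat.le_of_dvd (Nat.pos_of_ne_zero h.k0) h.k2
  have h2 : m ≠ 0 := fun h2 => h.m2 (h2 ▸ dvd_zero 2)
  nlinarith [Nat.pos_of_ne_zero h2]

omit [Finite G] in
theorem prime_of {r : ℕ} (hr : r = 2 ∨ r = q) : r.Prime := by
  rcases hr with rfl | rfl
  exacts [Nat.prime_two, h.hq]

omit [Finite G] in
theorem not_dvd_m {r : ℕ} (hr : r = 2 ∨ r = q) : ¬ r ∣ m := by
  rcases hr with rfl | rfl
  exacts [h.m2, h.mq]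

omit [Finite G] in
theorem dvd_k {r : ℕ} (hr : r = 2 ∨ r = q) : r ∣ k := by
  rcases hr with rfl | rfl
  exacts [h.k2, h.kq]

omit [Finite G] in
theorem type_of_dvd {x : G} (hx : x ≠ 1) {r : ℕ} (hr : r = 2 ∨ r = q) (hd : r ∣ Nat.card 𝐂[x]) :
    𝐂[x].index = m ∨ 𝐂[x].index = m * k := by
  rcases h.types x hx with h1 | h1 | h1
  · exact Or.inl h1
  · exact Or.inr h1
  · rcases hr with rfl | rfl
    exacts [absurd hd h1.1, absurd hd h1.2]

omit [Finite G] in
theorem typeM {x : G} (hx : x ≠ 1) {r : ℕ} (hr : r = 2 ∨ r = q) (hd : r ∣ Nat.card 𝐂[x])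
    (hn : ¬ r ∣ 𝐂[x].index) : 𝐂[x].index = m :=
  (h.type_of_dvd hx hr hd).resolve_right fun h1 => hn (h1 ▸ (h.dvd_k hr).mul_left m)

omit [Finite G] in
theorem type_of_mem {x z : G} (hx : x ≠ 1) (hz : 𝐂[z].index = m ∨ 𝐂[z].index = m * k)
    (hxz : x ∈ 𝐂[z]) : 𝐂[x].index = m ∨ 𝐂[x].index = m * k := by
  obtain ⟨r, hr, hd⟩ := Nat.exists_prime_and_dvd (orderOf_eq_one_iff.not.2 hx)
  exact h.type_of_dvd hx (h.pi z hz r hr (hd.trans (orderOf_dvd_natCard _ hxz)))
    (hd.trans (orderOf_dvd_natCard _ (self_mem_cent x)))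

theorem max {v w : G} (hv : 𝐂[v].index = m) (hw : w ≠ 1) (hle : 𝐂[v] ≤ 𝐂[w]) :
    𝐂[w] = 𝐂[v] := by
  have h1 := index_dvd_of_le hle
  rcases h.type_of_mem hw (Or.inl hv) (mem_cent_comm.1 (hle (self_mem_cent v))) with h2 | h2
  · exact (cent_eq_of_le_of_index_le hle (by rw [hv, h2])).symm
  · rw [h2, hv] at h1
    exact absurd (Nat.le_of_dvd (Nat.pos_of_ne_zero (hv ▸ index_ne_zero_of_finite)) h1)
      h.lt.not_ge

theorem min {x : G} (hx : 𝐂[x].index = m * k) (w : G) (hw : w ∉ center G) (hle : 𝐂[w] ≤ 𝐂[x]) :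
    𝐂[w] = 𝐂[x] := by
  have h1 := index_dvd_of_le hle
  rcases h.type_of_mem (x := w) (fun h1 => hw (h1 ▸ one_mem _)) (Or.inr hx) (hle (self_mem_cent w))
    with h2 | h2
  · rw [h2, hx] at h1
    exact absurd (Nat.le_of_dvd (Nat.pos_of_ne_zero (h2 ▸ index_ne_zero_of_finite)) h1)
      h.lt.not_ge
  · exact cent_eq_of_le_of_index_le hle (by rw [hx, h2])

/-- Commuting elements of coprime orders, one of them central in a Sylow subgroup. -/
theorem eq_of_sylow {z w : G} (hz1 : z ≠ 1) (hw1 : w ≠ 1) {r : ℕ} [Fact r.Prime]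
    (hr : r = 2 ∨ r = q) (R : Sylow r G) (hz : (R : Subgroup G) ≤ 𝐂[z])
    (hw : (R : Subgroup G) ≤ 𝐂[w]) (hc : Commute z w) (hcop : (orderOf z).Coprime (orderOf w)) :
    𝐂[w] = 𝐂[z] := by
  have h1 := cent_mul_of_coprime hc hcop
  have h2 : z * w ≠ 1 := fun h2 => mul_not_mem_center (h.nc hz1) hc hcop (h2 ▸ one_mem _)
  have h3 : (R : Subgroup G) ≤ 𝐂[z * w] := h1 ▸ le_inf hz hw
  have h4 := h.typeM h2 hr ((R.dvd_card_of_dvd_card
    (((h.dvd_k hr).mul_left m).trans h.dvd)).trans (card_dvd_of_le h3))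
    (not_dvd_index_of_sylow_le R h3)
  rw [h.max h4 hw1 (h1 ▸ inf_le_right), h.max h4 hz1 (h1 ▸ inf_le_left)]

theorem step {z : G} (hz1 : z ≠ 1) (hz : 𝐂[z].index = m) {r : ℕ} (hr : r = 2 ∨ r = q)
    (hcop : (orderOf z).Coprime r) : ∃ w : G, orderOf w = r ∧ 𝐂[w] = 𝐂[z] := by
  have := Fact.mk (h.prime_of hr)
  obtain ⟨R, hR⟩ := exists_sylow_le_of_not_dvd_index (C := 𝐂[z]) (hz ▸ h.not_dvd_m hr)
  obtain ⟨w, hw, ho, hc⟩ := exists_central_of_dvd R (((h.dvd_k hr).mul_left m).trans h.dvd)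
  exact ⟨w, ho, h.eq_of_sylow hz1 (ne_one_of_orderOf_prime (h.prime_of hr) ho) hr R hR hc
    (mem_cent_iff_commute.1 (hR hw)).symm (ho ▸ hcop)⟩

theorem exists_tu {z : G} (hz1 : z ≠ 1) (hz : 𝐂[z].index = m) :
    ∃ t u : G, orderOf t = 2 ∧ orderOf u = q ∧ 𝐂[t] = 𝐂[z] ∧ 𝐂[u] = 𝐂[z] := by
  have hcop : Nat.Coprime 2 q := (Nat.coprime_primes Nat.prime_two h.hq).2 h.q2.symm
  obtain ⟨r, i, y, hr, hd, hy, hi, hyZ⟩ := exists_primary_not_mem (h.nc hz1)
  have hy1 : y ≠ 1 := fun h1 => hyZ (h1 ▸ one_mem _)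
  have hyz := h.max hz hy1 (cent_le_cent_of_mem_zpowers hy)
  rcases h.pi z (Or.inl hz) r hr (hd.trans (orderOf_dvd_natCard _ (self_mem_cent z)))
    with rfl | rfl
  · obtain ⟨u, hu, huy⟩ := h.step hy1 (hyz ▸ hz) (Or.inr rfl) (hi ▸ hcop.pow_left i)
    obtain ⟨t, ht, htu⟩ := h.step (ne_one_of_orderOf_prime h.hq hu) (by rw [huy, hyz, hz])
      (Or.inl rfl) (hu ▸ hcop.symm)
    exact ⟨t, u, ht, hu, by rw [htu, huy, hyz], by rw [huy, hyz]⟩
  · obtain ⟨t, ht, hty⟩ := h.step hy1 (hyz ▸ hz) (Or.inl rfl) (hi ▸ hcop.symm.pow_left i)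
    obtain ⟨u, hu, hut⟩ := h.step (ne_one_of_orderOf_prime Nat.prime_two ht)
      (by rw [hty, hyz, hz]) (Or.inr rfl) (ht ▸ hcop)
    exact ⟨t, u, ht, hu, by rw [hty, hyz], by rw [hut, hty, hyz]⟩

theorem isSolvable_cent {z : G} (hz : 𝐂[z].index = m) : Group.IsSolvable 𝐂[z] :=
  Char.isSolvable_of_prime_dvd_card Nat.prime_two h.hq _ (h.pi z (Or.inl hz))

omit h [Finite G] in
theorem le_cent_of_comm_of_eq {x z w : G} (hx : x ∈ 𝐂[z]) (hw : 𝐂[w] = 𝐂[x]) : w ∈ 𝐂[z] := by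
  rw [mem_cent_comm, hw, mem_cent_comm]
  exact hx

theorem fitting_le {x z : G} (hx1 : x ≠ 1) (hx : 𝐂[x].index = m) (hz : 𝐂[z].index = m)
    (hxz : x ∈ 𝐂[z]) : (fittingSubgroup 𝐂[z]).map 𝐂[z].subtype ≤ 𝐂[x] := by
  obtain ⟨t, u, ht, hu, htx, hux⟩ := h.exists_tu hx1 hx
  have hcop : Nat.Coprime 2 q := (Nat.coprime_primes Nat.prime_two h.hq).2 h.q2.symm
  have key : ∀ (r s : ℕ) [Fact r.Prime] (a b : G), orderOf a = r → orderOf b = s → s.Coprime r →
      𝐂[a] = 𝐂[x] → 𝐂[b] = 𝐂[x] → (pCore r 𝐂[z]).map 𝐂[z].subtype ≤ 𝐂[x] := by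
    intro r s _ a b ha hb hsr hax hbx
    have h1 := Cfsg.Agent.S0028.result r (zpowers a) (zpowers b)
      ((pCore r 𝐂[z]).map 𝐂[z].subtype) (isPGroup_zpowers_of_orderOf (k := 1) (by simp [ha]))
      (by rwa [Nat.card_zpowers, hb]) (isPGroup_map_pCore r _)
      (by rw [centralizer_zpowers, hbx, ← hax]; exact zpowers_le_cent a)
      ((zpowers_le.2 (le_cent_of_comm_of_eq hxz hax)).trans (le_normalizer_map_subtype _))
      ((zpowers_le.2 (le_cent_of_comm_of_eq hxz hbx)).trans (le_normalizer_map_subtype _))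
      (by rw [centralizer_zpowers, centralizer_zpowers, hax, hbx]; exact inf_le_right)
    rw [le_centralizer_iff, centralizer_zpowers, hbx] at h1
    exact h1
  rw [map_le_iff_le_comap]
  refine fitting_le_of_forall_pCore_le fun r hr => ?_
  rw [← map_le_iff_le_comap]
  by_cases h2 : r = 2
  · subst h2
    exact key 2 q t u ht hu hcop.symm htx hux
  by_cases h3 : r = q
  · subst h3
    exact key r 2 u t hu ht hcop hux htx
  have h4 : pCore r 𝐂[z] = ⊥ := by
    by_contra h4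
    obtain ⟨y, -, hy, -⟩ := exists_central_orderOf_eq (pCore_isPGroup r 𝐂[z]) h4
    exact (h.pi z (Or.inl hz) r hr.out (hy ▸ orderOf_dvd_natCard y)).elim h2 h3
  rw [h4, Subgroup.map_bot]
  exact bot_le

/-- Elements of the large type lying in a common centralizer of the large type commute. -/
theorem comm {x y z : G} (hx1 : x ≠ 1) (hx : 𝐂[x].index = m) (hy1 : y ≠ 1)
    (hy : 𝐂[y].index = m) (hz : 𝐂[z].index = m) (hxz : x ∈ 𝐂[z]) (hyz : y ∈ 𝐂[z]) :
    y ∈ 𝐂[x] := by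
  refine h.fitting_le hx1 hx hz hxz ⟨⟨y, hyz⟩, ?_, rfl⟩
  have := h.isSolvable_cent hz
  refine centralizer_fitting_le _ fun f hf => Subtype.ext ?_
  exact mem_cent.1 (h.fitting_le hy1 hy hz hyz ⟨f, hf, rfl⟩)

theorem normalizer_le {t u x₀ : G} (ht : orderOf t = 2) (hu : orderOf u = q) (htu : 𝐂[u] = 𝐂[t])
    (hm : 𝐂[t].index = m) (hx₀ : 𝐂[x₀] < 𝐂[t]) : normalizer (𝐂[t] : Set G) ≤ 𝐂[t] := by
  by_contra hN
  have ht1 := ne_one_of_orderOf_prime Nat.prime_two ht
  have hu1 := ne_one_of_orderOf_prime h.hq hu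
  obtain ⟨r, hr, hd⟩ := Nat.exists_prime_and_dvd (relIndex_eq_one.not.2 hN)
  have hrm : r ∣ m := hm ▸ hd.trans (relIndex_dvd_index_of_le le_normalizer)
  have hr2 : ¬ (r = 2 ∨ r = q) := fun h1 => h.not_dvd_m h1 hrm
  obtain ⟨y, hy, ho⟩ := exists_mem_orderOf_eq_prime hr (hd.trans (relIndex_dvd_card _ _))
  have hnil := FT.prime_Frobenius_sol_kernel_nil (K := 𝐂[t]) (R := zpowers y) (zpowers_le.2 hy)
    (h.isSolvable_cent hm) (by rwa [Nat.card_zpowers, ho]) (by
      rw [centralizer_zpowers, eq_bot_iff]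
      intro x hx
      by_contra hx1
      exact hr2 (h.pi x (h.type_of_mem hx1 (Or.inl hm) hx.1) r hr
        (ho ▸ orderOf_dvd_natCard _ (mem_cent_comm.1 hx.2))))
  have key : ∀ (r s i : ℕ) (a x : G), (s = 2 ∨ s = q) → r.Coprime s → orderOf a = s →
      𝐂[a] = 𝐂[t] → x ∈ 𝐂[t] → orderOf x = r ^ i → 𝐂[t] ≤ 𝐂[x] := by
    intro r s i a x hs hrs ha hat hx hi
    by_cases hx1 : x = 1
    · rw [hx1, cent_eq_top_iff.2 (one_mem _)]
      exact le_top
    have := Fact.mk (h.prime_of hs)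
    obtain ⟨S, hS⟩ := exists_sylow_le_of_not_dvd_index (C := 𝐂[t]) (hm ▸ h.not_dvd_m hs)
    rw [← hat]
    refine (h.eq_of_sylow (ne_one_of_orderOf_prime (h.prime_of hs) ha) hx1 hs S (hat ▸ hS)
      (fun b hb => ?_) (mem_cent_iff_commute.1 (hat ▸ hx)).symm
      (by rw [ha, hi]; exact hrs.symm.pow_right i)).ge
    obtain ⟨j, hj⟩ := exists_orderOf_eq_pow_of_mem S.isPGroup' hb
    have := commute_of_coprime_orderOf_of_isNilpotent 𝐂[t] ⟨b, hS hb⟩ ⟨x, hx⟩
      (by rw [orderOf_mk, orderOf_mk, hj, hi]; exact hrs.symm.pow _ _)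
    exact mem_cent.2 (congrArg Subtype.val this)
  have hcop : Nat.Coprime 2 q := (Nat.coprime_primes Nat.prime_two h.hq).2 h.q2.symm
  refine hx₀.not_ge (le_cent_of_forall_primary fun r i x hr hx hi => ?_)
  have hx' : x ∈ 𝐂[t] := zpowers_le.2 (hx₀.le (self_mem_cent x₀)) hx
  rcases i with _ | i
  · rw [pow_zero, orderOf_eq_one_iff] at hi
    rw [hi, cent_eq_top_iff.2 (one_mem _)]
    exact le_top
  rcases h.pi t (Or.inl hm) r hr ((dvd_pow_self r i.succ_ne_zero).trans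
    (hi ▸ orderOf_dvd_natCard _ hx')) with rfl | rfl
  · exact key 2 q _ u x (Or.inr rfl) hcop hu htu hx' hi
  · exact key r 2 _ t x (Or.inl rfl) hcop.symm ht rfl hx' hi

omit h [Finite G] in
theorem conj_ne_one {x g : G} (hx : x ≠ 1) : g * x * g⁻¹ ≠ 1 := fun h => hx (by simpa using h)

omit h [Finite G] in
theorem cent_conj_eq {t u : G} (htu : 𝐂[u] = 𝐂[t]) (g : G) :
    𝐂[g * u * g⁻¹] = 𝐂[g * t * g⁻¹] := by
  rw [← conj_smul_centralizer_singleton, ← conj_smul_centralizer_singleton, htu]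

theorem isSolvable_of_all {t u : G} (ht : orderOf t = 2) (hu : orderOf u = q)
    (htu : 𝐂[u] = 𝐂[t]) (hm : 𝐂[t].index = m) (hN : normalizer (𝐂[t] : Set G) ≤ 𝐂[t])
    (hall : ∀ g : G, g * t * g⁻¹ ∈ 𝐂[t]) : Group.IsSolvable G := by
  have ht1 := ne_one_of_orderOf_prime Nat.prime_two ht
  have hu1 := ne_one_of_orderOf_prime h.hq hu
  have hcop : Nat.Coprime 2 q := (Nat.coprime_primes Nat.prime_two h.hq).2 h.q2.symm
  have hall' : ∀ g g' : G, g * t * g⁻¹ ∈ 𝐂[g' * t * g'⁻¹] := fun g g' =>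
    h.comm (conj_ne_one ht1) (by rw [index_cent_conj, hm]) (conj_ne_one ht1)
      (by rw [index_cent_conj, hm]) hm (hall g') (hall g)
  have hallu : ∀ g g' : G, g * u * g⁻¹ ∈ 𝐂[g' * t * g'⁻¹] := fun g g' =>
    le_cent_of_comm_of_eq (hall' g g') (cent_conj_eq htu g)
  have hidx : ∀ g, g ∉ 𝐂[t] → (𝐂[t] ⊓ 𝐂[g * t * g⁻¹]).index = m * k := by
    intro g hg
    have hc : Commute t (g * u * g⁻¹) := by
      have := hallu g 1
      rw [one_mul, inv_one, mul_one] at this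
      exact (mem_cent_iff_commute.1 this).symm
    have hco : (orderOf t).Coprime (orderOf (g * u * g⁻¹)) := by
      rw [ht, orderOf_conj', hu]
      exact hcop
    have h1 := cent_mul_of_coprime hc hco
    have h2 : t * (g * u * g⁻¹) ≠ 1 := fun h2 =>
      mul_not_mem_center (h.nc ht1) hc hco (h2 ▸ one_mem _)
    rw [cent_conj_eq htu] at h1
    rw [← h1]
    refine (h.type_of_mem h2 (Or.inl hm) (mul_mem (self_mem_cent t)
      (mem_cent_iff_commute.2 hc.symm))).resolve_left fun h3 => hg (hN ?_)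
    rw [mem_normalizer_iff_conj_smul_eq, conj_smul_centralizer_singleton,
      h.max h3 (conj_ne_one ht1) (h1 ▸ inf_le_right), h.max h3 ht1 (h1 ▸ inf_le_left)]
  obtain ⟨g₀, hg₀⟩ : ∃ g₀, g₀ ∉ 𝐂[t] := by
    by_contra hc
    push Not at hc
    exact h.nc ht1 (cent_eq_top_iff.1 (eq_top_iff.2 fun g _ => hc g))
  obtain ⟨T, hT⟩ := exists_sylow_le_of_not_dvd_index (C := 𝐂[t]) (hm ▸ h.m2)
  have hT' : ¬ (T : Subgroup G) ≤ 𝐂[g₀ * t * g₀⁻¹] := fun hle =>
    not_dvd_index_of_sylow_le T (le_inf hT hle) (hidx g₀ hg₀ ▸ h.k2.mul_left m)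
  obtain ⟨x, hx, hx'⟩ := SetLike.not_le_iff_exists.1 hT'
  obtain ⟨i, hi⟩ := exists_orderOf_eq_pow_of_mem T.isPGroup' hx
  obtain ⟨j, hj1, hj2⟩ := exists_pow_not_mem_pow_mem (Z := 𝐂[g₀ * t * g₀⁻¹]) (p := 2) (k := i)
    (x := x) (by rw [← hi, pow_orderOf_eq_one]; exact one_mem _) hx'
  set g := x ^ 2 ^ j with hg
  have hgT : g ∈ (T : Subgroup G) := pow_mem hx _
  set u' := g₀ * u * g₀⁻¹ with hu'
  have hCu' : 𝐂[u'] = 𝐂[g₀ * t * g₀⁻¹] := cent_conj_eq htu g₀
  have hc : Commute u' (g * u' * g⁻¹) := by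
    have := hallu (g * g₀) g₀
    rw [← hCu'] at this
    refine (mem_cent_iff_commute.1 ?_).symm
    convert this using 1
    rw [hu']
    group
  have huq : u' ^ q = 1 := by rw [hu', conj_pow, ← hu, pow_orderOf_eq_one]; simp
  set y := u' * (g * u' * g⁻¹)⁻¹ with hy
  have hy1 : y ≠ 1 := fun h1 => hj1 (hCu' ▸ mem_cent_iff_conj.2 (mul_inv_eq_one.1 h1).symm)
  have hyq : orderOf y = q := by
    have := Fact.mk h.hq
    refine orderOf_eq_prime ?_ hy1
    rw [hy, hc.inv_right.mul_pow, huq, inv_pow, conj_pow, huq]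
    simp
  have hgy : g * y * g⁻¹ = y⁻¹ := by
    have h1 := mem_cent_iff_conj.1 (hCu' ▸ hj2 : g ^ 2 ∈ 𝐂[u'])
    calc g * y * g⁻¹ = g * u' * g⁻¹ * (g ^ 2 * u' * (g ^ 2)⁻¹)⁻¹ := by rw [hy, pow_two]; group
      _ = y⁻¹ := by rw [h1, hy]; group
  have hyl : 𝐂[y].index = m * k := by
    refine (h.type_of_dvd hy1 (Or.inr rfl)
      (hyq ▸ orderOf_dvd_natCard _ (self_mem_cent y))).resolve_left fun h1 => ?_
    have h2 : g ∈ normalizer (𝐂[y] : Set G) := by
      rw [mem_normalizer_iff_conj_smul_eq, conj_smul_centralizer_singleton, hgy, cent_inv]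
    obtain ⟨l, hl⟩ := exists_orderOf_eq_pow_of_mem T.isPGroup' hgT
    have h3 : g ∈ 𝐂[y] := by
      by_contra h3
      have h4 := dvd_relIndex_of_normal (G := normalizer (𝐂[y] : Set G))
        (Z := 𝐂[y].subgroupOf (normalizer (𝐂[y] : Set G))) (C := ⊤) (k := l) Nat.prime_two
        (x := ⟨g, h2⟩) (mem_top _) (by rw [← hl, orderOf_mk]) h3
      rw [relIndex_top_right] at h4
      exact h.m2 (h1 ▸ h4.trans (relIndex_dvd_index_of_le le_normalizer))
    rw [mem_cent_iff_conj.1 h3] at hgy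
    have h4 : orderOf y ∣ 2 := orderOf_dvd_of_pow_eq_one (by
      rw [pow_two]; exact mul_eq_one_iff_eq_inv.2 hgy)
    rw [hyq] at h4
    exact h.q2 ((Nat.prime_dvd_prime_iff_eq h.hq Nat.prime_two).1 h4)
  have hL : ∀ a : G, 𝐂[y] ≤ 𝐂[a * t * a⁻¹] := fun a => by
    refine cent_le_of_min (h.nc hy1) (h.min hyl) (mem_cent_comm.1 (mul_mem (hallu g₀ a)
      (inv_mem ?_))) (by rw [hyq, orderOf_conj', ht]; exact hcop.symm)
    convert hallu (g * g₀) a using 1
    rw [hu']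
    group
  have hLt : 𝐂[y] ≤ 𝐂[t] := by simpa using hL 1
  have hL' : ∀ a, a ∉ 𝐂[t] → 𝐂[y] = 𝐂[t] ⊓ 𝐂[a * t * a⁻¹] := fun a ha =>
    cent_eq_of_le_of_index_le (le_inf hLt (hL a)) (by rw [hyl, hidx a ha])
  have hLn : 𝐂[y].Normal := ⟨fun n hn a => by
    have key : ∀ b : G, a * n * a⁻¹ ∈ 𝐂[b * t * b⁻¹] := fun b => by
      have := mem_cent.1 (hL (a⁻¹ * b) hn)
      rw [mem_cent]
      calc a * n * a⁻¹ * (b * t * b⁻¹) = a * (n * (a⁻¹ * b * t * (a⁻¹ * b)⁻¹)) * a⁻¹ := by group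
        _ = _ := by rw [this]; group
    rw [hL' g₀ hg₀]
    exact ⟨by simpa using key 1, key g₀⟩⟩
  obtain ⟨M, hM, hinf, hsup, -, -⟩ := Char.frobenius_wielandt 𝐂[t] 𝐂[y] hLt
    (fun a _ n hn => hLn.conj_mem n hn a) (fun a ha x hx hax => by
      rw [hL' a⁻¹ (fun h1 => ha (inv_mem_iff.1 h1))]
      refine ⟨hx, mem_cent.2 ?_⟩
      calc x * (a⁻¹ * t * a⁻¹⁻¹) = a⁻¹ * (a * x * a⁻¹ * t) * a := by group
        _ = _ := by rw [mem_cent.1 hax]; group)
  have := h.isSolvable_cent hm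
  have : Group.IsSolvable 𝐂[y] := isSolvable_of_le' hLt
  have : Group.IsSolvable M := by
    refine isSolvable_of_map_mk' 𝐂[y] M (FT.odd_order_solvable ?_)
    rw [← relIndex_ker, QuotientGroup.ker_mk', ← hinf, inf_relIndex_left]
    exact Nat.odd_iff.2 (Nat.two_dvd_ne_zero.1 fun h1 =>
      h.m2 (hm ▸ h1.trans (relIndex_dvd_index_of_normal_right _ _)))
  exact isSolvable_of_sup M 𝐂[t] hsup

theorem isSolvable {x₀ y₀ : G} (hy₀ : y₀ ≠ 1) (hm₀ : 𝐂[y₀].index = m) (hx₀ : 𝐂[x₀] < 𝐂[y₀]) :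
    Group.IsSolvable G := by
  obtain ⟨t, u, ht, hu, hty, huy⟩ := h.exists_tu hy₀ hm₀
  have htu : 𝐂[u] = 𝐂[t] := huy.trans hty.symm
  have hm : 𝐂[t].index = m := hty ▸ hm₀
  have ht1 := ne_one_of_orderOf_prime Nat.prime_two ht
  have hu1 := ne_one_of_orderOf_prime h.hq hu
  have hcop : Nat.Coprime 2 q := (Nat.coprime_primes Nat.prime_two h.hq).2 h.q2.symm
  have hN := h.normalizer_le ht hu htu hm (hty ▸ hx₀)
  refine (em (∀ g : G, g * t * g⁻¹ ∈ 𝐂[t])).elim (h.isSolvable_of_all ht hu htu hm hN) fun hall => ?_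
  have hmc : ∀ g : G, 𝐂[g * t * g⁻¹].index = m := fun g => by rw [index_cent_conj, hm]
  let M : Subgroup G :=
    { carrier := {g | g * t * g⁻¹ ∈ 𝐂[t]}
      one_mem' := by simpa using self_mem_cent t
      mul_mem' := fun {a b} ha hb => by
        refine h.comm ht1 hm (conj_ne_one ht1) (hmc _) (hmc a) (mem_cent_comm.1 ha) ?_
        have := mem_cent.1 hb
        rw [mem_cent]
        calc a * b * t * (a * b)⁻¹ * (a * t * a⁻¹) = a * (b * t * b⁻¹ * t) * a⁻¹ := by group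
          _ = _ := by rw [this]; group
      inv_mem' := fun {a} ha => by
        have := mem_cent.1 ha
        refine mem_cent.2 ?_
        calc a⁻¹ * t * a⁻¹⁻¹ * t = a⁻¹ * (t * (a * t * a⁻¹)) * a := by group
          _ = _ := by rw [← this]; group }
  have hmem : ∀ g, g ∈ M ↔ g * t * g⁻¹ ∈ 𝐂[t] := fun g => Iff.rfl
  obtain ⟨T, htT, hT⟩ := exists_sylow_le_ge_of_not_dvd_index (C := 𝐂[t]) (hm ▸ h.m2)
    (isPGroup_zpowers_of_orderOf (k := 1) (by simp [ht])) (zpowers_le_cent t)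
  have hSE : SE 2 M := by
    refine SE.of_centralizer_normalizer (fun h1 => hall fun g => (hmem g).1 (h1 ▸ mem_top g)) T
      (fun g hg => hT (conj_mem_of_mem_normalizer hg (htT (mem_zpowers t)))) fun x hx ho c hc => ?_
    have hx1 := ne_one_of_orderOf_prime Nat.prime_two ho
    rcases h.type_of_mem hx1 (Or.inl hm) (hT hx) with h1 | h1
    · exact h.comm ht1 hm (conj_ne_one ht1) (hmc c) h1 (mem_cent_comm.1 (hT hx))
        (mul_mem (mul_mem hc (mem_cent_comm.1 (hT hx))) (inv_mem hc))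
    · have h2 := cent_le_of_min (h.nc hx1) (h.min h1) (mem_cent_comm.1 (htu ▸ hT hx))
        (by rw [ho, hu]; exact hcop)
      rw [hmem, mem_cent_iff_conj.1 (htu ▸ h2 hc)]
      exact self_mem_cent t
  -- the normal closure of `u` in `M`
  let N : Subgroup G := closure {y | ∃ g ∈ M, g * u * g⁻¹ = y}
  have hgen : ∀ g ∈ M, g * u * g⁻¹ ∈ 𝐂[t] := fun g hg =>
    le_cent_of_comm_of_eq hg (cent_conj_eq htu g)
  have hNc : IsMulCommutative N := isMulCommutative_closure (by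
    rintro _ ⟨a, ha, rfl⟩ _ ⟨b, hb, rfl⟩
    refine mem_cent.1 (h.comm (conj_ne_one hu1) ?_ (conj_ne_one hu1) ?_ hm (hgen b hb) (hgen a ha))
    all_goals rw [index_cent_conj, htu, hm])
  have hNq : ∀ y ∈ N, y ^ q = 1 := fun y hy => by
    induction hy using closure_induction with
    | mem y hy =>
      obtain ⟨a, -, rfl⟩ := hy
      rw [conj_pow, ← hu, pow_orderOf_eq_one]
      simp
    | one => simp
    | mul a b ha hb iha ihb =>
      rw [(show Commute a b from setLike_mul_comm ha hb).mul_pow, iha, ihb, one_mul]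
    | inv a _ ih => rw [inv_pow, ih, inv_one]
  have hNO : N ≤ oddCore G := by
    refine (Bender.core_of_gate _).le_oddCore hSE ?_ ?_ fun a ha n hn => ?_
    · rw [closure_le]
      rintro _ ⟨a, ha, rfl⟩
      refine mul_mem (mul_mem ha ?_) (inv_mem ha)
      rw [hmem, mem_cent_iff_conj.1 (htu ▸ self_mem_cent u)]
      exact self_mem_cent t
    · refine Nat.odd_iff.2 (Nat.two_dvd_ne_zero.1 (not_dvd_card_of_forall_orderOf Nat.prime_two
        fun y hy ho => h.q2 ?_))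
      exact ((Nat.prime_dvd_prime_iff_eq Nat.prime_two h.hq).1
        (ho ▸ orderOf_dvd_of_pow_eq_one (hNq y hy))).symm
    · induction hn using closure_induction with
      | mem y hy =>
        obtain ⟨b, hb, rfl⟩ := hy
        exact subset_closure ⟨a * b, mul_mem ha hb, by group⟩
      | one => simp
      | mul x y _ _ ihx ihy => rw [← conj_mul]; exact mul_mem ihx ihy
      | inv x _ ih => rw [← conj_inv]; exact inv_mem ih
  have huO : u ∈ oddCore G := hNO (subset_closure ⟨1, one_mem _, by simp⟩)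
  have := FT.odd_order_solvable (odd_card_oddCore G)
  have hF : fittingSubgroup G ≠ ⊥ := fun h1 => fitting_inf_ne_bot_of_isSolvable (oddCore G)
    (fun h2 => hu1 (by rwa [h2, mem_bot] at huO)) (by rw [h1, bot_inf_eq])
  rw [Ne, fitting_eq_bot_iff_forall_pCore] at hF
  push Not at hF
  obtain ⟨r, hr, hO⟩ := hF
  by_cases hr2 : r = 2 ∨ r = q
  · exfalso
    obtain ⟨R, hR⟩ := exists_sylow_le_of_not_dvd_index (C := 𝐂[t]) (hm ▸ h.not_dvd_m hr2)
    obtain ⟨x, ⟨hxO, hxR⟩, hx1⟩ := (bot_or_exists_ne_one _).resolve_left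
      (PG.inf_centralizer_ne_bot_of_isNilpotent R.isPGroup'.isNilpotent (pCore_le_sylow R)
        le_normalizer_of_normal hO)
    obtain ⟨i, hi⟩ := exists_orderOf_eq_pow_of_mem (pCore_isPGroup r G) hxO
    have hxt : 𝐂[x] = 𝐂[t] := by
      rcases hr2 with rfl | rfl
      · rw [← htu] at hR ⊢
        exact h.eq_of_sylow hu1 hx1 (Or.inl rfl) R hR (le_cent_iff.2 hxR)
          (mem_cent_iff_commute.1 (hR (pCore_le_sylow R hxO))).symm
          (by rw [hu, hi]; exact hcop.symm.pow_right i)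
      · exact h.eq_of_sylow ht1 hx1 (Or.inr rfl) R hR (le_cent_iff.2 hxR)
          (mem_cent_iff_commute.1 (hR (pCore_le_sylow R hxO))).symm
          (by rw [ht, hi]; exact hcop.pow_right i)
    exact hall fun g => le_cent_of_comm_of_eq (hR (pCore_le_sylow R
      ((inferInstance : (pCore r G).Normal).conj_mem x hxO g))) (cent_conj_eq hxt.symm g)
  · have hV := PG.inf_centralizer_ne_bot_of_isNilpotent (pCore_isPGroup r G).isNilpotent le_rfl
      le_normalizer hO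
    have hnt : ∀ v ∈ pCore r G, v ≠ 1 → ¬ 2 ∣ Nat.card 𝐂[v] := fun v hv hv1 h2 => by
      obtain ⟨i, hi⟩ := exists_orderOf_eq_pow_of_mem (pCore_isPGroup r G) hv
      refine hr2 (h.pi v (h.type_of_dvd hv1 (Or.inl rfl) h2) r hr.out
        ((dvd_pow_self r ?_).trans (hi ▸ orderOf_dvd_natCard _ (self_mem_cent v))))
      rintro rfl
      exact hv1 (orderOf_eq_one_iff.1 hi)
    have : IsMulCommutative (pCore r G ⊓ centralizer (pCore r G : Set G) : Subgroup G) :=
      PG.isMulCommutative_of_forall fun a ha b hb => hb.2 a ha.1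
    have := h.isSolvable_cent hm
    obtain ⟨v, hv, hv1⟩ := (bot_or_exists_ne_one _).resolve_left hV
    refine isSolvable_of_fpf_involution (V := pCore r G ⊓ centralizer (pCore r G : Set G)) ht
      (fun w hw hwt => ?_) (Nat.odd_iff.2 (Nat.two_dvd_ne_zero.1 fun h2 => hnt v hv.1 hv1
        (h2.trans (card_dvd_of_le (centralizer_le (Set.singleton_subset_iff.2 hv))))))
    by_contra hw1
    exact hnt w hw.1 hw1 (ht ▸ orderOf_dvd_natCard _ (mem_cent_comm.1 hwt))

end Beta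

end Cfsg.Lib.CITCor.Cls
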