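import Cfsg.Agent.CITCor.Higman
import Cfsg.Agent.S3224
import Cfsg.Agent.S0252

/-!
# CIT-groups with a subgroup `L₂(9)` of index two; element orders at most five
-/

set_option autoImplicit false

universe u

namespace Cfsg.Lib.CITCor

open Cfsg.Agent Cfsg.Lib.CIT Cfsg.Lib.Solv Cfsg.Lib.Known Cfsg.Lib.Known.GL2 Subgroup
open scoped MatrixGroups

theorem sc_psl2_nine {F : Type*} [Field F] [Fintype F] (hF : Fintype.card F = 9) : SC PSL(2, F) :=
  sc_psl2 (Or.inr ⟨3, Nat.prime_three, hF⟩) fun i h2 hi => by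
    have := card_centralizer_of_trace h2 hi
    exact IsPGroup.of_card (n := 3) (by omega)

theorem psl2_nine_data {S : Type*} [Group S] {F : Type*} [Field F] [Fintype F]
    (hF : Fintype.card F = 9) (e : S ≃* PSL(2, F)) : ∃ a b ω : S, IsFourPair a b ∧
      orderOf ω = 3 ∧ ω * a * ω⁻¹ = b ∧ ω * b * ω⁻¹ = a * b ∧
      Nat.card (centralizer ({a} : Set S)) = 8 ∧ ∀ y : S, orderOf y = 2 → IsConj a y := by
  have h2 : (2 : F) ≠ 0 := two_ne_zero_of_odd (by rw [hF]; decide)
  have hw := trace_w_SL (F := F)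
  obtain ⟨y, hy, hy'⟩ := (isTorus_of_trace h2 hw).exists_mem_normalizer
    (exists_not_mem_Z_of_trace h2 hw)
  have h4 := (isFourPair_piSL_iff h2 hw).2 ⟨hy, hy'⟩
  obtain ⟨ω, h3, h5, h6, -⟩ := exists_conj_fix h2 h4
  refine ⟨_, _, e.symm ω, h4.map e.symm.toMonoidHom e.symm.injective, by rw [e.symm.orderOf_eq, h3],
    ?_, ?_, ?_, fun z hz => ?_⟩
  · simp only [MulEquiv.toMonoidHom_eq_coe, MonoidHom.coe_coe, ← map_mul, ← map_inv, h5]
  · simp only [MulEquiv.toMonoidHom_eq_coe, MonoidHom.coe_coe, ← map_mul, ← map_inv, h6]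
  · have h7 := card_centralizer_piSL_of_trace h2 hw
    have h8 := card_centralizer_of_trace h2 hw
    rw [← show Nat.card (centralizer ({piSL F (slLin F).w} : Set (PSL2 F))) = 8 by omega]
    refine Nat.card_congr (Equiv.subtypeEquiv e.toEquiv fun x => ?_)
    simp only [mem_centralizer_singleton_iff, MulEquiv.toMonoidHom_eq_coe, MonoidHom.coe_coe,
      MulEquiv.toEquiv_eq_coe, EquivLike.coe_coe]
    rw [← e.injective.eq_iff, map_mul, map_mul, MulEquiv.apply_symm_apply]
  · have := isConj_of_orderOf_two_PSL (x := piSL F (slLin F).w) (y := e z)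
      (orderOf_eq_prime (by rw [sq]; exact h4.sq_a) h4.a_ne) (by rw [e.orderOf_eq, hz])
    simpa using e.symm.toMonoidHom.map_isConj this

variable {G : Type u} [Group G] [Finite G]

theorem exists_orderOf_eight (h : IsCIT G) (S : Subgroup G) [hS : S.Normal] (hi : S.index = 2)
    {F : Type*} [Field F] [Fintype F] (hF : Fintype.card F = 9) (e : S ≃* PSL(2, F)) :
    ∃ x : G, orderOf x = 8 := by
  obtain ⟨a, b, ω, h4, h3, h5, h6, h8, hc⟩ := psl2_nine_data hF e
  have hsc := (sc_psl2_nine hF).of_equiv e.symm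
  have ha : orderOf a = 2 := orderOf_eq_prime (by rw [sq]; exact h4.sq_a) h4.a_ne
  have hb : orderOf b = 2 := orderOf_eq_prime (by rw [sq]; exact h4.sq_b) h4.b_ne
  have hrel : ∀ H : Subgroup G, S.relIndex H = 1 ∨ S.relIndex H = 2 := fun H =>
    (Nat.dvd_prime Nat.prime_two).1 (hi ▸ relIndex_dvd_index_of_normal S H)
  have hT : Nat.card (centralizer ({(a : G)} : Set G)) = 16 := by
    have h1 := Class.relIndex_mul_card_inf S (centralizer ({(a : G)} : Set G))
    rw [inf_comm, ← card_centralizer_subgroup, h8] at h1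
    rcases hrel (centralizer ({(a : G)} : Set G)) with h2 | h2
    · exfalso
      obtain ⟨g, hg⟩ : ∃ g, g ∉ S := by
        by_contra h0
        push Not at h0
        rw [(eq_top_iff' S).2 h0, index_top] at hi
        omega
      obtain ⟨s, hs⟩ := isConj_iff.1 (hc ⟨g * a * g⁻¹, hS.conj_mem _ a.2 g⟩ (by
        rw [← orderOf_coe, ← ha, ← orderOf_coe a]
        exact (orderOf_eq_of_isConj (isConj_iff.2 ⟨g, rfl⟩)).symm))
      have hs' : (s : G) * a * (s : G)⁻¹ = g * a * g⁻¹ := congrArg Subtype.val hs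
      have h7 : (s : G)⁻¹ * g ∈ centralizer ({(a : G)} : Set G) := by
        rw [mem_centralizer_singleton_iff]
        calc (s : G)⁻¹ * g * a = (s : G)⁻¹ * (g * a * g⁻¹) * g := by group
          _ = a * ((s : G)⁻¹ * g) := by rw [← hs']; group
      exact hg (by simpa using S.mul_mem s.2 (relIndex_eq_one.1 h2 h7))
    · omega
  have h4' : IsFourPair (a : G) b := h4.map S.subtype S.subtype_injective
  set C := centralizer (four (a : G) b : Set G) with hCd
  have hC2 : IsPGroup 2 C := h.isPGroup_of_comm_sq h4'.a_ne h4'.sq_a fun x hx =>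
    (mem_centralizer_iff.1 hx _ (left_mem_four _ _)).symm
  have hω : zpowers (ω : G) ≤ normalizer (C : Set G) := by
    refine zpowers_le.2 (normalizer_le_normalizer_centralizer _ ?_)
    rw [mem_normalizer_iff_map_conj_eq, map_four]
    change four ((ω : G) * a * (ω : G)⁻¹) ((ω : G) * b * (ω : G)⁻¹) = _
    rw [show (ω : G) * a * (ω : G)⁻¹ = b from congrArg Subtype.val h5,
      show (ω : G) * b * (ω : G)⁻¹ = a * b from congrArg Subtype.val h6,
      show (a : G) * b = b * a from h4'.comm.symm, four_mul, four_comm]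
  have hω3 : Nat.card (zpowers (ω : G)) = 3 := by rw [Nat.card_zpowers, orderOf_coe, h3]
  have hmod := Fpf.card_modEq_one hω (fpf_of_isCIT h hC2 (by rw [hω3]; decide))
  have hC : Nat.card C = 4 := by
    have h1 := Class.relIndex_mul_card_inf S C
    have h2 : S ⊓ C = four (a : G) b := by
      refine le_antisymm (fun x hx => ?_) (le_inf (four_le_iff.2 ⟨a.2, b.2⟩) ?_)
      · rw [h4'.mem_iff]
        simpa only [Subtype.ext_iff, coe_mul, coe_one] using hsc.mem_four ha hb h4.ne h4.comm.symm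
          (c := ⟨x, hx.1⟩) (Subtype.ext (mem_centralizer_iff.1 hx.2 _ (left_mem_four _ _)))
          (Subtype.ext (mem_centralizer_iff.1 hx.2 _ (right_mem_four _ _)))
      · exact fun x hx => mem_centralizer_iff.2 fun y hy =>
          comm_of_sq (fun v hv => h4'.mul_self hv) hy hx
    rw [h2, h4'.card_four] at h1
    rw [hω3, Nat.ModEq] at hmod
    rcases hrel C with h7 | h7 <;> omega
  let b' : centralizer ({(a : G)} : Set G) := ⟨b, mem_centralizer_singleton_iff.2 h4'.comm⟩
  have h9 : Nat.card (centralizer ({b'} : Set (centralizer ({(a : G)} : Set G)))) = 4 := by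
    rw [card_centralizer_subgroup, ← hC, hCd, four, centralizer_closure]
    congr 2
    ext x
    simp [mem_centralizer_iff, b', and_comm]
  rcases S3224.result (h _ (by rw [orderOf_coe, ha])) b'
    (by rw [← orderOf_coe, ← hb, ← orderOf_coe b]) h9
    with ⟨n, ⟨f⟩⟩ | ⟨n, -, hn, x, -, hx, -⟩ | h1
  · have h1 := Nat.card_congr f.toEquiv
    rw [hT, DihedralGroup.nat_card] at h1
    obtain rfl : n = 8 := by omega
    exact ⟨f.symm (DihedralGroup.r 1), by
      rw [orderOf_coe, f.symm.orderOf_eq, DihedralGroup.orderOf_r_one]⟩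
  · rw [hT, pow_succ] at hn
    exact ⟨x, by rw [orderOf_coe, hx]; omega⟩
  · omega

theorem eq_bot_of_nine_dvd (h : IsCIT G) {O : Subgroup G} [O.Normal] (hO : IsPGroup 2 O)
    (h9 : 9 ∣ Nat.card (G ⧸ O)) (hx : ∀ x : G ⧸ O, orderOf x ≠ 9) : O = ⊥ := by
  by_contra h1
  have := Fact.mk Nat.prime_three
  obtain ⟨K, hK⟩ := Sylow.exists_subgroup_card_pow_prime (G := G ⧸ O) 3 (n := 2) h9
  have := isCyclic_of_isCIT h hO h1 Nat.prime_three Nat.prime_three hK (by decide)
  obtain ⟨x, hx'⟩ := exists_orderOf_of_isCyclic K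
  exact hx x (by rw [hx', hK]; norm_num)

/-- Finite groups with elements of orders `2`, `3` and `5` and no element of order above `5`. -/
theorem cases_of_orderOf_le_five [Gate.CITStrong.{u}] (h : ∀ g : G, orderOf g ≤ 5)
    (h2 : 2 ∣ Nat.card G) (h3 : 3 ∣ Nat.card G) (h5 : 5 ∣ Nat.card G) :
    Nonempty (G ≃* alternatingGroup (Fin 6)) ∨ (IsElementaryAbelian 2 (pCore 2 G) ∧
      Nonempty (G ⧸ pCore 2 G ≃* alternatingGroup (Fin 5))) := by
  have he : EPPO G := fun g hg => by
    have h1 := h g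
    have h2 := orderOf_pos g
    have h3 := orderOf_eq_one_iff.not.2 hg
    generalize orderOf g = n at *
    interval_cases n
    · omega
    all_goals decide +kernel
  have hs := he.not_isSolvable (by
    refine le_trans (show 3 ≤ ({2, 3, 5} : Finset ℕ).card by decide) (Finset.card_le_card ?_)
    intro p hp
    simp only [Finset.mem_insert, Finset.mem_singleton] at hp
    rcases hp with rfl | rfl | rfl <;>
      exact Nat.mem_primeFactors.2 ⟨by norm_num, by assumption, Nat.card_pos.ne'⟩)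
  have hO := pCore_isPGroup 2 G
  have hq : ∀ x : G ⧸ pCore 2 G, orderOf x ≤ 5 := fun x => by
    obtain ⟨g, rfl⟩ := QuotientGroup.mk'_surjective _ x
    exact (Nat.le_of_dvd (orderOf_pos g) (orderOf_map_dvd _ g)).trans (h g)
  have hp : ∀ n p, Nat.card (G ⧸ pCore 2 G) = n → p.Prime → p ∣ n → p ≤ 5 := fun n p hn hp hd => by
    have := Fact.mk hp
    obtain ⟨x, hx⟩ := exists_prime_orderOf_dvd_card' (G := G ⧸ pCore 2 G) p (hn ▸ hd)
    exact hx ▸ hq x
  have h7 : ∀ n, Nat.card (G ⧸ pCore 2 G) = n → ¬ 7 ∣ n := fun n hn hd => by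
    have := hp n 7 hn (by norm_num) hd
    omega
  rcases CITCor.quotient_cases he.isCIT hs with ⟨F, i1, i2, hF, ⟨e⟩⟩ | ⟨F, i1, i2, hF, ⟨e⟩⟩ |
    ⟨F, i1, i2, m, hm, hF, ⟨e⟩⟩ | ⟨S, _, hS, -, F, _, _, hF, ⟨e⟩⟩
  · obtain ⟨c1, c2, c3, c4, c5⟩ := card_psl2_cases (F := F)
    have hc := Nat.card_congr e.toEquiv
    have hq' := (he.quotient _).of_equiv e
    rcases hF with hF | ⟨n, hn, hF⟩ | ⟨hp', h7', k, hk⟩
    · obtain ⟨f⟩ := S0254.result hF
      have := eq_bot_of_nine_dvd he.isCIT hO (by rw [hc, c4 hF]; norm_num) fun x hx => by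
        have := hq x
        omega
      exact Or.inl ⟨((QuotientGroup.quotientBot.symm.trans
        (QuotientGroup.quotientMulEquivOfEq this.symm)).trans e).trans f⟩
    · rcases hq'.psl2_even hn hF with h1 | h1
      · obtain ⟨f⟩ := S0252.result h1
        have : IsSimpleGroup (G ⧸ pCore 2 G) := (e.trans f).isSimpleGroup
        refine Or.inr ⟨isElementaryAbelian_of_isCIT he.isCIT hO (fun h0 => hs ?_)
          (by rw [hc, c1 h1]; norm_num), ⟨e.trans f⟩⟩
        exact Cor.isSolvable_of_normal_quotient _ (Cor.isSolvable_of_isPGroup hO)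
          (Group.isSolvable_of_comm h0.is_comm.comm)
      · exact absurd (by norm_num) (h7 _ (hc.trans (c3 h1)))
    · rcases hq'.psl2_prime hp' h7' hk with h1 | h1
      · exact absurd (by norm_num) (h7 _ (hc.trans (c2 h1)))
      · have := hp _ 17 (hc.trans (c5 h1)) (by norm_num) (by norm_num)
        omega
  · exact absurd (by norm_num) (h7 _ ((Nat.card_congr e.toEquiv).trans (Recog.card_psl3_four hF)))
  · exact absurd ((Recog.dvd_card_quotient_iff Nat.prime_three (by norm_num)).2 h3)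
      ((Chev.lieSzModel hm hF).ofEquiv e).not_three_dvd_card
  · obtain ⟨x, hx⟩ := exists_orderOf_eight (he.isCIT.quotient _ hO) S hS hF e
    have := hq x
    omega

end Cfsg.Lib.CITCor
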