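/-
Field lemmas for the modules of the Suzuki groups: products of two field automorphisms, homogeneous
additive functions, semilinear components of additive maps.
-/
import Cfsg.Agent.Chev.SuzukiModel

set_option autoImplicit false

open Matrix

namespace Cfsg.Lib.CITCor.Mart

open Cfsg.Lib.Chev

variable {F : Type*} [Field F]

theorem two_term {φ₁ φ₂ φ₃ φ₄ : F →+* F} (h : ∀ s, s ≠ 0 → φ₁ s * φ₂ s = φ₃ s * φ₄ s) :
    (φ₃ = φ₁ ∧ φ₄ = φ₂) ∨ (φ₃ = φ₂ ∧ φ₄ = φ₁) := by
  have h0 : ∀ s, φ₁ s * φ₂ s = φ₃ s * φ₄ s := fun s => by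
    by_cases hs : s = 0
    · simp [hs]
    · exact h s hs
  have h1 : ∀ s, φ₁ s + φ₂ s = φ₃ s + φ₄ s := fun s => by
    have a := h0 s
    have b := h0 (s + 1)
    simp only [map_add, map_one] at b
    linear_combination b - a
  have h2 : ∀ s, φ₃ s = φ₁ s ∨ φ₃ s = φ₂ s := fun s => by
    have : (φ₃ s - φ₁ s) * (φ₃ s - φ₂ s) = 0 := by
      linear_combination h0 s - φ₃ s * h1 s
    exact (mul_eq_zero.1 this).imp sub_eq_zero.1 sub_eq_zero.1
  have h3 : φ₃ = φ₁ ∨ φ₃ = φ₂ := by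
    by_contra hc
    rw [not_or, RingHom.ext_iff, RingHom.ext_iff, not_forall, not_forall] at hc
    obtain ⟨⟨s, hs⟩, t, ht⟩ := hc
    have a := (h2 s).resolve_left hs
    have b := (h2 t).resolve_right ht
    rcases h2 (s + t) with c | c <;> simp only [map_add] at c
    · exact hs (by linear_combination c - b)
    · exact ht (by linear_combination c - a)
  rcases h3 with e | e
  · exact Or.inl ⟨e, RingHom.ext fun s => by have := h1 s; rw [e] at this; linear_combination -this⟩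
  · exact Or.inr ⟨e, RingHom.ext fun s => by have := h1 s; rw [e] at this; linear_combination -this⟩

theorem one_term (τ : Tw F) {φ₁ φ₂ χ : F →+* F} (h : ∀ s, s ≠ 0 → φ₁ s * φ₂ s = χ s) :
    φ₁ = φ₂ := by
  have h0 : ∀ s, φ₁ s * φ₂ s = χ s := fun s => by
    by_cases hs : s = 0
    · simp [hs]
    · exact h s hs
  refine RingHom.ext fun s => τ.add_eq_zero.1 ?_
  have a := h0 s
  have b := h0 (s + 1)
  simp only [map_add, map_one] at b
  linear_combination b - a

/-- A homogeneous additive function is a multiple of a field endomorphism. -/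
theorem exists_ringHom_of_homog {g β κ : F → F} (hg : ∀ x y, g (x + y) = g x + g y)
    (hβ : ∀ μ, μ ≠ 0 → ∃ l, l ≠ 0 ∧ β l = μ) (h : ∀ l, l ≠ 0 → ∀ b, g (β l * b) = κ l * g b)
    {b₀ : F} (h0 : g b₀ ≠ 0) : ∃ χ : F →+* F, ∀ l, l ≠ 0 → χ (β l) = κ l := by
  have z : g 0 = 0 := by simpa using hg 0 0
  have h1 : g 1 ≠ 0 := fun e => h0 (by
    by_cases hb : b₀ = 0
    · rw [hb, z]
    · obtain ⟨l, hl, rfl⟩ := hβ _ hb
      rw [← mul_one (β l), h l hl, e, mul_zero])
  have h2 : ∀ l, l ≠ 0 → g (β l) / g 1 = κ l := fun l hl => by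
    rw [← mul_one (β l), h l hl, mul_div_cancel_right₀ _ h1]
  refine ⟨{ toFun := fun x => g x / g 1
            map_one' := div_self h1
            map_mul' := fun x y => ?_
            map_zero' := by rw [z, zero_div]
            map_add' := fun x y => by rw [hg, add_div] }, h2⟩
  by_cases hx : x = 0
  · simp [hx, z]
  · obtain ⟨l, hl, rfl⟩ := hβ _ hx
    rw [h2 l hl, h l hl, mul_div_assoc]

theorem exists_big {τ : Tw F} (big : ∃ x, τ.θ x ≠ x ^ 2) : ∃ x : F, x ≠ 0 ∧ x ≠ 1 ∧ x + 1 ≠ 0 := by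
  obtain ⟨x, hx⟩ := big
  refine ⟨x, ?_, ?_, ?_⟩
  · rintro rfl; simp at hx
  · rintro rfl; simp at hx
  · intro h
    rw [τ.add_eq_zero.1 h] at hx
    simp at hx

theorem theta_ne_id {τ : Tw F} (big : ∃ x, τ.θ x ≠ x ^ 2) : ¬ ∀ x, τ.θ x = x := fun h => by
  obtain ⟨x, hx⟩ := big
  exact hx (by rw [← τ.θθ, h (τ.θ x)])

theorem not_mul_eq_one {τ : Tw F} (big : ∃ x, τ.θ x ≠ x ^ 2) {φ ψ : F →+* F} :
    ¬ ∀ s, s ≠ 0 → φ s * ψ s = 1 := fun h => by
  have h1 : ∀ s : F, s ≠ 0 → s + 1 ≠ 0 → φ s = 1 + ψ s := fun s hs hs' => by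
    have a := h s hs
    have b := h _ hs'
    simp only [map_add, map_one] at b
    have := τ.two
    linear_combination b - a - (ψ s + 1) * this
  have h2 : ∀ s : F, s ≠ 0 → s + 1 ≠ 0 → s * s + s + 1 = 0 := fun s hs hs' => by
    apply ψ.injective
    have a := h s hs
    rw [h1 s hs hs'] at a
    have := τ.two
    simp only [map_add, map_mul, map_one, map_zero]
    linear_combination a + this
  obtain ⟨x, hx, -, hx'⟩ := exists_big big
  have e := h2 x hx hx'
  have t0 : τ.θ x ≠ 0 := by simpa using hx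
  have t1 : τ.θ x + 1 ≠ 0 := by rw [← map_one τ.θ, ← map_add]; exact (_root_.map_ne_zero _).2 hx'
  have hall : ∀ s : F, s = 0 ∨ s = 1 ∨ s = x ∨ s = x + 1 := fun s => by
    by_cases hs : s = 0
    · exact Or.inl hs
    by_cases hs' : s + 1 = 0
    · exact Or.inr (Or.inl (τ.add_eq_zero.1 hs'))
    have := τ.two
    have e' : (s + x) * (s + (x + 1)) = 0 := by
      linear_combination h2 s hs hs' + e + (s * x - 1) * this
    exact Or.inr (Or.inr ((mul_eq_zero.1 e').imp τ.add_eq_zero.1 τ.add_eq_zero.1))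
  have hθ := τ.θθ x
  have h2' := τ.two
  rcases hall (τ.θ x) with c | c | c | c
  · exact t0 c
  · exact t1 (by rw [c]; linear_combination h2')
  · rw [c, c] at hθ
    have : x * (x + 1) = 0 := by linear_combination -hθ + x * h2'
    exact (mul_eq_zero.1 this).elim hx hx'
  · rw [c, map_add, c, map_one] at hθ
    have : x * (x + 1) = 0 := by linear_combination -hθ + (x + 1) * h2'
    exact (mul_eq_zero.1 this).elim hx hx'

/-- An additive function that is constant on the non-zero elements vanishes. -/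
theorem eq_zero_of_const {τ : Tw F} (big : ∃ x, τ.θ x ≠ x ^ 2) {g : F → F}
    (hg : ∀ x y, g (x + y) = g x + g y) {c : F} (h : ∀ x, x ≠ 0 → g x = c) : c = 0 := by
  obtain ⟨x, hx, -, hx'⟩ := exists_big big
  have := hg x 1
  rw [h _ hx', h _ hx, h _ one_ne_zero] at this
  linear_combination -this

theorem zmod_two_cases : ∀ z : ZMod 2, z = 0 ∨ z = 1 := by decide

variable [Fintype F] [DecidableEq F]

theorem card_units_cast (τ : Tw F) : (Fintype.card Fˣ : F) = 1 := by
  rw [Fintype.card_units, Nat.cast_sub Fintype.card_pos, FiniteField.cast_card_eq_zero, zero_sub,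
    Nat.cast_one, τ.neg_eq]

/-- The semilinear components of an additive map add up to it. -/
theorem exists_decomp (τ : Tw F) : ∃ s : Finset (F →+* F), ∀ c : F →+ (Fin 4 → F),
    ∑ φ ∈ s, ∑ t : Fˣ, (φ t)⁻¹ • c t = c 1 := by
  classical
  have : CharP F 2 := CharTwo.of_one_ne_zero_of_two_eq_zero one_ne_zero τ.two
  let : Algebra (ZMod 2) F := ZMod.algebra F 2
  have := Fact.mk Nat.prime_two
  refine ⟨Finset.univ.image fun σ : F ≃ₐ[ZMod 2] F => (σ : F →+* F), fun c => ?_⟩
  rw [Finset.sum_image fun σ _ σ' _ e => AlgEquiv.ext fun x => RingHom.congr_fun e x,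
    Finset.sum_comm]
  have h1 : ∀ t : Fˣ, ∑ σ : F ≃ₐ[ZMod 2] F, ((σ : F →+* F) t)⁻¹ • c t =
      c (∑ σ : F ≃ₐ[ZMod 2] F, σ (t⁻¹ : Fˣ) * t) := fun t => by
    rw [← Finset.sum_smul, ← Finset.sum_mul]
    simp only [RingHom.coe_coe, ← map_inv₀, Units.val_inv_eq_inv_val]
    rw [← trace_eq_sum_automorphisms]
    generalize Algebra.trace (ZMod 2) F (t : F)⁻¹ = z
    obtain rfl | rfl := zmod_two_cases z
    · rw [map_zero, zero_smul, zero_mul, map_zero]
    · rw [map_one, one_smul, one_mul]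
  simp only [h1]
  rw [← map_sum, Finset.sum_comm]
  congr 1
  rw [Finset.sum_eq_single 1 (fun σ _ hσ => ?_) (by simp)]
  · simp [card_units_cast τ]
  · let f : Fˣ →* F :=
      { toFun := fun t => σ (t⁻¹ : Fˣ) * t
        map_one' := by simp
        map_mul' := fun a b => by simp only [mul_inv, Units.val_mul, map_mul]; ring }
    refine sum_hom_units_eq_zero f fun e => hσ (AlgEquiv.ext fun x => ?_)
    by_cases hx : x = 0
    · simp [hx]
    · have := DFunLike.congr_fun e (Units.mk0 x hx)⁻¹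
      simp only [f, MonoidHom.coe_mk, OneHom.coe_mk, inv_inv, Units.val_mk0, MonoidHom.one_apply,
        Units.val_inv_eq_inv_val] at this
      rw [AlgEquiv.one_apply]
      field_simp at this
      exact this

/-- The matrix of the `φ`-semilinear component of an additive map. -/
def mat (φ : F →+* F) (c : (Fin 4 → F) →+ (Fin 4 → F)) : Matrix (Fin 4) (Fin 4) F :=
  Matrix.of fun i j => (∑ t : Fˣ, (φ t)⁻¹ • c ((t : F) • Pi.single j 1)) i

theorem mat_mulVec (φ : F →+* F) (c : (Fin 4 → F) →+ (Fin 4 → F)) (v : Fin 4 → F) :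
    mat φ c *ᵥ (φ ∘ v) = ∑ t : Fˣ, (φ t)⁻¹ • c ((t : F) • v) := by
  have key : ∀ (s : F) (u : Fin 4 → F), ∑ t : Fˣ, (φ t)⁻¹ • c ((t : F) • s • u) =
      φ s • ∑ t : Fˣ, (φ t)⁻¹ • c ((t : F) • u) := fun s u => by
    by_cases hs : s = 0
    · simp [hs]
    · rw [Finset.smul_sum]
      refine Fintype.sum_equiv (Equiv.mulRight (Units.mk0 s hs)) _ _ fun t => ?_
      have : φ s ≠ 0 := by simpa using hs
      simp only [Equiv.coe_mulRight, Units.val_mul, Units.val_mk0, map_mul, smul_smul]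
      congr 1
      field_simp
  have hv : v = ∑ j, v j • (Pi.single j 1 : Fin 4 → F) := by
    ext i; simp [Finset.sum_apply, Pi.single_apply]
  conv_rhs => rw [hv]
  simp only [Finset.smul_sum, map_sum]
  rw [Finset.sum_comm]
  simp only [key]
  ext i
  simp [mat, Matrix.mulVec, dotProduct, Finset.sum_apply, mul_comm]

theorem exists_sum_mat (τ : Tw F) : ∃ s : Finset (F →+* F), ∀ (c : (Fin 4 → F) →+ (Fin 4 → F))
    (v : Fin 4 → F), ∑ φ ∈ s, mat φ c *ᵥ (φ ∘ v) = c v := by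
  obtain ⟨s, hs⟩ := exists_decomp τ
  refine ⟨s, fun c v => ?_⟩
  have := hs (c.comp (LinearMap.toSpanSingleton F _ v).toAddMonoidHom)
  simpa [mat_mulVec] using this

omit [Fintype F] [DecidableEq F] in
theorem ext_of_comp (φ : F →+* F) {A B : Matrix (Fin 4) (Fin 4) F}
    (h : ∀ v : Fin 4 → F, A *ᵥ (φ ∘ v) = B *ᵥ (φ ∘ v)) : A = B := by
  ext i j
  have e : (φ ∘ (Pi.single j 1 : Fin 4 → F)) = Pi.single j 1 := by
    ext k; by_cases hk : k = j <;> simp [Pi.single_apply, hk]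
  simpa [e] using congrFun (h (Pi.single j 1)) i

omit [Fintype F] [DecidableEq F] in
theorem comp_mulVec (φ : F →+* F) (A : Matrix (Fin 4) (Fin 4) F) (v : Fin 4 → F) :
    φ ∘ (A *ᵥ v) = A.map φ *ᵥ (φ ∘ v) := by
  ext i; exact RingHom.map_mulVec φ A v i

/-- The components are natural for linear maps. -/
theorem mat_eq (φ : F →+* F) {c c₁ c₂ : (Fin 4 → F) →+ (Fin 4 → F)} (A B : Matrix (Fin 4) (Fin 4) F)
    (h : ∀ v, c v = c₁ (B *ᵥ v) + A *ᵥ c₂ v) :
    mat φ c = mat φ c₁ * B.map φ + A * mat φ c₂ := by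
  refine ext_of_comp φ fun v => ?_
  rw [add_mulVec, ← mulVec_mulVec, ← mulVec_mulVec, ← comp_mulVec, mat_mulVec, mat_mulVec,
    mat_mulVec, mulVec_sum, ← Finset.sum_add_distrib]
  refine Finset.sum_congr rfl fun t _ => ?_
  rw [h, smul_add, mulVec_smul, mulVec_smul]

end Cfsg.Lib.CITCor.Mart
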