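/-
Extensions between the twists of the natural module of a Suzuki group split.
-/
import Cfsg.Agent.CITCor.SzField

set_option autoImplicit false

open Matrix

namespace Cfsg.Lib.CITCor.Mart

open Cfsg.Lib.Chev

variable {F : Type*} [Field F] {τ : Tw F} {H : Type*} [Group H] (M : SzModel τ H)

/-- The twisted natural representation. -/
noncomputable def tw (φ : F →+* F) (g : H) : Matrix (Fin 4) (Fin 4) F := (M.ρ g).map φ

theorem tw_mul (φ : F →+* F) (g h : H) : tw M φ (g * h) = tw M φ g * tw M φ h := by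
  rw [tw, map_mul, Matrix.map_mul]; rfl

theorem tw_one (φ : F →+* F) : tw M φ 1 = 1 := by simp [tw]

theorem tw_id (g : H) : tw M (RingHom.id F) g = M.ρ g := by simp [tw]

theorem tw_T (φ : F →+* F) (a b : F) : tw M φ (M.T a b) =
    !![1, φ a, φ (b + τ.θ a * a), φ (τ.N a b); 0, 1, φ (τ.θ a), φ b; 0, 0, 1, φ a; 0, 0, 0, 1] := by
  ext i j
  fin_cases i <;> fin_cases j <;> simp [tw, Tw.Tm]

theorem tw_Z (φ : F →+* F) (b : F) : tw M φ (M.T 0 b) =
    !![1, 0, φ b, φ (τ.θ b); 0, 1, 0, φ b; 0, 0, 1, 0; 0, 0, 0, 1] := by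
  rw [tw_T]; simp [Tw.N]

theorem tw_w (φ : F →+* F) : tw M φ M.w = szJ F := by
  ext i j
  fin_cases i <;> fin_cases j <;> simp [tw, szJ]

theorem tw_form (φ : F →+* F) (g : H) : (tw M φ g)ᵀ * szJ F * tw M φ g = szJ F := by
  have := congrArg (fun A => A.map φ) (M.ρ_form g)
  simp only [Matrix.map_mul, transpose_map] at this
  rwa [← M.ρ_w, ← tw, ← tw, tw_w] at this

/-- The weights of the torus. -/
noncomputable def hv (τ : Tw F) (l : F) : Fin 4 → F := ![l, τ.θ l / l, l / τ.θ l, l⁻¹]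

/-- The torus, parametrised by the first weight. -/
noncomputable def tor {l : F} (hl : l ≠ 0) : H :=
  M.D (Units.mk0 (τ.θ l / l) (div_ne_zero (by simpa using hl) hl))

theorem tw_tor (φ : F →+* F) {l : F} (hl : l ≠ 0) :
    tw M φ (tor M hl) = diagonal (φ ∘ hv τ l) := by
  have h : τ.θ l ≠ 0 := by simpa using hl
  have e : τ.θ (τ.θ l / l) * (τ.θ l / l) = l := by rw [map_div₀, τ.θθ]; field_simp
  rw [tw, tor, M.ρ_D, Tw.Dm, Units.val_mk0, e, inv_div, diagonal_map (map_zero φ)]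
  rfl

theorem tor_mul_T {l : F} (hl : l ≠ 0) (a b : F) :
    tor M hl * M.T a b = M.T (l ^ 2 / τ.θ l * a) (τ.θ l * b) * tor M hl := by
  have h : τ.θ l ≠ 0 := by simpa using hl
  rw [tor, M.D_mul_T, Units.val_mk0, map_div₀, τ.θθ]
  congr 3
  field_simp

theorem exists_tor (l : Fˣ) : ∃ (k : F) (hk : k ≠ 0), M.D l = tor M hk := by
  have h : τ.θ l ≠ 0 := by simp
  refine ⟨τ.θ l * l, mul_ne_zero h l.ne_zero, congrArg M.D (Units.ext ?_)⟩
  rw [Units.val_mk0, map_mul, τ.θθ]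
  field_simp

theorem T_mulVec (φ : F →+* F) (a b : F) (v : Fin 4 → F) : tw M φ (M.T a b) *ᵥ v =
    ![v 0 + φ a * v 1 + φ (b + τ.θ a * a) * v 2 + φ (τ.N a b) * v 3,
      v 1 + φ (τ.θ a) * v 2 + φ b * v 3, v 2 + φ a * v 3, v 3] := by
  ext i
  fin_cases i <;> simp [tw_T, mulVec, dotProduct, Fin.sum_univ_four]

theorem w_mulVec (φ : F →+* F) (v : Fin 4 → F) : tw M φ M.w *ᵥ v = ![v 3, v 2, v 1, v 0] := by
  rw [tw_w, szJ_mulVec]

theorem mul_mulVec (φ : F →+* F) (g h : H) (v : Fin 4 → F) :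
    tw M φ (g * h) *ᵥ v = tw M φ g *ᵥ (tw M φ h *ᵥ v) := by rw [tw_mul, mulVec_mulVec]

theorem tor_mulVec (φ : F →+* F) {l : F} (hl : l ≠ 0) (v : Fin 4 → F) (i : Fin 4) :
    (tw M φ (tor M hl) *ᵥ v) i = φ (hv τ l i) * v i := by
  rw [tw_tor, mulVec_diagonal]; rfl

theorem eq_zero_of_row (φ : F →+* F) {v : Fin 4 → F} (h : ∀ g, (tw M φ g *ᵥ v) 3 = 0) : v = 0 := by
  have a := h 1
  have b := h M.w
  have c := h (M.w * M.T 0 1)
  have d := h (M.w * M.T 1 0)
  simp only [mul_mulVec, w_mulVec, T_mulVec, tw_one, one_mulVec] at a b c d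
  simp [Tw.N] at b c d
  simp only [a, b, zero_add, add_zero] at c d
  simp only [c, add_zero] at d
  ext i
  fin_cases i <;> simp [*]

theorem eq_top_of_col (φ : F →+* F) {P : Submodule F (Fin 4 → F)}
    (h : ∀ g, tw M φ g *ᵥ ![1, 0, 0, 0] ∈ P) (v : Fin 4 → F) : v ∈ P := by
  have e : v = (v 0 - v 1 - v 2) • (tw M φ 1 *ᵥ ![1, 0, 0, 0]) +
      (v 3 - v 1 - v 2) • (tw M φ M.w *ᵥ ![1, 0, 0, 0]) +
      v 1 • (tw M φ (M.T 0 1 * M.w) *ᵥ ![1, 0, 0, 0]) +
      v 2 • (tw M φ (M.T 1 0 * M.w) *ᵥ ![1, 0, 0, 0]) := by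
    simp only [mul_mulVec, w_mulVec, T_mulVec, tw_one, one_mulVec]
    ext i
    fin_cases i <;> simp [Tw.N] <;> ring
  rw [e]
  exact add_mem (add_mem (add_mem (P.smul_mem _ (h _)) (P.smul_mem _ (h _))) (P.smul_mem _ (h _)))
    (P.smul_mem _ (h _))

/-- Intertwiners for the unipotent subgroup between different twists. -/
theorem eq_of_intertwine {φ : F →+* F} (hφ : φ ≠ RingHom.id F) {C : Matrix (Fin 4) (Fin 4) F}
    (h : ∀ a b, M.ρ (M.T a b) * C = C * tw M φ (M.T a b)) :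
    C = !![0, 0, 0, C 0 3; 0, 0, 0, 0; 0, 0, 0, 0; 0, 0, 0, 0] := by
  obtain ⟨a, ha⟩ : ∃ a, φ a ≠ a := by
    by_contra hc
    push Not at hc
    exact hφ (RingHom.ext hc)
  have key : ∀ {x y : F}, x = y → a * x = y * φ a → x = 0 := fun {x y} e1 e2 => by
    have : (φ a - a) * x = 0 := by rw [← e1] at e2; linear_combination -e2
    exact (mul_eq_zero.1 this).resolve_left (sub_ne_zero.2 ha)
  have z1 := fun i j => congrFun (congrFun (h 0 1) i) j
  have za := fun i j => congrFun (congrFun (h 0 a) i) j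
  have s1 := fun i j => congrFun (congrFun (h 1 0) i) j
  have sa := fun i j => congrFun (congrFun (h a 0) i) j
  simp only [← tw_id, tw_Z, tw_T, Matrix.mul_apply, Fin.sum_univ_four] at z1 za s1 sa
  have c30 : C 3 0 = 0 := by simpa using z1 1 0
  have c31 : C 3 1 = 0 := by simpa using z1 1 1
  have c20 : C 2 0 = 0 := by simpa [c30] using z1 0 0
  have c21 : C 2 1 = 0 := by simpa [c31] using z1 0 1
  have c10 : C 1 0 = 0 := by simpa [c20, c30] using s1 0 0
  have c32 : C 3 2 = 0 := by simpa [c10] using z1 1 2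
  have c11 : C 1 1 = 0 := key (y := C 0 0)
    (by have := s1 0 1; simp [c21, c31] at this; linear_combination this)
    (by have := sa 0 1; simp [c21, c31] at this; linear_combination this)
  have c00 : C 0 0 = 0 := by simpa [c21, c31, c11] using (s1 0 1).symm
  have c33 : C 3 3 = 0 := by simpa [c10, c11] using z1 1 3
  have c22 : C 2 2 = 0 := by simpa [c00, c32] using z1 0 2
  have c23 : C 2 3 = 0 := key (y := C 0 1)
    (by have := z1 0 3; simp [c33, c00] at this; linear_combination this)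
    (by have := za 0 3; simp [c33, c00] at this; linear_combination this)
  have c01 : C 0 1 = 0 := by simpa [c33, c00, c23] using (z1 0 3).symm
  have c12 : C 1 2 = 0 := by simpa [c22, c32, c00, c01] using s1 0 2
  have c13 : C 1 3 = 0 := key (y := C 0 2)
    (by have := s1 0 3; simp [c23, c33, c00, c01] at this; linear_combination this)
    (by have := sa 0 3; simp [c23, c33, c00, c01] at this; linear_combination this)
  have c02 : C 0 2 = 0 := by simpa [c23, c33, c00, c01, c13] using (s1 0 3).symm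
  ext i j
  fin_cases i <;> fin_cases j <;> simp [*]

theorem madd_self (τ : Tw F) (A : Matrix (Fin 4) (Fin 4) F) : A + A = 0 := by
  ext i j; exact τ.add_self _

/-- Cocycles describing extensions of twisted natural modules. -/
def Coc (φ ψ : F →+* F) (C : H → Matrix (Fin 4) (Fin 4) F) : Prop :=
  ∀ g h, C (g * h) = C g * tw M φ h + tw M ψ g * C h

/-- Coboundaries. -/
def Cob (φ ψ : F →+* F) (C : H → Matrix (Fin 4) (Fin 4) F) : Prop :=
  ∃ D, ∀ g, C g = tw M ψ g * D + D * tw M φ g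

variable {M} {φ ψ : F →+* F} {C : H → Matrix (Fin 4) (Fin 4) F}

theorem Coc.one (h : Coc M φ ψ C) : C 1 = 0 := by
  have := h 1 1
  rw [mul_one, tw_one, tw_one, mul_one, one_mul] at this
  simpa using this

theorem Coc.add (h : Coc M φ ψ C) (D : Matrix (Fin 4) (Fin 4) F) :
    Coc M φ ψ fun g => C g + (tw M ψ g * D + D * tw M φ g) := fun g k => by
  have := madd_self τ (tw M ψ g * D * tw M φ k)
  simp only [h g k, tw_mul, mul_add, add_mul, mul_assoc] at this ⊢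
  rw [← add_zero (_ + _ + _), ← this]
  abel

theorem Cob.of_add {D : Matrix (Fin 4) (Fin 4) F}
    (h : Cob M φ ψ fun g => C g + (tw M ψ g * D + D * tw M φ g)) : Cob M φ ψ C := by
  obtain ⟨E, hE⟩ := h
  refine ⟨E + D, fun g => ?_⟩
  have := madd_self τ (tw M ψ g * D + D * tw M φ g)
  have e : C g + (tw M ψ g * D + D * tw M φ g) = _ := hE g
  rw [mul_add, add_mul, ← add_zero (C g), ← this, ← add_assoc, e]
  abel

theorem J_mul_tw (χ : F →+* F) (x : H) : szJ F * (tw M χ x⁻¹)ᵀ = tw M χ x * szJ F := by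
  calc _ = szJ F * ((tw M χ x⁻¹)ᵀ * szJ F * tw M χ x⁻¹) * tw M χ x * szJ F := by
        simp only [mul_assoc]
        rw [← mul_assoc (tw M χ x⁻¹), ← tw_mul, inv_mul_cancel, tw_one, one_mul, szJ_mul_szJ,
          mul_one]
    _ = _ := by rw [tw_form, szJ_mul_szJ, one_mul]

theorem tw_mul_J (χ : F →+* F) (x : H) : (tw M χ x⁻¹)ᵀ * szJ F = szJ F * tw M χ x := by
  calc _ = szJ F * (szJ F * (tw M χ x⁻¹)ᵀ) * szJ F := by rw [← mul_assoc, szJ_mul_szJ, one_mul]
    _ = _ := by rw [J_mul_tw, mul_assoc, mul_assoc, szJ_mul_szJ, mul_one]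

theorem Coc.dual (h : Coc M φ ψ C) : Coc M ψ φ fun g => szJ F * (C g⁻¹)ᵀ * szJ F := fun g k => by
  simp only [_root_.mul_inv_rev, h k⁻¹ g⁻¹, transpose_add, transpose_mul, mul_add, add_mul]
  rw [add_comm, ← mul_assoc, ← mul_assoc, J_mul_tw, mul_assoc _ (tw M ψ k⁻¹)ᵀ, tw_mul_J]
  simp only [mul_assoc]

theorem Cob.of_dual (h : Cob M ψ φ fun g => szJ F * (C g⁻¹)ᵀ * szJ F) : Cob M φ ψ C := by
  obtain ⟨D, hD⟩ := h
  refine ⟨szJ F * Dᵀ * szJ F, fun g => ?_⟩
  have e := congrArg (fun A => szJ F * Aᵀ * szJ F) (hD g⁻¹)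
  simp only [inv_inv, transpose_mul, transpose_transpose, szJ_transpose, transpose_add, mul_add,
    add_mul] at e
  rw [← mul_assoc, szJ_mul_szJ, one_mul, mul_assoc, szJ_mul_szJ, mul_one] at e
  rw [e, add_comm, ← mul_assoc, ← mul_assoc, J_mul_tw, mul_assoc _ (tw M φ g⁻¹)ᵀ, tw_mul_J]
  simp only [mul_assoc]

theorem Coc.exists_tor [Fintype F] [DecidableEq F] (h : Coc M φ ψ C) :
    ∃ D, ∀ l, C (M.D l) + (tw M ψ (M.D l) * D + D * tw M φ (M.D l)) = 0 := by
  refine ⟨∑ k : Fˣ, C (M.D k) * tw M φ (M.D k⁻¹), fun l => ?_⟩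
  have h1 : ∀ k, C (M.D l) + tw M ψ (M.D l) * (C (M.D k) * tw M φ (M.D k⁻¹)) =
      C (M.D (l * k)) * tw M φ (M.D (l * k)⁻¹) * tw M φ (M.D l) := fun k => by
    rw [mul_assoc, ← tw_mul, ← map_mul, show (l * k)⁻¹ * l = k⁻¹ by simp, map_mul, h, add_mul,
      mul_assoc, ← tw_mul, ← map_mul, mul_inv_cancel, map_one, tw_one, mul_one, mul_assoc]
  have h2 := Finset.sum_congr rfl fun k (_ : k ∈ Finset.univ) => h1 k
  rw [Finset.sum_add_distrib, ← Finset.mul_sum, ← Finset.sum_mul, Finset.sum_const,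
    Finset.card_univ, ← Nat.cast_smul_eq_nsmul F, card_units_cast τ, one_smul,
    Fintype.sum_equiv (Equiv.mulLeft l) (fun k => C (M.D (l * k)) * tw M φ (M.D (l * k)⁻¹))
      (fun k => C (M.D k) * tw M φ (M.D k⁻¹)) fun _ => rfl] at h2
  rw [← add_assoc, h2, madd_self τ]

theorem Coc.homog (h : Coc M φ ψ C) (hD : ∀ l, C (M.D l) = 0) {l : F} (hl : l ≠ 0) (a b : F)
    (i j : Fin 4) : C (M.T (l ^ 2 / τ.θ l * a) (τ.θ l * b)) i j * φ (hv τ l j) =
      ψ (hv τ l i) * C (M.T a b) i j := by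
  have e := congrArg C (tor_mul_T M hl a b)
  rw [h, h, show C (tor M hl) = 0 from hD _, zero_mul, mul_zero, zero_add, add_zero, tw_tor,
    tw_tor] at e
  simpa using (congrFun (congrFun e i) j).symm

theorem Coc.sq_Z (h : Coc M φ ψ C) {b : F} (hb : b ≠ 0) :
    C (M.T 0 b) 2 0 = 0 ∧ C (M.T 0 b) 2 1 = 0 ∧ C (M.T 0 b) 3 0 = 0 ∧ C (M.T 0 b) 3 1 = 0 := by
  have e := h (M.T 0 b) (M.T 0 b)
  rw [M.T_mul, add_zero, τ.add_self, mul_zero, add_zero, M.T_zero, h.one] at e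
  have z := fun i j => congrFun (congrFun e i) j
  simp only [tw_Z, Matrix.add_apply, Matrix.mul_apply, Fin.sum_univ_four] at z
  have hp : ψ b ≠ 0 := by simpa using hb
  have h2 := τ.two
  have c30 : C (M.T 0 b) 3 0 = 0 := by
    have := z 1 0; simp at this; grind
  have c31 : C (M.T 0 b) 3 1 = 0 := by
    have := z 1 1; simp at this; grind
  refine ⟨?_, ?_, c30, c31⟩
  · have := z 0 0; simp at this; grind
  · have := z 0 1; simp at this; grind

theorem Coc.low_Z (h : Coc M φ ψ C) (b : F) :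
    C (M.T 0 b) 2 0 = 0 ∧ C (M.T 0 b) 2 1 = 0 ∧ C (M.T 0 b) 3 0 = 0 ∧ C (M.T 0 b) 3 1 = 0 := by
  by_cases hb : b = 0
  · simp [hb, h.one]
  · exact h.sq_Z hb

theorem Coc.add_Z (h : Coc M φ ψ C) (b b' : F) :
    C (M.T 0 (b + b')) 0 0 = C (M.T 0 b) 0 0 + C (M.T 0 b') 0 0 ∧
    C (M.T 0 (b + b')) 0 1 = C (M.T 0 b) 0 1 + C (M.T 0 b') 0 1 ∧
    C (M.T 0 (b + b')) 1 1 = C (M.T 0 b) 1 1 + C (M.T 0 b') 1 1 := by
  have e := h (M.T 0 b) (M.T 0 b')
  rw [M.T_mul, add_zero, mul_zero, add_zero] at e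
  obtain ⟨h1, h2, h3, h4⟩ := h.low_Z b'
  simp only [e, tw_Z, Matrix.add_apply, Matrix.mul_apply, Fin.sum_univ_four]
  simp [h1, h2, h3, h4]

theorem Coc.comm (h : Coc M φ ψ C) (a c b : F) :
    ψ b * C (M.T a c) 3 0 = 0 ∧
    ψ b * C (M.T a c) 2 0 + ψ (τ.θ b) * C (M.T a c) 3 0 = ψ a * C (M.T 0 b) 1 0 ∧
    ψ b * C (M.T a c) 3 1 = φ a * C (M.T 0 b) 1 0 ∧
    ψ b * C (M.T a c) 2 1 + ψ (τ.θ b) * C (M.T a c) 3 1 =
      φ a * C (M.T 0 b) 0 0 + ψ a * C (M.T 0 b) 1 1 := by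
  have e : C (M.T a c * M.T 0 b) = C (M.T 0 b * M.T a c) := by
    rw [M.T_mul, M.T_mul]; simp [add_comm]
  rw [h, h] at e
  have z := fun i j => congrFun (congrFun e i) j
  obtain ⟨h1, h2, h3, h4⟩ := h.low_Z b
  simp only [tw_Z, tw_T M _ a c, Matrix.add_apply, Matrix.mul_apply, Fin.sum_univ_four] at z
  have t := τ.two
  refine ⟨?_, ?_, ?_, ?_⟩
  · have := z 1 0; simp [h1, h2, h3, h4] at this; grind
  · have := z 0 0; simp [h1, h2, h3, h4] at this; grind
  · have := z 1 1; simp [h1, h2, h3, h4] at this; grind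
  · have := z 0 1; simp [h1, h2, h3, h4] at this; grind

theorem exists_theta [Finite F] (τ : Tw F) {μ : F} (hμ : μ ≠ 0) : ∃ l, l ≠ 0 ∧ τ.θ l = μ := by
  obtain ⟨l, rfl⟩ := Finite.surjective_of_injective τ.θ_inj μ
  exact ⟨l, by simpa using hμ, rfl⟩

theorem Coc.block_Z [Finite F] (h : Coc M φ ψ C) (hD : ∀ l, C (M.D l) = 0)
    (hb : φ.comp τ.θ ≠ ψ) : ∃ y, (∀ l, l ≠ 0 → y * φ l = ψ (l / τ.θ l) * y) ∧
      ∀ b, C (M.T 0 b) 0 0 = y * ψ b ∧ C (M.T 0 b) 0 1 = 0 ∧ C (M.T 0 b) 1 0 = 0 ∧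
        C (M.T 0 b) 1 1 = 0 := by
  have hg := fun l (hl : l ≠ 0) b i j => h.homog hD hl 0 b i j
  simp only [mul_zero] at hg
  have n1 : ∀ (χ : F →+* F) {l : F}, l ≠ 0 → χ l ≠ 0 := fun χ l hl => by simpa using hl
  have n2 : ∀ (χ : F →+* F) {l : F}, l ≠ 0 → χ (τ.θ l) ≠ 0 := fun χ l hl => by simpa using hl
  have c01 : ∀ b, C (M.T 0 b) 0 1 = 0 := fun b => by
    by_contra h0
    obtain ⟨χ, hχ⟩ := exists_ringHom_of_homog (g := fun b => C (M.T 0 b) 0 1) (β := τ.θ)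
      (κ := fun l => ψ l * φ l / φ (τ.θ l)) (fun x y => (h.add_Z x y).2.1)
      (fun μ hμ => exists_theta τ hμ) (fun l hl b => by
        have e := hg l hl b 0 1
        have := n1 φ hl
        have := n2 φ hl
        simp [hv] at e
        field_simp at e ⊢
        linear_combination e) h0
    rcases two_term (φ₁ := ψ) (φ₂ := φ) (φ₃ := χ.comp τ.θ) (φ₄ := φ.comp τ.θ) (fun l hl => by
      rw [RingHom.comp_apply, RingHom.comp_apply, hχ l hl, div_mul_cancel₀ _ (n2 φ hl)]) with e | e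
    · exact theta_ne_id M.big fun x => φ.injective (RingHom.congr_fun e.2 x)
    · exact hb e.2
  have d30 : C (M.T 1 0) 3 0 = 0 := by simpa using (h.comm 1 0 1).1
  have d20 : C (M.T 1 0) 2 0 = 0 := by
    by_contra h0
    refine not_mul_eq_one M.big (φ := φ) (ψ := ψ) fun l hl => ?_
    have a := (h.comm 1 0 1).2.1
    have b := (h.comm 1 0 (τ.θ l * 1)).2.1
    have c := hg l hl 1 1 0
    have := n1 ψ hl
    have := n2 ψ hl
    simp only [d30, mul_zero, add_zero, map_one, one_mul] at a b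
    rw [← a, ← b] at c
    simp [hv] at c
    field_simp at c
    grind
  have c10 : ∀ b, C (M.T 0 b) 1 0 = 0 := fun b => by simpa [d30, d20] using (h.comm 1 0 b).2.1.symm
  have d : ∀ a b, ψ b * C (M.T a 0) 2 1 = φ a * C (M.T 0 b) 0 0 + ψ a * C (M.T 0 b) 1 1 :=
    fun a b => by
      have e : C (M.T a 0) 3 1 = 0 := by simpa [c10] using (h.comm a 0 1).2.2.1
      simpa [e] using (h.comm a 0 b).2.2.2
  by_cases e : φ = ψ
  · subst e
    have k : ∀ i : Fin 4, (∀ l, l ≠ 0 → hv τ l i ≠ 0) →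
        (∀ x y, C (M.T 0 (x + y)) i i = C (M.T 0 x) i i + C (M.T 0 y) i i) →
        ∀ b, C (M.T 0 b) i i = 0 := fun i h1 h2 b => by
      have h3 : ∀ x, x ≠ 0 → C (M.T 0 x) i i = C (M.T 0 1) i i := fun x hx => by
        obtain ⟨l, hl, rfl⟩ := exists_theta τ hx
        have := hg l hl 1 i i
        rw [mul_one, mul_comm] at this
        exact mul_left_cancel₀ (n1 φ (h1 l hl)) this
      by_cases hb0 : b = 0
      · simp [hb0, h.one]
      · rw [h3 b hb0, eq_zero_of_const M.big h2 h3]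
    refine ⟨0, by simp, fun b => ⟨?_, c01 b, c10 b, ?_⟩⟩
    · rw [zero_mul]
      exact k 0 (fun l hl => by simpa [hv] using hl) (fun x y => (h.add_Z x y).1) b
    · exact k 1 (fun l hl => by simpa [hv] using hl) (fun x y => (h.add_Z x y).2.2) b
  · obtain ⟨a, ha⟩ : ∃ a, φ a - ψ a ≠ 0 := by
      by_contra hc
      push Not at hc
      exact e (RingHom.ext fun a => sub_eq_zero.1 (hc a))
    obtain ⟨y, hy⟩ : ∃ y, ∀ b, C (M.T 0 b) 0 0 = y * ψ b :=
      ⟨(C (M.T a 0) 2 1 - ψ a * C (M.T 1 0) 2 1) / (φ a - ψ a), fun b => by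
        have h1 := d a b
        have h2 := d 1 b
        simp only [map_one, one_mul] at h2
        field_simp
        linear_combination ψ a * h2 - h1⟩
    obtain ⟨x, hx⟩ : ∃ x, ∀ b, C (M.T 0 b) 1 1 = x * ψ b :=
      ⟨C (M.T 1 0) 2 1 - y, fun b => by
        have h2 := d 1 b
        simp only [map_one, one_mul, hy] at h2
        linear_combination -h2⟩
    have x0 : x = 0 := by
      by_contra h0
      refine hb (one_term τ (χ := φ) fun l hl => ?_)
      have c := hg l hl 1 1 1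
      have := n1 ψ hl
      have := n2 ψ hl
      have := n1 φ hl
      simp [hx, hv] at c
      field_simp at c
      simpa using c
    refine ⟨y, fun l hl => ?_, fun b => ⟨hy b, c01 b, c10 b, by rw [hx, x0, zero_mul]⟩⟩
    have c := hg l hl 1 0 0
    have := n2 ψ hl
    simp [hy, hv] at c
    rw [map_div₀]
    field_simp
    linear_combination c

theorem Coc.block_T [Finite F] (h : Coc M φ ψ C) (hD : ∀ l, C (M.D l) = 0)
    (hb : φ.comp τ.θ ≠ ψ) (hZ : ∀ b, C (M.T 0 b) 0 0 = 0 ∧ C (M.T 0 b) 0 1 = 0 ∧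
      C (M.T 0 b) 1 0 = 0 ∧ C (M.T 0 b) 1 1 = 0) (a c : F) :
    C (M.T a c) 0 0 = 0 ∧ C (M.T a c) 1 0 = 0 ∧ C (M.T a c) 2 0 = 0 ∧ C (M.T a c) 3 0 = 0 ∧
      C (M.T a c) 3 1 = 0 ∧ C (M.T a c) 3 2 = 0 ∧ C (M.T a c) 3 3 = C (M.T 0 1) 1 2 * φ a := by
  have t := τ.two
  have low : ∀ a c, C (M.T a c) 3 0 = 0 ∧ C (M.T a c) 2 0 = 0 ∧ C (M.T a c) 3 1 = 0 ∧
      C (M.T a c) 2 1 = 0 := fun a c => by
    obtain ⟨h1, h2, h3, h4⟩ := h.comm a c 1
    simp only [map_one, one_mul, (hZ 1).1, (hZ 1).2.2.1, (hZ 1).2.2.2, mul_zero, add_zero] at *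
    exact ⟨h1, by simpa [h1] using h2, h3, by simpa [h3] using h4⟩
  have sq : ∀ a c, C (M.T a c) 1 0 = 0 ∧ φ a * C (M.T a c) 0 0 = ψ a * C (M.T a c) 1 1 :=
    fun a c => by
      by_cases ha : a = 0
      · simp [ha, hZ c]
      have e := h (M.T a c) (M.T a c)
      rw [M.T_mul, τ.add_self] at e
      have z := fun i j => congrFun (congrFun e i) j
      obtain ⟨h1, h2, h3, h4⟩ := low a c
      simp only [tw_T, Matrix.add_apply, Matrix.mul_apply, Fin.sum_univ_four] at z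
      have hp : φ a ≠ 0 := by simpa using ha
      constructor
      · have := z 1 1; simp [hZ, h1, h2, h3, h4] at this; grind
      · have := z 0 1; simp [hZ, h1, h2, h3, h4] at this; grind
  have ad : ∀ a c a' c', C (M.T (a + a') (c + c' + τ.θ a * a')) 0 0 =
      C (M.T a c) 0 0 + C (M.T a' c') 0 0 := fun a c a' c' => by
    rw [← M.T_mul, h]
    simp only [tw_T, Matrix.add_apply, Matrix.mul_apply, Fin.sum_univ_four]
    simp [low a' c', (sq a' c').1]
  have g0 : ∀ a c, C (M.T a c) 0 0 = C (M.T a 0) 0 0 := fun a c => by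
    simpa [hZ] using ad a 0 0 c
  have m00 : ∀ a, C (M.T a 0) 0 0 = 0 := fun a => by
    by_contra h0
    obtain ⟨χ, hχ⟩ := exists_ringHom_of_homog (g := fun a => C (M.T a 0) 0 0)
      (β := fun l => l ^ 2 / τ.θ l) (κ := fun l => ψ l / φ l)
      (fun x y => by rw [← ad x 0 y 0, g0 _ (_ + _)])
      (fun μ hμ => by
        obtain ⟨k, hk, rfl⟩ := exists_theta τ hμ
        refine ⟨τ.θ k * k, mul_ne_zero hμ hk, ?_⟩
        rw [map_mul, τ.θθ]
        field_simp) (fun l hl a => by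
        have e := h.homog hD hl a 0 0 0
        have : φ l ≠ 0 := by simpa using hl
        simp only [hv, mul_zero, Matrix.cons_val_zero] at e
        rw [div_mul_eq_mul_div (ψ l), eq_div_iff this, e]) h0
    rcases two_term (φ₁ := (χ.comp τ.θ).comp τ.θ) (φ₂ := φ) (φ₃ := ψ) (φ₄ := χ.comp τ.θ)
      (fun l hl => by
        have e := hχ l hl
        have : φ l ≠ 0 := by simpa using hl
        have : χ (τ.θ l) ≠ 0 := by simpa using hl
        rw [map_div₀] at e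
        simp only [RingHom.comp_apply, τ.θθ]
        field_simp at e
        rw [e, mul_comm]) with e | e
    · exact hb (by rw [e.1, e.2])
    · exact theta_ne_id M.big fun x =>
        (τ.θ_inj (χ.injective (RingHom.congr_fun e.2 x))).symm
  have m11 : C (M.T a c) 1 1 = 0 := by
    by_cases ha : a = 0
    · simp [ha, hZ c]
    · have := (sq a c).2
      rw [g0, m00, mul_zero] at this
      exact (mul_eq_zero.1 this.symm).resolve_left (by simpa using ha)
  have e := h (M.T 0 1) (M.T 0 1)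
  rw [M.T_mul, add_zero, τ.add_self, mul_zero, add_zero, M.T_zero, h.one] at e
  have z := fun i j => congrFun (congrFun e i) j
  simp only [tw_Z, Matrix.add_apply, Matrix.mul_apply, Fin.sum_univ_four] at z
  have c32 : C (M.T 0 1) 3 2 = 0 := by have := z 1 2; simp [hZ] at this; grind
  have c33 : C (M.T 0 1) 3 3 = 0 := by have := z 1 3; simp [hZ] at this; grind
  have c22 : C (M.T 0 1) 2 2 = 0 := by have := z 0 2; simp [hZ] at this; grind
  have c23 : C (M.T 0 1) 2 3 = 0 := by have := z 0 3; simp [hZ] at this; grind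
  have e' : C (M.T a c * M.T 0 1) = C (M.T 0 1 * M.T a c) := by
    rw [M.T_mul, M.T_mul]; simp [add_comm]
  rw [h, h] at e'
  have z' := fun i j => congrFun (congrFun e' i) j
  simp only [tw_Z, tw_T M _ a c, Matrix.add_apply, Matrix.mul_apply, Fin.sum_univ_four] at z'
  refine ⟨by rw [g0, m00], (sq a c).1, (low a c).2.1, (low a c).1, (low a c).2.2.1, ?_, ?_⟩
  · have := z' 1 2; simp [hZ, c32, c22, (sq a c).1] at this; grind
  · have := z' 1 3; simp [hZ, c33, c23, (sq a c).1, m11] at this; grind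

theorem Coc.cob_of_block (h : Coc M φ ψ C) (hD : ∀ l, C (M.D l) = 0) {c₀ : F}
    (hT : ∀ a c, C (M.T a c) 0 0 = 0 ∧ C (M.T a c) 1 0 = 0 ∧ C (M.T a c) 2 0 = 0 ∧
      C (M.T a c) 3 0 = 0 ∧ C (M.T a c) 3 1 = 0 ∧ C (M.T a c) 3 2 = 0 ∧
      C (M.T a c) 3 3 = c₀ * φ a) : Cob M φ ψ C := by
  let ξ : (Fin 4 → F) → (Fin 4 → F) → F := fun w v => w 3 + c₀ * v 2 + C M.w 3 0 * v 3
  let Ξ : H → (Fin 4 → F) → (Fin 4 → F) → F := fun g w v =>
    ξ (tw M ψ g *ᵥ w + C g *ᵥ v) (tw M φ g *ᵥ v)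
  have t := τ.two
  have hm : ∀ g k w v, Ξ (g * k) w v = Ξ g (tw M ψ k *ᵥ w + C k *ᵥ v) (tw M φ k *ᵥ v) :=
    fun g k w v => by
      simp only [Ξ, h g k, mul_mulVec, add_mulVec, mulVec_add, ← mulVec_mulVec]
      congr 1
      abel
  have hs : ∀ a c w v, Ξ (M.T a c) w v = ξ w v := fun a c w v => by
    obtain ⟨-, -, -, h1, h2, h3, h4⟩ := hT a c
    simp only [Ξ, ξ, T_mulVec, Pi.add_apply]
    simp [mulVec, dotProduct, Fin.sum_univ_four, h1, h2, h3, h4]
    grind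
  have hB : ∀ a c l, ∃ r : F, C (M.T a c * M.D l) *ᵥ ![1, 0, 0, 0] = 0 ∧
      tw M φ (M.T a c * M.D l) *ᵥ ![1, 0, 0, 0] = ![r, 0, 0, 0] := fun a c l => by
    obtain ⟨h1, h2, h3, h4, -⟩ := hT a c
    have e : tw M φ (M.D l) *ᵥ ![1, 0, 0, 0] = ![φ (τ.θ l * l), 0, 0, 0] := by
      ext i
      fin_cases i <;> simp [tw, Tw.Dm, diagonal_map, mulVec_diagonal]
    refine ⟨φ (τ.θ l * l), ?_, ?_⟩
    · rw [h, hD, mul_zero, add_zero, ← mulVec_mulVec, e]
      ext i
      fin_cases i <;> simp [mulVec, dotProduct, Fin.sum_univ_four, h1, h2, h3, h4]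
    · rw [mul_mulVec, e, T_mulVec]
      simp
  have h0 : ∀ g, Ξ g 0 ![1, 0, 0, 0] = 0 := fun g => by
    by_cases hg : g • M.inf = M.inf
    · obtain ⟨a, b, l, rfl⟩ := M.exists_TD_of_smul hg
      obtain ⟨r, h1, h2⟩ := hB a b l
      simp [Ξ, ξ, h1, h2]
    · obtain ⟨a, b, c, d, l, rfl⟩ := M.bruhat hg
      obtain ⟨r, h1, h2⟩ := hB c d l
      rw [hm, hm, hs, h1, h2]
      simp only [ξ, w_mulVec]
      simp [mulVec, dotProduct, Fin.sum_univ_four]
      grind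
  let P : Submodule F (Fin 4 → F) :=
    { carrier := {v | ∃ w, ∀ g, Ξ g w v = 0}
      zero_mem' := ⟨0, fun g => by simp [Ξ, ξ]⟩
      add_mem' := by
        rintro v v' ⟨w, hw⟩ ⟨w', hw'⟩
        refine ⟨w + w', fun g => ?_⟩
        have := hw g
        have := hw' g
        simp only [Ξ, ξ, mulVec_add, Pi.add_apply] at *
        grind
      smul_mem' := by
        rintro r v ⟨w, hw⟩
        refine ⟨r • w, fun g => ?_⟩
        have := hw g
        simp only [Ξ, ξ, mulVec_smul, Pi.add_apply, Pi.smul_apply, smul_eq_mul] at *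
        grind }
  have hP := eq_top_of_col M φ (P := P) fun k => ⟨C k *ᵥ ![1, 0, 0, 0], fun g => by
    have := h0 (g * k)
    rwa [hm, mulVec_zero, zero_add] at this⟩
  choose d hd using fun j : Fin 4 => hP (Pi.single j 1)
  have hD' : ∀ v g, Ξ g ((Matrix.of d)ᵀ *ᵥ v) v = 0 := fun v g => by
    have e : Ξ g ((Matrix.of d)ᵀ *ᵥ v) v = ∑ j, v j * Ξ g (d j) (Pi.single j 1) := by
      simp only [Ξ, ξ, Pi.add_apply, mulVec, dotProduct, Fin.sum_univ_four, transpose_apply,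
        of_apply]
      simp
      ring
    simp [e, hd]
  refine ⟨(Matrix.of d)ᵀ, fun g => ?_⟩
  generalize (Matrix.of d)ᵀ = D at hD'
  refine ext_of_comp (RingHom.id F) fun v => ?_
  rw [← sub_eq_zero]
  refine eq_zero_of_row M ψ fun k => ?_
  have a := hD' v (k * g)
  have b := hD' (tw M φ g *ᵥ v) k
  rw [hm] at a
  simp only [Ξ, ξ, mulVec_add, mulVec_sub, add_mulVec, ← mulVec_mulVec, Pi.add_apply, Pi.sub_apply,
    RingHom.coe_id, Function.id_comp] at a b ⊢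
  grind

theorem Coc.cob_of_ne [Fintype F] [DecidableEq F] (h : Coc M φ ψ C) (hb : φ.comp τ.θ ≠ ψ) :
    Cob M φ ψ C := by
  obtain ⟨D, hD⟩ := h.exists_tor
  obtain ⟨y, hy, hZ⟩ := (h.add D).block_Z hD hb
  refine Cob.of_add (D := D) (Cob.of_add (D := !![0, 0, 0, 0; 0, 0, 0, 0; y, 0, 0, 0; 0, 0, 0, 0]) ?_)
  have h2 := (h.add D).add !![0, 0, 0, 0; 0, 0, 0, 0; y, 0, 0, 0; 0, 0, 0, 0]
  have hD2 : ∀ l, C (M.D l) + (tw M ψ (M.D l) * D + D * tw M φ (M.D l)) +
      (tw M ψ (M.D l) * !![0, 0, 0, 0; 0, 0, 0, 0; y, 0, 0, 0; 0, 0, 0, 0] +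
        !![0, 0, 0, 0; 0, 0, 0, 0; y, 0, 0, 0; 0, 0, 0, 0] * tw M φ (M.D l)) = 0 := fun l => by
    rw [hD, zero_add]
    obtain ⟨k, hk, e⟩ := Mart.exists_tor M l
    have := hy k hk
    rw [e, tw_tor, tw_tor]
    ext i j
    rw [Matrix.add_apply, diagonal_mul, mul_diagonal]
    fin_cases i <;> fin_cases j <;> simp [hv]
    rw [this, map_div₀, τ.add_self]
  refine h2.cob_of_block hD2 (h2.block_T hD2 hb fun b => ?_)
  obtain ⟨h1, h2, h3, h4⟩ := hZ b
  generalize C (M.T 0 b) + (tw M ψ (M.T 0 b) * D + D * tw M φ (M.T 0 b)) = X at *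
  simp only [tw_Z, Matrix.add_apply, Matrix.mul_apply, Fin.sum_univ_four, h1, h2, h3, h4]
  simp [mul_comm, τ.add_self]

/-- Every cocycle is a coboundary. -/
theorem Coc.cob [Fintype F] [DecidableEq F] (h : Coc M φ ψ C) : Cob M φ ψ C := by
  by_cases hb : φ.comp τ.θ = ψ
  · refine Cob.of_dual (h.dual.cob_of_ne fun e => ?_)
    rw [← hb] at e
    obtain ⟨x, hx, hx1, -⟩ := exists_big M.big
    have := φ.injective (RingHom.congr_fun e x)
    rw [τ.θθ, sq] at this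
    exact hx1 (mul_left_cancel₀ hx (this.trans (mul_one x).symm))
  · exact h.cob_of_ne hb

end Cfsg.Lib.CITCor.Mart
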