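/-
Modules for the Suzuki groups on which an element of order five acts without fixed points.
-/
import Cfsg.Agent.CITCor.SzExt
import Cfsg.Agent.Chev.SuzukiBorel

set_option autoImplicit false

open Matrix

namespace Cfsg.Lib.CITCor.Mart

open Cfsg.Lib.Chev

variable {F : Type*} [Field F] {τ : Tw F} {H : Type*} [Group H] (M : SzModel τ H)

attribute [-simp] SzModel.ρ_T SzModel.ρ_w SzModel.ρ_D

theorem rT (a b : F) (v : Fin 4 → F) : M.ρ (M.T a b) *ᵥ v =
    ![v 0 + a * v 1 + (b + τ.θ a * a) * v 2 + τ.N a b * v 3,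
      v 1 + τ.θ a * v 2 + b * v 3, v 2 + a * v 3, v 3] := by
  rw [← tw_id, T_mulVec]; rfl

theorem rw_ (v : Fin 4 → F) : M.ρ M.w *ᵥ v = ![v 3, v 2, v 1, v 0] := by
  rw [← tw_id, w_mulVec]

theorem rmul (g h : H) (v : Fin 4 → F) : M.ρ (g * h) *ᵥ v = M.ρ g *ᵥ (M.ρ h *ᵥ v) := by
  rw [map_mul, mulVec_mulVec]

theorem rtor {l : F} (hl : l ≠ 0) (v : Fin 4 → F) (i : Fin 4) :
    (M.ρ (tor M hl) *ᵥ v) i = hv τ l i * v i := by
  rw [← tw_id, tor_mulVec]; rfl

/-- The natural module is irreducible as a module over the prime field. -/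
theorem mem_of_inv {P : AddSubgroup (Fin 4 → F)} (h : ∀ g, ∀ v ∈ P, M.ρ g *ᵥ v ∈ P)
    {v : Fin 4 → F} (hv : v ∈ P) (h0 : v ≠ 0) (u : Fin 4 → F) : u ∈ P := by
  obtain ⟨g, hg⟩ : ∃ g, (M.ρ g *ᵥ v) 3 ≠ 0 := by
    by_contra hc
    push Not at hc
    exact h0 (eq_zero_of_row M (RingHom.id F) fun g => by rw [tw_id]; exact hc g)
  have h1 := h g v hv
  generalize M.ρ g *ᵥ v = y at hg h1
  have h2 := P.sub_mem (h (M.T 0 1) _ h1) h1
  have h3 : ∀ s : F, s • ![1, 0, 0, 0] ∈ P := fun s => by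
    convert P.sub_mem (h (M.T (s / y 3) 0) _ h2) h2 using 1
    ext i
    fin_cases i <;> simp [rT, Tw.N, -cons_sub, hg]
  let Q : Submodule F (Fin 4 → F) :=
    { carrier := {u | ∀ s : F, s • u ∈ P}
      zero_mem' := fun s => by simp
      add_mem' := fun ha hb s => by rw [smul_add]; exact P.add_mem (ha s) (hb s)
      smul_mem' := fun r u hu s => by rw [smul_smul]; exact hu _ }
  simpa using eq_top_of_col M (RingHom.id F) (P := Q)
    (fun g s => by rw [tw_id, ← mulVec_smul]; exact h g _ (h3 s)) u 1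

variable [Fintype F] [DecidableEq F]

theorem mat_comm (τ : Tw F) (φ : F →+* F) {c₁ c₂ : (Fin 4 → F) →+ (Fin 4 → F)}
    {A B : Matrix (Fin 4) (Fin 4) F} (h : ∀ v, c₁ (B *ᵥ v) = A *ᵥ c₂ v) :
    A * mat φ c₂ = mat φ c₁ * B.map φ := by
  have e := mat_eq φ (c := 0) (c₁ := c₁) (c₂ := c₂) A B fun v => by
    rw [h]; ext i; exact (τ.add_self _).symm
  have z : mat φ (0 : (Fin 4 → F) →+ (Fin 4 → F)) = 0 := by ext i j; simp [mat]
  rw [z] at e
  ext i j
  exact (τ.add_eq_zero.1 (congrFun (congrFun e.symm i) j)).symm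

theorem bi_smul (β : (Fin 4 → F) →+ (Fin 4 → F) →+ (Fin 4 → F))
    (h : ∀ g u v, β (M.ρ g *ᵥ u) (M.ρ g *ᵥ v) = M.ρ g *ᵥ β u v) (r : F) (u v : Fin 4 → F) :
    β u (r • v) = r • β u v := by
  have h0 : ∀ φ, φ ≠ RingHom.id F → ∀ s : F, mat φ (β (s • ![1, 0, 0, 0])) = 0 := fun φ hφ s => by
    have e : ∀ s : F, _ := fun s => eq_of_intertwine M hφ (C := mat φ (β (s • ![1, 0, 0, 0])))
      fun a b => mat_comm τ φ fun v => by
        rw [← h]
        congr 2
        ext i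
        fin_cases i <;> simp [rT]
    rw [e s]
    by_contra hc
    obtain ⟨χ, hχ⟩ := exists_ringHom_of_homog (g := fun s => mat φ (β (s • ![1, 0, 0, 0])) 0 3)
      (β := id) (κ := fun t => t * φ t) (b₀ := s)
      (fun x y => by simp [mat, add_smul, Finset.sum_add_distrib, mul_add, -smul_cons])
      (fun μ hμ => ⟨μ, hμ, rfl⟩) (fun l hl b => by
        have e := mat_comm τ φ (c₁ := β ((l * b) • ![1, 0, 0, 0])) (c₂ := β (b • ![1, 0, 0, 0]))
          (A := M.ρ (tor M hl)) (B := M.ρ (tor M hl)) fun v => by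
            rw [← h]
            congr 2
            ext i
            fin_cases i <;> simp [rtor, hv]
        rw [← tw, ← tw_id, tw_tor, tw_tor] at e
        have e' := congrFun (congrFun e 0) 3
        have : φ l ≠ 0 := by simpa using hl
        simp [hv, -smul_cons] at e'
        field_simp at e'
        simp only [id]
        linear_combination -e') (fun e' => hc (by rw [e']; ext i j; fin_cases i <;> fin_cases j <;> rfl))
    exact hφ (one_term τ (φ₁ := RingHom.id F) (φ₂ := φ) (χ := χ) fun s hs => (hχ s hs).symm).symm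
  obtain ⟨S, hS⟩ := exists_sum_mat τ
  let P : AddSubgroup (Fin 4 → F) :=
    { carrier := {u | ∀ v, β u (r • v) = r • β u v}
      zero_mem' := fun v => by simp
      add_mem' := fun ha hb v => by simp [ha v, hb v]
      neg_mem' := fun ha v => by simp [ha v] }
  refine mem_of_inv M (P := P) (fun g u hu v => ?_) (v := (1 : F) • ![1, 0, 0, 0]) (fun v => ?_)
    (fun e => by simpa using congrFun e 0) u v
  · have : v = M.ρ g *ᵥ (M.ρ g⁻¹ *ᵥ v) := by rw [← rmul]; simp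
    rw [this, ← mulVec_smul, h, h, hu, mulVec_smul]
  · rw [← hS, ← hS _ v, Finset.smul_sum]
    refine Finset.sum_congr rfl fun φ _ => ?_
    by_cases hφ : φ = RingHom.id F
    · subst hφ
      exact mulVec_smul _ _ _
    · rw [h0 φ hφ, zero_mulVec, zero_mulVec, smul_zero]

/-- There is no equivariant biadditive product on the natural module. -/
theorem bi_eq_zero {γ : (Fin 4 → F) → (Fin 4 → F) → (Fin 4 → F)}
    (h1 : ∀ u u' v, γ (u + u') v = γ u v + γ u' v) (h2 : ∀ u v v', γ u (v + v') = γ u v + γ u v')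
    (h : ∀ g u v, γ (M.ρ g *ᵥ u) (M.ρ g *ᵥ v) = M.ρ g *ᵥ γ u v) (u v : Fin 4 → F) : γ u v = 0 := by
  let β : (Fin 4 → F) →+ (Fin 4 → F) →+ (Fin 4 → F) :=
    AddMonoidHom.mk' (fun u => AddMonoidHom.mk' (γ u) (h2 u)) fun u u' =>
      AddMonoidHom.ext (h1 u u')
  have s2 : ∀ r u v, γ u (r • v) = r • γ u v := bi_smul M β h
  have s1 : ∀ r v u, γ (r • u) v = r • γ u v := bi_smul M β.flip fun g u v => h g v u
  obtain ⟨x, hx⟩ := M.exists_θ_ne
  have x0 : x ≠ 0 := by rintro rfl; simp at hx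
  have x1 : x ≠ 1 := by rintro rfl; simp at hx
  have t0 : τ.θ x ≠ 0 := by simpa using x0
  have e3 : γ ![1, 0, 0, 0] ![0, 0, 0, 1] = 0 := by
    have e := h (tor M x0) ![1, 0, 0, 0] ![0, 0, 0, 1]
    rw [show M.ρ (tor M x0) *ᵥ ![1, 0, 0, 0] = x • ![1, 0, 0, 0] by
        ext i; fin_cases i <;> simp [rtor, hv],
      show M.ρ (tor M x0) *ᵥ ![0, 0, 0, 1] = x⁻¹ • ![0, 0, 0, 1] by
        ext i; fin_cases i <;> simp [rtor, hv], s1, s2, smul_smul, mul_inv_cancel₀ x0, one_smul] at e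
    ext i
    have e' := congrFun e i
    rw [rtor] at e'
    by_contra hc
    have := mul_right_cancel₀ hc ((one_mul _).trans e')
    fin_cases i <;> simp [hv] at this <;> field_simp at this
    exacts [x1 this.symm, hx this.symm, hx this, x1 this]
  have eT : ∀ a b, β ![1, 0, 0, 0] ![τ.N a b, b, a, 1] = 0 := fun a b => by
    have e := h (M.T a b) ![1, 0, 0, 0] ![0, 0, 0, 1]
    show γ _ _ = 0
    simpa [rT, e3] using e
  refine DFunLike.congr_fun (mem_of_inv M (P := β.ker) (fun g u hu => ?_) (v := ![1, 0, 0, 0]) ?_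
    (fun e => by simpa using congrFun e 0) u) v
  · refine AddMonoidHom.ext fun v => ?_
    have : v = M.ρ g *ᵥ (M.ρ g⁻¹ *ᵥ v) := by rw [← rmul]; simp
    have e := h g u (M.ρ g⁻¹ *ᵥ v)
    rw [← this, show γ u _ = 0 from DFunLike.congr_fun hu _, mulVec_zero] at e
    exact e
  · refine AddMonoidHom.ext fun v => ?_
    have s : ∀ r v, β ![1, 0, 0, 0] (r • v) = r • β ![1, 0, 0, 0] v := fun r v => s2 r _ v
    obtain ⟨c, hc⟩ : ∃ c, c * (τ.θ x - x) = v 0 - v 1 - v 2 :=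
      ⟨_, div_mul_cancel₀ _ (sub_ne_zero.2 hx)⟩
    have : v = c • ![τ.N 0 x, x, 0, 1] + (v 1 - c * x) • ![τ.N 0 1, 1, 0, 1] +
        v 2 • ![τ.N 1 0, 0, 1, 1] + (v 3 - c - (v 1 - c * x) - v 2) • ![τ.N 0 0, 0, 0, 1] := by
      ext i
      fin_cases i <;> simp [Tw.N]
      linear_combination -hc
    rw [this]
    simp only [map_add, s, eT, smul_zero, add_zero, AddMonoidHom.zero_apply]

theorem exists_fixed_ne_zero {A : Type*} [AddCommGroup A] [Finite A] [MulAction M.P A]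
    (h0 : ∀ g : M.P, g • (0 : A) = 0) {a : A} (ha : a ≠ 0) (h2 : a + a = 0) :
    ∃ b : A, b ≠ 0 ∧ ∀ g : M.P, g • b = b := by
  have := Fact.mk Nat.prime_two
  obtain ⟨b, hb, hb'⟩ := M.isPGroup_P.exists_fixed_point_of_prime_dvd_card_of_fixed_point A
    (addOrderOf_eq_prime (p := 2) (by rwa [two_nsmul]) ha ▸ addOrderOf_dvd_natCard a) h0
  exact ⟨b, hb'.symm, hb⟩

theorem exists_weight {A : Type*} [AddCommGroup A] [Finite A] [DistribMulAction H A] [Nontrivial A]
    (h2 : ∀ a : A, a + a = 0) : ∃ (m : A →+ F) (k : ℕ), m ≠ 0 ∧ (∀ a b x, m (M.T a b • x) = m x) ∧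
      ∀ l x, m (M.D l • x) = (l : F)⁻¹ ^ (k + 1) * m x := by
  have := Fact.mk Nat.prime_two
  have : CharP F 2 := CharTwo.of_one_ne_zero_of_two_eq_zero one_ne_zero τ.two
  obtain ⟨m₁, h₁⟩ : ∃ m : A →+ F, m ≠ 0 := by
    let : Module (ZMod 2) A := AddCommGroup.zmodModule fun a => by rw [two_nsmul, h2]
    obtain ⟨a, ha⟩ := exists_ne (0 : A)
    obtain ⟨f, hf⟩ := not_forall.1 (mt (Module.forall_dual_apply_eq_zero_iff (ZMod 2) a).1 ha)
    exact ⟨(ZMod.castHom dvd_rfl F).toAddMonoidHom.comp f.toAddMonoidHom,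
      fun e => hf ((ZMod.castHom dvd_rfl F).injective (by simpa using DFunLike.congr_fun e a))⟩
  let : MulAction M.P (A →+ F) :=
    { smul := fun g m => m.comp (DistribSMul.toAddMonoidHom A (g⁻¹ : H))
      one_smul := fun m => AddMonoidHom.ext fun a => congrArg m (by simp)
      mul_smul := fun g h m => AddMonoidHom.ext fun a => congrArg m (by simp [mul_smul]) }
  have : Finite (A →+ F) := DFunLike.finite _
  obtain ⟨m₀, h₀, hU⟩ := exists_fixed_ne_zero M (A := A →+ F) (fun g => rfl) h₁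
    (AddMonoidHom.ext fun a => τ.add_self _)
  have hT : ∀ a b x, m₀ (M.T a b • x) = m₀ x := fun a b x => by
    have e : m₀ ((M.T a b)⁻¹⁻¹ • x) = m₀ x := DFunLike.congr_fun (hU ⟨_, M.T_mem_P a b⟩⁻¹) x
    rwa [inv_inv] at e
  let m : ℕ → A →+ F := fun k => AddMonoidHom.mk' (fun x => ∑ l : Fˣ, (l : F) ^ (k + 1) * m₀ (M.D l • x))
    fun x y => by simp [mul_add, Finset.sum_add_distrib]
  obtain ⟨k, hk⟩ : ∃ k, m k ≠ 0 := by
    by_contra hc
    push Not at hc
    refine h₀ (AddMonoidHom.ext fun x => ?_)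
    have e : ∑ k ∈ Finset.range (Fintype.card Fˣ), m k x = 0 := by simp [hc]
    simp only [m, AddMonoidHom.mk'_apply] at e
    rw [Finset.sum_comm, Finset.sum_eq_single 1 (fun l _ hl => ?_) (by simp)] at e
    · simpa [card_units_cast τ] using e
    · simp only [pow_succ, ← Finset.sum_mul]
      rw [geom_sum_eq (by simpa using hl), ← Units.val_pow_eq_pow_val, pow_card_eq_one]
      simp
  refine ⟨m k, k, hk, fun a b x => ?_, fun l x => ?_⟩
  · simp only [m, AddMonoidHom.mk'_apply, ← mul_smul, M.D_mul_T]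
    simp only [mul_smul, hT]
  · simp only [m, AddMonoidHom.mk'_apply, ← mul_smul, ← map_mul, Finset.mul_sum]
    refine Fintype.sum_equiv (Equiv.mulRight l) _ _ fun t => ?_
    simp only [Equiv.coe_mulRight, Units.val_mul, ← mul_assoc, ← mul_pow]
    congr 2
    field_simp

/-- An irreducible module on which the element of order five has no fixed points maps onto the natural
module. -/
theorem exists_eqv {A : Type*} [AddCommGroup A] [Finite A] [DistribMulAction H A] [Nontrivial A]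
    (h2 : ∀ a : A, a + a = 0)
    (hirr : ∀ P : AddSubgroup A, (∀ (g : H), ∀ a ∈ P, g • a ∈ P) → P ≠ ⊥ → ∀ a, a ∈ P)
    (hx : ∀ (a : A) (x : H), x = M.T 0 1 * M.w →
      a + x • a + x • x • a + x • x • x • a + x • x • x • x • a = 0) :
    ∃ ψ : A →+ (Fin 4 → F), ψ ≠ 0 ∧ ∀ (g : H) a, ψ (g • a) = M.ρ g *ᵥ ψ a := by
  obtain ⟨m, k, hm, hT, hD⟩ := exists_weight M h2
  obtain ⟨a₁, ha₁⟩ := exists_ne (0 : A)
  obtain ⟨a₀, h₀, hU⟩ := exists_fixed_ne_zero M (fun g => smul_zero g) ha₁ (h2 _)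
  have hU' : ∀ a b, M.T a b • a₀ = a₀ := fun a b => hU ⟨_, M.T_mem_P a b⟩
  let κ : F → F := fun y => (τ.θ y / y) ^ (k + 1)
  let c : H → F := fun g => (M.ρ g *ᵥ ![1, 0, 0, 0]) 3
  have t := τ.two
  have hB : ∀ g, g • M.inf = M.inf → c g = 0 := fun g hg => by
    simpa [c, mulVec, dotProduct, Fin.sum_univ_four] using (M.row_of_smul_inf hg).2.2.1
  have hW : ∀ g, g • M.inf ≠ M.inf → m (g • a₀) = κ (c g) * m (M.w • a₀) := fun g hg => by
    obtain ⟨a, b, a', b', l, rfl⟩ := M.bruhat hg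
    have e : c (M.T a b * M.w * (M.T a' b' * M.D l)) = τ.θ l * l := by
      simp only [c, rmul, M.ρ_D, τ.Dm_mulVec_inf, mulVec_smul, rT, rw_]
      simp
    have e' : M.T a' b' * M.D l = M.D l * ((M.D l⁻¹) * M.T a' b' * (M.D l⁻¹)⁻¹) := by
      simp [mul_assoc]
    have : τ.θ l ≠ 0 := by simp
    rw [e, e', M.D_conj_T, mul_assoc, ← mul_assoc M.w, M.w_mul_D]
    simp only [mul_smul, hT, hD, hU', κ, map_mul, τ.θθ]
    congr 2
    rw [Units.val_inv_eq_inv_val, inv_inv]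
    field_simp
  have hc : ∀ g, c g ≠ 0 → m (g • a₀) = κ (c g) * m (M.w • a₀) := fun g hg =>
    hW g fun e => hg (hB g e)
  obtain ⟨x, hx0⟩ : ∃ x, x = M.T 0 1 * M.w := ⟨_, rfl⟩
  have hs : ∀ g : H, m (g • a₀) + m ((g * x) • a₀) + m ((g * x * x) • a₀) +
      m ((g * x * x * x) • a₀) + m ((g * x * x * x * x) • a₀) = 0 := fun g => by
    simpa only [smul_add, map_add, smul_zero, map_zero, ← mul_smul, ← mul_assoc] using
      congrArg (fun a => m (g • a)) (hx a₀ x hx0)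
  have v : M.ρ x *ᵥ ![1, 0, 0, 0] = ![1, 1, 0, 1] ∧ M.ρ x *ᵥ ![1, 1, 0, 1] = ![1, 1, 1, 1] ∧
      M.ρ x *ᵥ ![1, 1, 1, 1] = ![1, 0, 1, 1] ∧ M.ρ x *ᵥ ![1, 0, 1, 1] = ![0, 0, 0, 1] := by
    simp only [hx0, rmul, rT, rw_]
    simp [Tw.N, τ.add_self]
  have κ1 : κ 1 = 1 := by simp [κ]
  have hα : m a₀ = 0 := by
    have e := hs 1
    rw [one_mul, one_smul, hc x, hc (x * x), hc (x * x * x), hc (x * x * x * x)] at e
    · simp only [c, rmul, v] at e
      simp [κ1] at e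
      linear_combination e - 2 * m (M.w • a₀) * t
    all_goals simp only [c, rmul, v]; simp
  have hall : ∀ g, m (g • a₀) = κ (c g) * m (M.w • a₀) := fun g => by
    by_cases hg : g • M.inf = M.inf
    · rw [hB g hg]
      obtain ⟨a, b, l, rfl⟩ := M.exists_TD_of_smul hg
      simp [mul_smul, hT, hD, hα, κ]
    · exact hW g hg
  obtain ⟨χ, hχ⟩ : ∃ χ : F →+* F, ∀ g, m (g • a₀) = χ (c g) * m (M.w • a₀) := by
    by_cases hβ : m (M.w • a₀) = 0
    · exact ⟨RingHom.id F, fun g => by rw [hall, hβ, mul_zero, mul_zero]⟩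
    have κ0 : κ 0 = 0 := by simp [κ]
    have κm : ∀ x y, κ (x * y) = κ x * κ y := fun x y => by
      simp only [κ, map_mul, mul_div_mul_comm, mul_pow]
    have κa : ∀ y, κ (1 + y) = 1 + κ y := fun y => by
      obtain ⟨b, rfl⟩ := Finite.surjective_of_injective τ.θ_inj y
      have e := hs (M.w * M.T 0 b)
      simp only [hall (_ * _), c, rmul, v, rT, rw_] at e
      simp [Tw.N, κ1] at e
      refine mul_right_cancel₀ hβ ?_
      linear_combination e - (κ (1 + b + τ.θ b) + 1 + κ (τ.θ b)) * m (M.w • a₀) * t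
    refine ⟨{ toFun := κ, map_one' := κ1, map_mul' := κm, map_zero' := κ0
              map_add' := fun x y => ?_ }, hall⟩
    by_cases hx : x = 0
    · rw [hx, zero_add, κ0, zero_add]
    · have := κm x (1 + y / x)
      rwa [κa, mul_add, mul_add, ← κm, mul_one, mul_one, mul_div_cancel₀ _ hx] at this
  let P : AddSubgroup A :=
    { carrier := {a | ∃ u, ∀ g : H, m (g • a) = (tw M χ g *ᵥ u) 3}
      zero_mem' := ⟨0, fun g => by simp⟩
      add_mem' := fun ⟨u, hu⟩ ⟨v, hv⟩ => ⟨u + v, fun g => by simp [mulVec_add, hu, hv]⟩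
      neg_mem' := fun ⟨u, hu⟩ => ⟨-u, fun g => by simp [mulVec_neg, hu]⟩ }
  choose u hu using hirr P (fun g a ⟨u, hu⟩ => ⟨tw M χ g *ᵥ u, fun h => by
    rw [← mul_smul, hu, mul_mulVec]⟩) fun e => h₀ (AddSubgroup.mem_bot.1 (e ▸ (show a₀ ∈ P from
      ⟨m (M.w • a₀) • ![1, 0, 0, 0], fun g => by
        rw [hχ g, mulVec_smul, mul_comm]
        simp [c, tw, mulVec, dotProduct, Fin.sum_univ_four]⟩)))
  have inj : ∀ {v v' : Fin 4 → F}, (∀ g, (tw M χ g *ᵥ v) 3 = (tw M χ g *ᵥ v') 3) → v = v' :=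
    fun h => sub_eq_zero.1 (eq_zero_of_row M χ fun g => by simp [mulVec_sub, h])
  let χ' := (RingEquiv.ofBijective χ (Finite.injective_iff_bijective.1 χ.injective)).symm
  have hχ' : ∀ x, (χ' : F →+* F) (χ x) = x := χ'.apply_symm_apply
  refine ⟨AddMonoidHom.mk' (fun a => (χ' : F →+* F) ∘ u a) fun a b => ?_, fun e => hm ?_,
    fun g a => ?_⟩
  · rw [inj (v := u (a + b)) (v' := u a + u b) fun g => by simp [mulVec_add, ← hu]]
    ext i
    simp
  · ext a
    have e' := (χ' : F →+* F).injective ((congrFun (DFunLike.congr_fun e a) 3).trans (map_zero _).symm)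
    simpa [tw_one, e'] using hu a 1
  · simp only [AddMonoidHom.mk'_apply]
    rw [inj (v := u (g • a)) (v' := tw M χ g *ᵥ u a) fun h => by
      rw [← hu, ← mul_smul, hu, mul_mulVec], comp_mulVec]
    congr 1
    ext i j
    exact hχ' _

end Cfsg.Lib.CITCor.Mart
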