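/-
Extensions of the natural module of a Suzuki group by itself split.
-/
import Cfsg.Agent.CITCor.SzMod

set_option autoImplicit false

open Matrix

namespace Cfsg.Lib.CITCor.Mart

open Cfsg.Lib.Chev

variable {F : Type*} [Field F] {τ : Tw F} {H : Type*} [Group H] (M : SzModel τ H)
  {A : Type*} [AddCommGroup A] [DistribMulAction H A]

attribute [-simp] SzModel.ρ_T SzModel.ρ_w SzModel.ρ_D

theorem vadd_self (τ : Tw F) (v : Fin 4 → F) : v + v = 0 := funext fun _ => τ.add_self _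

theorem not_homocyclic {d : A →+ (Fin 4 → F)} {i : (Fin 4 → F) →+ A} (hd : Function.Surjective d)
    (hi : Function.Injective i) (ed : ∀ (g : H) a, d (g • a) = M.ρ g *ᵥ d a)
    (ei : ∀ (g : H) v, g • i v = i (M.ρ g *ᵥ v)) (ex : ∀ a, d a = 0 → ∃ v, a = i v)
    (hdi : ∀ v, d (i v) = 0) (h2 : ∀ a, a + a = i (d a)) : False := by
  obtain ⟨b, b0, b1, -⟩ := exists_big M.big
  have t := τ.two
  let n : F → A →+ A := fun c => DistribSMul.toAddMonoidHom A (M.T 0 c) - AddMonoidHom.id A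
  have hn : ∀ c a, n c a = M.T 0 c • a - a := fun _ _ => rfl
  let nb : F → (Fin 4 → F) → (Fin 4 → F) := fun c v => ![c * v 2 + τ.θ c * v 3, c * v 3, 0, 0]
  have hnb : ∀ c v, M.ρ (M.T 0 c) *ᵥ v - v = nb c v := fun c v => by
    ext j
    fin_cases j <;> simp [nb, rT, Tw.N, -cons_sub]
    ring
  have dn : ∀ c a, d (n c a) = nb c (d a) := fun c a => by rw [hn, map_sub, ed, hnb]
  have ni : ∀ c v, n c (i v) = i (nb c v) := fun c v => by rw [hn, ei, ← map_sub, hnb]
  have nT : ∀ c s r a, n c (M.T s r • a) = M.T s r • n c a := fun c s r a => by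
    rw [hn, hn, smul_sub, ← mul_smul, ← mul_smul, M.T_mul, M.T_mul]
    simp [add_comm]
  have nn : ∀ c a, n c (n c a) = i (nb c (d a)) := fun c a => by
    have e : n c (n c a) + (n c a + n c a) = 0 := by
      simp only [hn, smul_sub, ← mul_smul, M.T_mul]
      simp [τ.add_self]
    rw [h2, dn] at e
    rw [eq_neg_of_add_eq_zero_left e, eq_comm, eq_neg_iff_add_eq_zero, ← map_add, vadd_self τ,
      map_zero]
  have nc : ∀ a, n b (n 1 a) = n 1 (n b a) := fun a => by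
    rw [hn 1 a, map_sub, nT, hn 1]
  choose E hE using fun a => ex (n 1 (n b a)) (by rw [dn, dn]; simp [nb])
  have K : ∀ a a', nb 1 (d a') = nb b (d a) →
      ∃ v, E a = nb 1 (d a') + nb 1 v ∧ nb b (d a) = E a' + nb b v := fun a a' h => by
    obtain ⟨v, hv⟩ := ex (n b a - n 1 a') (by rw [map_sub, dn, dn, h, sub_self])
    rw [sub_eq_iff_eq_add'] at hv
    exact ⟨v, hi (by rw [← hE, hv, map_add, nn, ni, map_add]),
      hi (by rw [← nn, hv, map_add, nc, hE, ni, map_add])⟩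
  have Esub : ∀ a a', E (a - a') = E a - E a' := fun a a' => hi (by simp [← hE])
  have K0 : ∀ a, d a 2 = 0 → d a 3 = 0 → E a = 0 := fun a h h' => by
    obtain ⟨v, e1, e2⟩ := K a 0 (by simp [nb, h, h'])
    rw [show E 0 = 0 by simpa using Esub 0 0] at e2
    have e3 : v 3 = 0 := by simpa [nb, h', b0] using congrFun e2 1
    have e4 : v 2 = 0 := by simpa [nb, h, h', b0, e3] using congrFun e2 0
    simp [e1, nb, e3, e4]
  have K1 : ∀ a, ∃ a', d a' 3 = b * d a 3 ∧ nb 1 (d a') = nb b (d a) := fun a => by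
    obtain ⟨a', h⟩ := hd ![0, 0, b * d a 2 + τ.θ b * d a 3 - b * d a 3, b * d a 3]
    exact ⟨a', by simp [h], by simp [h, nb]⟩
  have ET : ∀ s a, E (M.T s 0 • a - a) 0 = s * E a 1 := fun s a => by
    obtain ⟨a', -, h⟩ := K1 a
    obtain ⟨v, e, -⟩ := K a a' h
    rw [Esub, show E (M.T s 0 • a) = M.ρ (M.T s 0) *ᵥ E a from hi (by rw [← hE, nT, nT, hE, ei]), rT]
    simp [e, nb]
  obtain ⟨a, ha⟩ := hd ![0, 0, 0, 1]
  obtain ⟨a', h1, h⟩ := K1 a
  obtain ⟨v, e1, e2⟩ := K a a' h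
  have e3 := congrFun (K0 (M.T 1 0 • a' - a' - (M.T b 0 • a - a)) 
    (by simp [ed, rT, ha, h1, -cons_sub]) (by simp [ed, rT, -cons_sub])) 0
  rw [Esub, Pi.sub_apply, ET, ET] at e3
  replace e1 := congrFun e1 1
  replace e2 := congrFun e2 1
  simp [nb, ha, h1] at e1 e2 e3
  refine b1 (mul_left_cancel₀ b0 ?_)
  linear_combination -e2 - e3 - b * e1 - b * v 3 * t

variable [Fintype F] [DecidableEq F]

/-- An extension of the natural module by itself splits. -/
theorem exists_retraction {p : A →+ (Fin 4 → F)} {i : (Fin 4 → F) →+ A} (hp : Function.Surjective p)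
    (hi : Function.Injective i) (ep : ∀ (g : H) a, p (g • a) = M.ρ g *ᵥ p a)
    (ei : ∀ (g : H) v, g • i v = i (M.ρ g *ᵥ v)) (ex : ∀ a, p a = 0 → ∃ v, a = i v)
    (hpi : ∀ v, p (i v) = 0) :
    ∃ r : A →+ (Fin 4 → F), (∀ (g : H) a, r (g • a) = M.ρ g *ᵥ r a) ∧ ∀ v, r (i v) = v := by
  have h2 : ∀ a : A, a + a = 0 := by
    by_contra hc
    push Not at hc
    obtain ⟨a₀, h₀⟩ := hc
    choose d hd using fun a => ex (a + a) (by rw [map_add, vadd_self τ])
    let d' : A →+ (Fin 4 → F) := AddMonoidHom.mk' d fun a b => hi (by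
      rw [map_add, ← hd, ← hd, ← hd]; abel)
    have ed : ∀ (g : H) a, d' (g • a) = M.ρ g *ᵥ d' a := fun g a => hi (by
      rw [← ei, AddMonoidHom.mk'_apply, ← hd, ← hd, smul_add])
    have hdi : ∀ v, d' (i v) = 0 := fun v => hi (by
      rw [AddMonoidHom.mk'_apply, ← hd, ← map_add, vadd_self τ])
    have d0 : d' a₀ ≠ 0 := fun e => h₀ (by rw [hd, show d a₀ = 0 from e, map_zero])
    refine not_homocyclic M (d := d') (fun u => mem_of_inv M (P := d'.range) ?_ ⟨a₀, rfl⟩ d0 u) hi ed ei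
      (fun a ha => ex a ?_) hdi hd
    · rintro g _ ⟨a, rfl⟩
      exact ⟨_, ed g a⟩
    · by_contra hc
      obtain ⟨k, hk, e⟩ := mem_of_inv M (P := d'.ker.map p) (by
        rintro g _ ⟨k, hk, rfl⟩
        exact ⟨g • k, by rw [SetLike.mem_coe, AddMonoidHom.mem_ker, ed, hk, mulVec_zero], ep g k⟩)
        ⟨a, ha, rfl⟩ hc (p a₀)
      obtain ⟨v, hv⟩ := ex (a₀ - k) (by rw [map_sub, e, sub_self])
      exact d0 (by rw [sub_eq_iff_eq_add.1 hv, map_add, hdi, hk, add_zero])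
  obtain ⟨r, hr⟩ : ∃ r : A →+ (Fin 4 → F), ∀ v, r (i v) = v := by
    have := Fact.mk Nat.prime_two
    let : Module (ZMod 2) A := AddCommGroup.zmodModule fun a => by rw [two_nsmul, h2]
    let : Module (ZMod 2) (Fin 4 → F) :=
      AddCommGroup.zmodModule fun a => by rw [two_nsmul, vadd_self τ]
    obtain ⟨r, hr⟩ := (i.toZModLinearMap 2).exists_leftInverse_of_injective
      (LinearMap.ker_eq_bot.2 hi)
    exact ⟨r.toAddMonoidHom, LinearMap.congr_fun hr⟩
  have hc : ∀ g : H, ∃ c : (Fin 4 → F) →+ (Fin 4 → F),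
      ∀ a, c (p a) = r (g • a) + M.ρ g *ᵥ r a := fun g =>
    ⟨p.liftOfSurjective hp ⟨AddMonoidHom.mk' (fun a => r (g • a) + M.ρ g *ᵥ r a) fun a b => by
        simp only [smul_add, map_add, mulVec_add]; abel, fun a ha => by
        obtain ⟨v, rfl⟩ := ex a ha
        simp [ei, hr, vadd_self τ]⟩, fun a => p.liftOfRightInverse_comp_apply _ _ _ a⟩
  choose c hc using hc
  have hC : ∀ φ, Coc M φ (RingHom.id F) fun g => mat φ (c g) := fun φ g h => by
    rw [tw_id]
    refine mat_eq φ _ _ fun v => ?_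
    obtain ⟨a, rfl⟩ := hp v
    rw [← ep, hc, hc, hc, mul_smul, rmul, mulVec_add, add_assoc, ← add_assoc (M.ρ g *ᵥ _),
      vadd_self τ, zero_add]
  choose D hD using fun φ => (hC φ).cob
  obtain ⟨S, hS⟩ := exists_sum_mat τ
  refine ⟨AddMonoidHom.mk' (fun a => r a + ∑ φ ∈ S, D φ *ᵥ (φ ∘ p a)) fun a b => ?_, fun g a => ?_,
    fun v => ?_⟩
  · have : ∀ φ : F →+* F, φ ∘ p (a + b) = φ ∘ p a + φ ∘ p b := fun φ => by ext j; simp
    simp only [this, r.map_add, mulVec_add, Finset.sum_add_distrib]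
    abel
  · have e := hS (c g) (p a)
    simp only [hD, tw_id, add_mulVec, ← mulVec_mulVec, Finset.sum_add_distrib, hc] at e
    simp only [AddMonoidHom.mk'_apply, ep, comp_mulVec, mulVec_add, mulVec_sum]
    simp only [tw] at e
    linear_combination (norm := abel1) e + vadd_self τ (r (g • a)) -
      vadd_self τ (∑ φ ∈ S, M.ρ g *ᵥ D φ *ᵥ φ ∘ p a)
  · have : ∀ φ : F →+* F, φ ∘ (0 : Fin 4 → F) = 0 := fun φ => by ext j; simp
    simp [hr, hpi, this]

end Cfsg.Lib.CITCor.Mart
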