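/-
Martineau's theorem: a `2`-group extended by a Suzuki group, with an element of order five acting
without fixed points, is elementary abelian.
-/
import Cfsg.Agent.CITCor.SzSplit

set_option autoImplicit false

open Matrix

namespace Cfsg.Lib.CITCor.Mart

open Cfsg.Lib.Chev

universe u

variable {F : Type*} [Field F] {τ : Tw F} {H : Type*} [Group H] (M : SzModel τ H)
  {G : Type u} [Group G]

/-- The hypothesis of Martineau's theorem. -/
structure Hyp (π : G →* H) : Prop where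
  surj : Function.Surjective π
  two : IsPGroup 2 π.ker
  five : ∀ g, π g = M.T 0 1 * M.w → g ^ 5 = 1

/-- Equivariant homomorphisms from a normal subgroup to the natural module. -/
structure Eqv (π : G →* H) (L : Subgroup G) (ψ : G → Fin 4 → F) : Prop where
  add : ∀ a ∈ L, ∀ b ∈ L, ψ (a * b) = ψ a + ψ b
  conj : ∀ g, ∀ a ∈ L, ψ (g * a * g⁻¹) = M.ρ (π g) *ᵥ ψ a

variable {M} {π : G →* H} {L : Subgroup G} {ψ : G → Fin 4 → F}

theorem Eqv.one (h : Eqv M π L ψ) : ψ 1 = 0 := by simpa using h.add 1 L.one_mem 1 L.one_mem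

theorem Eqv.inv (h : Eqv M π L ψ) {a : G} (ha : a ∈ L) : ψ a⁻¹ = -ψ a :=
  eq_neg_of_add_eq_zero_left (by rw [← h.add _ (L.inv_mem ha) _ ha, inv_mul_cancel, h.one])

theorem Eqv.comm [hL : L.Normal] (h : Eqv M π L ψ) {n b : G} (hn : n ∈ π.ker) (hb : b ∈ L) :
    ψ (n * b * n⁻¹ * b⁻¹) = 0 := by
  rw [h.add _ (hL.conj_mem _ hb _) _ (L.inv_mem hb), h.conj _ _ hb, h.inv hb, hn, map_one,
    one_mulVec, add_neg_cancel]

/-- The kernel of an equivariant homomorphism. -/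
def Eqv.ker (h : Eqv M π L ψ) : Subgroup G where
  carrier := {a | a ∈ L ∧ ψ a = 0}
  one_mem' := ⟨L.one_mem, h.one⟩
  mul_mem' := fun ⟨a, b⟩ ⟨c, d⟩ => ⟨L.mul_mem a c, by rw [h.add _ a _ c, b, d, add_zero]⟩
  inv_mem' := fun ⟨a, b⟩ => ⟨L.inv_mem a, by rw [h.inv a, b, neg_zero]⟩

theorem Eqv.ker_normal [hL : L.Normal] (h : Eqv M π L ψ) : h.ker.Normal :=
  ⟨fun _ ⟨a, b⟩ g => ⟨hL.conj_mem _ a g, by rw [h.conj _ _ a, b, mulVec_zero]⟩⟩

theorem Eqv.ker_lt (h : Eqv M π L ψ) {a : G} (ha : a ∈ L) (h0 : ψ a ≠ 0) : h.ker < L :=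
  lt_of_le_of_ne (fun _ hx => hx.1) fun e => h0 (show a ∈ h.ker from e.symm ▸ ha).2

theorem Eqv.sub (h : Eqv M π L ψ) {a b : G} (ha : a ∈ L) (hb : b ∈ L) (e : ψ a = ψ b) :
    a⁻¹ * b ∈ h.ker :=
  ⟨L.mul_mem (L.inv_mem ha) hb, by rw [h.add _ (L.inv_mem ha) _ hb, h.inv ha, e, neg_add_cancel]⟩

theorem Eqv.surj [hL : L.Normal] (h : Eqv M π L ψ) (hπ : Function.Surjective π) {a : G}
    (ha : a ∈ L) (h0 : ψ a ≠ 0) (v : Fin 4 → F) : ∃ b ∈ L, ψ b = v := by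
  let P : AddSubgroup (Fin 4 → F) :=
    { carrier := {v | ∃ b ∈ L, ψ b = v}
      zero_mem' := ⟨1, L.one_mem, h.one⟩
      add_mem' := fun ⟨b, hb, e⟩ ⟨c, hc, e'⟩ => ⟨_, L.mul_mem hb hc, by rw [h.add _ hb _ hc, e, e']⟩
      neg_mem' := fun ⟨b, hb, e⟩ => ⟨_, L.inv_mem hb, by rw [h.inv hb, e]⟩ }
  refine mem_of_inv M (P := P) ?_ ⟨a, ha, rfl⟩ h0 v
  rintro g _ ⟨b, hb, rfl⟩
  obtain ⟨g, rfl⟩ := hπ g
  exact ⟨_, hL.conj_mem _ hb g, h.conj _ _ hb⟩

theorem Hyp.quot (h : Hyp M π) {K : Subgroup G} [K.Normal] (hK : K ≤ π.ker) :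
    Hyp M (QuotientGroup.lift K π hK) := by
  refine ⟨fun x => ?_, ?_, fun g hg => ?_⟩
  · obtain ⟨g, rfl⟩ := h.surj x
    exact ⟨g, rfl⟩
  · rw [QuotientGroup.ker_lift]
    exact h.two.map _
  · obtain ⟨g, rfl⟩ := QuotientGroup.mk_surjective g
    rw [← QuotientGroup.mk_pow, h.five g hg, QuotientGroup.mk_one]

theorem Eqv.of_quot {K : Subgroup G} [K.Normal] {hK : K ≤ π.ker} {ψ : G ⧸ K → Fin 4 → F}
    (h : Eqv M (QuotientGroup.lift K π hK) (L.map (QuotientGroup.mk' K)) ψ) :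
    Eqv M π L fun g => ψ g :=
  ⟨fun a ha b hb => h.add _ ⟨a, ha, rfl⟩ _ ⟨b, hb, rfl⟩, fun g a ha => h.conj g _ ⟨a, ha, rfl⟩⟩

theorem map_le_ker {K : Subgroup G} [K.Normal] (hK : K ≤ π.ker) (hL : L ≤ π.ker) :
    L.map (QuotientGroup.mk' K) ≤ (QuotientGroup.lift K π hK).ker := by
  rintro _ ⟨a, ha, rfl⟩
  exact hL ha

theorem card_quot_lt [Finite G] {K : Subgroup G} (hK : K ≠ ⊥) : Nat.card (G ⧸ K) < Nat.card G := by
  rw [K.card_eq_card_quotient_mul_card_subgroup]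
  exact lt_mul_of_one_lt_right Nat.card_pos (K.one_lt_card_iff_ne_bot.2 hK)

theorem exists_module [Finite G] [hL : L.Normal] (hπ : Function.Surjective π) (hle : L ≤ π.ker)
    (hc : ∀ n ∈ π.ker, ∀ a ∈ L, n * a * n⁻¹ = a) :
    ∃ (A : Type u) (_ : AddCommGroup A) (_ : Finite A) (_ : DistribMulAction H A) (e : A → G)
      (e' : G → A), (∀ a, e' (e a) = a) ∧ (∀ a, e a ∈ L) ∧ (∀ b ∈ L, e (e' b) = b) ∧
      (∀ a b, e (a + b) = e a * e b) ∧ ∀ g a, e (π g • a) = g * e a * g⁻¹ := by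
  classical
  let : CommGroup L :=
    { mul_comm := fun a b => Subtype.ext (mul_inv_eq_iff_eq_mul.1 (hc a (hle a.2) b b.2)) }
  let φ : H →* MulAut L := π.liftOfSurjective hπ ⟨MulAut.conjNormal, fun n hn =>
    MulEquiv.ext fun a => Subtype.ext (hc n hn a a.2)⟩
  let : DistribMulAction H (Additive L) :=
    { smul := fun h a => Additive.ofMul (φ h a.toMul)
      one_smul := fun a => congrArg (fun f : MulAut L => Additive.ofMul (f a.toMul)) φ.map_one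
      mul_smul := fun g h a =>
        congrArg (fun f : MulAut L => Additive.ofMul (f a.toMul)) (φ.map_mul g h)
      smul_zero := fun g => (φ g).map_one
      smul_add := fun g a b => (φ g).map_mul a.toMul b.toMul }
  refine ⟨Additive L, inferInstance, inferInstance, inferInstance, fun a => a.toMul,
    fun g => if h : g ∈ L then Additive.ofMul ⟨g, h⟩ else 0, fun a => by simp, fun a => a.toMul.2,
    fun b hb => by simp [hb], fun a b => rfl, fun g a => ?_⟩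
  have : φ (π g) = MulAut.conjNormal g := π.liftOfRightInverse_comp_apply _ _ _ g
  exact congrArg (fun f : MulAut L => (f a.toMul : G)) this

theorem Eqv.of_module {A : Type*} [AddCommGroup A] [DistribMulAction H A] {e : A → G} {e' : G → A}
    (h1 : ∀ a, e' (e a) = a) (h3 : ∀ b ∈ L, e (e' b) = b) (h4 : ∀ a b, e (a + b) = e a * e b)
    (h5 : ∀ g a, e (π g • a) = g * e a * g⁻¹) {r : A →+ (Fin 4 → F)}
    (hr : ∀ (g : H) a, r (g • a) = M.ρ g *ᵥ r a) : Eqv M π L fun g => r (e' g) :=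
  ⟨fun a ha b hb => by rw [← map_add, ← h1 (_ + _), h4, h3 a ha, h3 b hb],
    fun g a ha => by rw [← hr, ← h1 (_ • _), h5, h3 a ha]⟩

variable [Fintype F] [DecidableEq F]

theorem Hyp.exists_eqv_min [Finite G] (h : Hyp M π) [hL : L.Normal] (hle : L ≤ π.ker) (h0 : L ≠ ⊥)
    (hmin : ∀ K : Subgroup G, K.Normal → K ≤ L → K ≠ ⊥ → L ≤ K) :
    ∃ ψ, Eqv M π L ψ ∧ ∃ a ∈ L, ψ a ≠ 0 := by
  have := Fact.mk Nat.prime_two
  have hc : ∀ n ∈ π.ker, ∀ a ∈ L, n * a * n⁻¹ = a ∧ a * a = 1 := by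
    let : MulAction π.ker L :=
      MulAction.compHom L ((MulAut.conjNormal : G →* MulAut L).comp π.ker.subtype)
    obtain ⟨b, hb, hb1⟩ := h.two.exists_fixed_point_of_prime_dvd_card_of_fixed_point L
      (((h.two.to_le hle).card_eq_or_dvd).resolve_left (L.one_lt_card_iff_ne_bot.2 h0).ne') (a := 1)
      fun n => map_one (MulAut.conjNormal (n : G))
    have hC := hmin (L ⊓ Subgroup.centralizer π.ker) inferInstance inf_le_left fun e => hb1
      (Subtype.ext (Subgroup.mem_bot.1 (e ▸ (⟨b.2, fun n hn => mul_inv_eq_iff_eq_mul.1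
        (congrArg Subtype.val (hb ⟨n, hn⟩))⟩ : (b : G) ∈ L ⊓ Subgroup.centralizer π.ker))).symm)
    have hc : ∀ n ∈ π.ker, ∀ a ∈ L, n * a = a * n := fun n hn a ha => (hC ha).2 n hn
    let K : Subgroup G :=
      { carrier := {a | a ∈ L ∧ a * a = 1}
        one_mem' := ⟨L.one_mem, mul_one 1⟩
        mul_mem' := fun {a b} p r => ⟨L.mul_mem p.1 r.1, by
          rw [mul_assoc, ← mul_assoc b, hc b (hle r.1) a p.1, mul_assoc, r.2, mul_one, p.2]⟩
        inv_mem' := fun {a} p => ⟨L.inv_mem p.1, by rw [← _root_.mul_inv_rev, p.2, inv_one]⟩ }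
    obtain ⟨z, hz⟩ := exists_prime_orderOf_dvd_card' (G := L) 2
      (((h.two.to_le hle).card_eq_or_dvd).resolve_left (L.one_lt_card_iff_ne_bot.2 h0).ne')
    have hK := hmin K ⟨fun a p g => ⟨hL.conj_mem a p.1 g, by
      rw [← MulAut.conj_apply, ← map_mul, p.2, map_one]⟩⟩ (fun _ p => p.1) fun e => by
        have : (z : G) ∈ K := ⟨z.2, by rw [← sq, ← hz, ← Subgroup.coe_pow, pow_orderOf_eq_one]; rfl⟩
        rw [e, Subgroup.mem_bot, OneMemClass.coe_eq_one] at this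
        simp [this] at hz
    exact fun n hn a ha => ⟨mul_inv_eq_iff_eq_mul.2 (hc n hn a ha), (hK ha).2⟩
  obtain ⟨A, _, _, _, e, e', h1, h2, h3, h4, h5⟩ :=
    exists_module h.surj hle fun n hn a ha => (hc n hn a ha).1
  have inj : Function.Injective e := Function.LeftInverse.injective h1
  have e0 : e 0 = 1 := by simpa using h4 0 0
  have : Nontrivial A := by
    obtain ⟨a, ha⟩ := (Subgroup.ne_bot_iff_exists_ne_one).1 h0
    exact ⟨e' a, 0, fun c => ha (Subtype.ext (by rw [← h3 a a.2, c, e0]; rfl))⟩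
  obtain ⟨r, r0, hr⟩ := exists_eqv M (A := A)
    (fun a => inj (by rw [h4, e0, (hc 1 (one_mem _) _ (h2 a)).2])) (fun P hP hP0 a => by
      let K : Subgroup G :=
        { carrier := e '' P
          one_mem' := ⟨0, P.zero_mem, e0⟩
          mul_mem' := fun ⟨a, p, q⟩ ⟨b, r, s⟩ => ⟨_, P.add_mem p r, by rw [h4, q, s]⟩
          inv_mem' := fun ⟨a, p, q⟩ => ⟨_, P.neg_mem p,
            eq_inv_of_mul_eq_one_left (by rw [← q, ← h4, neg_add_cancel, e0])⟩ }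
      obtain ⟨b, hb, c⟩ := hmin K ⟨fun _ ⟨a, p, q⟩ g => ⟨_, hP (π g) a p, by rw [h5, q]⟩⟩
        (fun _ ⟨a, _, q⟩ => q ▸ h2 a) (fun c => hP0 (eq_bot_iff.2 fun a ha => inj (by
          rw [e0, ← Subgroup.mem_bot, ← c]; exact ⟨a, ha, rfl⟩))) (h2 a)
      exact inj c ▸ hb)
    fun a x hx => inj (by
      obtain ⟨g, rfl⟩ := h.surj x
      have p := h.five g hx
      have q := h.five (e a * g) (by rw [map_mul, hle (h2 a), one_mul, hx])
      simp only [h4, h5, e0]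
      rw [← q, ← mul_one (_ * _ * _ * _ * _), ← p]
      simp only [pow_succ, pow_zero, one_mul, mul_assoc, inv_mul_cancel_left])
  refine ⟨_, Eqv.of_module h1 h3 h4 h5 hr, ?_⟩
  obtain ⟨a, ha⟩ := DFunLike.ne_iff.1 r0
  exact ⟨e a, h2 a, by rwa [h1]⟩

theorem Hyp.exists_eqv [Finite G] (h : Hyp M π) [L.Normal] (hle : L ≤ π.ker) (h0 : L ≠ ⊥) :
    ∃ ψ, Eqv M π L ψ ∧ ∃ a ∈ L, ψ a ≠ 0 := by
  induction' hn : Nat.card G using Nat.strong_induction_on with n ih generalizing G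
  by_cases hmin : ∀ K : Subgroup G, K.Normal → K ≤ L → K ≠ ⊥ → L ≤ K
  · exact h.exists_eqv_min hle h0 hmin
  push Not at hmin
  obtain ⟨K, _, hK, hK0, hK1⟩ := hmin
  obtain ⟨ψ, hψ, _, ⟨a, ha, rfl⟩, e⟩ := ih _ (hn ▸ card_quot_lt hK0) (h.quot (hK.trans hle))
    (map_le_ker _ hle) (by rwa [Ne, Subgroup.map_eq_bot_iff, QuotientGroup.ker_mk']) rfl
  exact ⟨_, hψ.of_quot, a, ha, e⟩

theorem Hyp.centralizes [Finite G] (h : Hyp M π) [hL : L.Normal] (hle : L ≤ π.ker)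
    {ψ₁ ψ₂ : G → Fin 4 → F} (h₁ : Eqv M π L ψ₁) (s₁ : ∀ v, ∃ b ∈ L, ψ₁ b = v)
    (h₂ : Eqv M π h₁.ker ψ₂) (i₂ : h₂.ker = ⊥) (N : Subgroup G) :
    N.Normal → N ≤ π.ker → ∀ n ∈ N, ∀ b ∈ L, n * b * n⁻¹ = b := by
  induction' N using WellFoundedLT.induction with N ih
  intro hN hNle
  by_cases h0 : N = ⊥
  · simp [h0]
  have := h₁.ker_normal
  obtain ⟨ψ₃, h₃, a, ha, ha0⟩ := h.exists_eqv hNle h0
  have ih' := ih _ (h₃.ker_lt ha ha0) h₃.ker_normal fun x hx => hNle hx.1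
  have m : ∀ n ∈ N, ∀ b ∈ L, n * b * n⁻¹ * b⁻¹ ∈ h₁.ker := fun n hn b hb =>
    ⟨L.mul_mem (hL.conj_mem _ hb _) (L.inv_mem hb), h₁.comm (hNle hn) hb⟩
  let γ : G → G → Fin 4 → F := fun n b => ψ₂ (n * b * n⁻¹ * b⁻¹)
  have a1 : ∀ n ∈ N, ∀ n' ∈ N, ∀ b ∈ L, γ (n * n') b = γ n b + γ n' b := fun n hn n' hn' b hb => by
    have := h₂.add _ (this.conj_mem _ (m n' hn' b hb) n) _ (m n hn b hb)
    rw [h₂.conj _ _ (m n' hn' b hb), hNle hn, map_one, one_mulVec, add_comm] at this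
    exact (congrArg ψ₂ (by group)).trans this
  have a2 : ∀ n ∈ N, ∀ b ∈ L, ∀ b' ∈ L, γ n (b * b') = γ n b + γ n b' := fun n hn b hb b' hb' => by
    have := h₂.add _ (m n hn b hb) _ (this.conj_mem _ (m n hn b' hb') b)
    rw [h₂.conj _ _ (m n hn b' hb'), hle hb, map_one, one_mulVec] at this
    exact (congrArg ψ₂ (by group)).trans this
  have wd : ∀ {n n' b b'}, n ∈ N → n' ∈ N → b ∈ L → b' ∈ L → ψ₃ n = ψ₃ n' → ψ₁ b = ψ₁ b' →
      γ n' b' = γ n b := fun {n n' b b'} hn hn' hb hb' e e' => by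
    have p := h₃.sub hn hn' e
    have q := h₁.sub hb hb' e'
    rw [← mul_inv_cancel_left n n', a1 n hn _ p.1 _ hb', ← mul_inv_cancel_left b b', a2 n hn b hb _ q.1,
      mul_inv_cancel_left]
    simp only [γ]
    rw [h₂.comm (hNle hn) q, ih' _ p _ hb', mul_inv_cancel, h₂.one, add_zero, add_zero]
  choose s hs hs' using h₃.surj h.surj ha ha0
  choose t ht ht' using s₁
  have key := bi_eq_zero M (γ := fun u v => γ (s u) (t v))
    (fun u u' v => (wd (N.mul_mem (hs u) (hs u')) (hs _) (ht v) (ht v)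
      (by rw [h₃.add _ (hs u) _ (hs u'), hs', hs', hs']) rfl).trans (a1 _ (hs u) _ (hs u') _ (ht v)))
    (fun u v v' => (wd (hs u) (hs u) (L.mul_mem (ht v) (ht v')) (ht _) rfl
      (by rw [h₁.add _ (ht v) _ (ht v'), ht', ht', ht'])).trans (a2 _ (hs u) _ (ht v) _ (ht v')))
    fun g u v => by
      obtain ⟨g, rfl⟩ := h.surj g
      refine (wd (hN.conj_mem _ (hs u) g) (hs _) (hL.conj_mem _ (ht v) g) (ht _)
        (by rw [h₃.conj _ _ (hs u), hs', hs']) (by rw [h₁.conj _ _ (ht v), ht', ht'])).trans ?_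
      exact (congrArg ψ₂ (by group)).trans (h₂.conj g _ (m _ (hs u) _ (ht v)))
  intro n hn b hb
  rw [← mul_inv_eq_one, ← Subgroup.mem_bot, ← i₂]
  exact ⟨m n hn b hb, (wd (hs _) hn (ht _) hb (hs' _) (ht' _)).trans (key _ _)⟩

theorem Hyp.sep [Finite G] (h : Hyp M π) (L : Subgroup G) : L.Normal → L ≤ π.ker →
    ∀ a ∈ L, a ≠ 1 → ∃ ψ, Eqv M π L ψ ∧ ψ a ≠ 0 := by
  induction' hn : Nat.card G using Nat.strong_induction_on with n ih generalizing G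
  induction' L using WellFoundedLT.induction with L ih'
  intro hL hle a ha ha1
  by_cases hK : ∃ K : Subgroup G, K.Normal ∧ K ≤ L ∧ K ≠ ⊥ ∧ a ∉ K
  · obtain ⟨K, _, hK, hK0, hK1⟩ := hK
    obtain ⟨ψ, hψ, e⟩ := ih _ (hn ▸ card_quot_lt hK0) (h.quot (hK.trans hle)) _ rfl inferInstance
      (map_le_ker _ hle) a ⟨a, ha, rfl⟩ (by rwa [Ne, QuotientGroup.eq_one_iff])
    exact ⟨_, hψ.of_quot, e⟩
  obtain ⟨ψ₁, h₁, c, hc, c0⟩ := h.exists_eqv hle fun e => ha1 (Subgroup.mem_bot.1 (e ▸ ha))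
  by_cases a0 : ψ₁ a = 0
  swap
  · exact ⟨ψ₁, h₁, a0⟩
  have := h₁.ker_normal
  obtain ⟨ψ₂, h₂, a2⟩ := ih' _ (h₁.ker_lt hc c0) this (fun x hx => hle hx.1) a ⟨ha, a0⟩ ha1
  have i₂ : h₂.ker = ⊥ := by
    by_contra e
    exact hK ⟨_, h₂.ker_normal, fun x hx => hx.1.1, e, fun hx => a2 hx.2⟩
  have s₁ := h₁.surj h.surj hc c0
  obtain ⟨A, _, _, _, e, e', h1, h2, h3, h4, h5⟩ :=
    exists_module h.surj hle (h.centralizes hle h₁ s₁ h₂ i₂ _ inferInstance le_rfl)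
  have inj : ∀ {x y}, x ∈ h₁.ker → y ∈ h₁.ker → ψ₂ x = ψ₂ y → x = y := fun hx hy e =>
    inv_mul_eq_one.1 (Subgroup.mem_bot.1 (i₂ ▸ h₂.sub hx hy e))
  choose t ht ht' using h₂.surj h.surj (a := a) ⟨ha, a0⟩ a2
  have et : ∀ v, e (e' (t v)) = t v := fun v => h3 _ (ht v).1
  have ein : Function.Injective e := Function.LeftInverse.injective h1
  obtain ⟨r, hr, hri⟩ := exists_retraction M
    (p := AddMonoidHom.mk' (fun x => ψ₁ (e x)) fun x y => by rw [h4, h₁.add _ (h2 x) _ (h2 y)])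
    (i := AddMonoidHom.mk' (fun v => e' (t v)) fun u v => ein (by
      rw [h4, et, et, et]
      exact inj (ht _) (mul_mem (ht u) (ht v)) (by rw [h₂.add _ (ht u) _ (ht v), ht', ht', ht'])))
    (fun v => by
      obtain ⟨b, hb, rfl⟩ := s₁ v
      exact ⟨e' b, congrArg ψ₁ (h3 b hb)⟩)
    (fun u v c => by rw [← ht' u, ← et, show e' (t u) = e' (t v) from c, et, ht'])
    (fun g x => by
      obtain ⟨g, rfl⟩ := h.surj g
      exact (congrArg ψ₁ (h5 g x)).trans (h₁.conj g _ (h2 x)))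
    (fun g v => ein (by
      obtain ⟨g, rfl⟩ := h.surj g
      simp only [AddMonoidHom.mk'_apply, h5, et]
      exact inj (this.conj_mem _ (ht v) g) (ht _) (by rw [h₂.conj _ _ (ht v), ht', ht'])))
    (fun x hx => ⟨ψ₂ (e x), ein ((inj ⟨h2 x, hx⟩ (ht _) (ht' _).symm).trans (et _).symm)⟩)
    fun v => (congrArg ψ₁ (et v)).trans (ht v).2
  refine ⟨_, Eqv.of_module h1 h3 h4 h5 hr, ?_⟩
  rw [inj ⟨ha, a0⟩ (ht _) (ht' _).symm]
  exact (hri _).trans_ne a2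

/-- Martineau's theorem. -/
theorem Hyp.elementary [Finite G] (h : Hyp M π) :
    IsMulCommutative π.ker ∧ ∀ a ∈ π.ker, a * a = 1 := by
  have key : ∀ a ∈ π.ker, (∀ ψ, Eqv M π π.ker ψ → ψ a = 0) → a = 1 := fun a ha h0 => by
    by_contra ha1
    obtain ⟨ψ, hψ, e⟩ := h.sep _ inferInstance le_rfl a ha ha1
    exact e (h0 ψ hψ)
  refine ⟨⟨⟨fun a b => Subtype.ext ?_⟩⟩, fun a ha => key _ (mul_mem ha ha) fun ψ hψ => ?_⟩
  · exact mul_inv_eq_iff_eq_mul.1 (mul_inv_eq_one.1 (key _ (mul_mem (mul_mem (mul_mem a.2 b.2)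
      (inv_mem a.2)) (inv_mem b.2)) fun ψ hψ => hψ.comm a.2 b.2))
  · rw [hψ.add a ha a ha, vadd_self τ]

end Cfsg.Lib.CITCor.Mart
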