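import Cfsg.Agent.CIT.TI
import Cfsg.Agent.CITCor.L2Even
import Cfsg.Agent.Solv.CNGroup
import Cfsg.Agent.Solv.Quaternion
import Cfsg.Agent.Rank2.Engel

/-!
# Groups all of whose element centralisers are TI-subgroups
-/

set_option autoImplicit false

universe u

namespace Cfsg.Lib.CITCor

open Cfsg.Agent Cfsg.Lib.Local Cfsg.Lib.Bender Cfsg.Lib.Chev Cfsg.Lib.Chev.RankOne MulAction
open Cfsg.Lib.Trans Cfsg.Lib.CIT Subgroup Pointwise
open scoped MatrixGroups

variable {G : Type u} [Group G]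

/-- Two commuting subgroups which meet trivially generate their direct product. -/
theorem nonempty_sup_equiv_prod {C Q : Subgroup G} (hc : ∀ a ∈ C, ∀ b ∈ Q, a * b = b * a)
    (hi : C ⊓ Q = ⊥) : Nonempty (↥(C ⊔ Q) ≃* C × Q) := by
  let f : C × Q →* G := C.subtype.noncommCoprod Q.subtype fun a b => hc a a.2 b b.2
  have hf : Function.Injective f := by
    rw [injective_iff_map_eq_one]
    rintro ⟨a, b⟩ h
    have h1 : (a : G) * b = 1 := h
    have ha : (a : G) ∈ C ⊓ Q := ⟨a.2, by rw [eq_inv_of_mul_eq_one_left h1]; exact Q.inv_mem b.2⟩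
    rw [hi, mem_bot] at ha
    rw [ha, one_mul] at h1
    exact Prod.ext (Subtype.ext ha) (Subtype.ext h1)
  have hr : f.range = C ⊔ Q := by
    rw [show f.range = _ from MonoidHom.noncommCoprod_range _ _ _, range_subtype, range_subtype]
  exact ⟨(hr ▸ MonoidHom.ofInjective hf).symm⟩

theorem isNilpotent_of_engel [Finite G] (h : ∀ x g : G, Commute x (g * x * g⁻¹)) :
    Group.IsNilpotent G := by
  refine Solv.fitting_eq_top_iff.1 (eq_top_iff.2 fun x _ => ?_)
  have := Rank2.isMulCommutative_normalClosure h x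
  exact Solv.le_fitting inferInstance (Solv.isNilpotent_of_isMulCommutative _)
    (subset_normalClosure (Set.mem_singleton x))

/-- The rank-one set-up, when involutions centralise no elements of odd order and no Suzuki group
is a subgroup. -/
theorem isL2Even_of_setup [Finite G] {Ω : Type u} [MulAction G Ω]
    [FaithfulSMul G Ω] {a : Ω} {t : G} {Q : Subgroup G}
    (hS : IsRankOneSetup G Ω a t Q) (h2 : TwoRank G)
    (hodd : ∀ s x : G, orderOf s = 2 → Odd (orderOf x) → s * x = x * s → x = 1)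
    (hSz : ∀ L : Subgroup G, ¬ Cfsg.Lie.IsoSuzuki L) : IsL2Even G := by
  obtain ⟨L, hL, hodd', hB⟩ := exists_bender hS h2
  have hQ := isPGroup_Q hS h2
  rcases hB with hB | hB | ⟨F, i1, i2, n, hn, hF, ⟨e⟩⟩
  · obtain ⟨F, i1, i2, ⟨n, hn, hF⟩, ⟨e⟩⟩ := hB
    have hc : Nat.card L = 2 ^ n * (2 ^ n + 1) * (2 ^ n - 1) := by
      rw [Nat.card_congr e.toEquiv, card_psl2_even (two_eq_zero_of_card (by omega) hF), hF]; ring
    have hQL : Q ≤ L := le_of_isPGroup_of_odd_index hQ hodd'
    have hq : Nat.card Q = 2 ^ n := by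
      obtain ⟨S, hSQ⟩ := exists_sylow_eq_Q hS hQ
      have := IsBender.card_sylow (Or.inl ⟨F, i1, i2, ⟨n, hn, hF⟩, ⟨e⟩⟩) (by omega)
        (odd_two_pow_sub_one (by omega)) hc (S.subtype (hSQ ▸ hQL))
      rwa [Sylow.coe_subtype, Solv.Coprime.card_subgroupOf (hSQ ▸ hQL), hSQ] at this
    obtain ⟨s, hsQ, hs1, hs⟩ := exists_invol_Q hS
    have hD : Nat.card (DD a t) ≤ 2 ^ n - 1 := by
      have : Nat.card (DD a t) ≤ Nat.card {x : Q // x ≠ 1} := by
        refine Nat.card_le_card_of_injective (fun d => ⟨⟨d * s * d⁻¹, hS.conj_mem _ d.2.1 _ hsQ⟩,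
          fun h => hs1 (by simpa using congrArg Subtype.val h)⟩) fun d d' hd => ?_
        have h1 : d.1 * s * d.1⁻¹ = d'.1 * s * d'.1⁻¹ := congrArg (fun x => x.1.1) hd
        have := hodd s _ (orderOf_eq_two hs1 hs) (odd_orderOf_DD hS (d'⁻¹ * d).2)
          (by
            change s * (d'.1⁻¹ * d.1) = d'.1⁻¹ * d.1 * s
            calc s * (d'.1⁻¹ * d.1) = d'.1⁻¹ * (d'.1 * s * d'.1⁻¹) * d.1 := by group
              _ = d'.1⁻¹ * d.1 * s := by rw [← h1]; group)
        exact (inv_mul_eq_one.1 (Subtype.ext this)).symm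
      classical
      let _ := Fintype.ofFinite Q
      rwa [Nat.card_eq_fintype_card (α := {x : Q // x ≠ 1}), Fintype.card_subtype_compl,
        Fintype.card_subtype_eq, ← Nat.card_eq_fintype_card, hq] at this
    obtain rfl : L = ⊤ := by
      refine Subgroup.eq_top_of_le_card _ ?_
      rw [card_G hS, hq, hc, mul_right_comm]
      exact Nat.mul_le_mul_left _ hD
    exact ⟨F, i1, i2, ⟨n, hn, hF⟩, ⟨Subgroup.topEquiv.symm.trans e⟩⟩
  · exact absurd hB (hSz L)
  · obtain ⟨s, x, hs, hx1, hx, hc⟩ := psu3_exists_commute hn hF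
    have := hodd (e.symm s) (e.symm x)
      (by rw [Subgroup.orderOf_coe, MulEquiv.orderOf_eq, hs])
      (by rwa [Subgroup.orderOf_coe, MulEquiv.orderOf_eq])
      (by rw [← Subgroup.coe_mul, ← map_mul, hc, map_mul, Subgroup.coe_mul])
    exact absurd (by simpa using this) hx1

/-- A `CC`-subgroup acts faithfully on its conjugates. -/
theorem CC.faithful' [Finite G] {H : Subgroup G} (h : CC H) :
    FaithfulSMul G {P : Subgroup G // IsC H P} := by
  have hk : (toPermHom G {P : Subgroup G // IsC H P}).ker = ⊥ := by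
    set K := (toPermHom G {P : Subgroup G // IsC H P}).ker
    have hN : ∀ k ∈ K, ∀ P, IsC H P → k ∈ normalizer (P : Set G) := fun k hk P hP => by
      have h1 : toPermHom G {P : Subgroup G // IsC H P} k = 1 := hk
      exact cj_eq_self_iff.1
        (congrArg (fun x : Equiv.Perm {P : Subgroup G // IsC H P} => (x ⟨P, hP⟩).1) h1)
    obtain ⟨g, hg⟩ : ∃ g, g ∉ normalizer (H : Set G) := by
      by_contra hc
      push Not at hc
      exact h.ne_top (eq_top_iff.2 fun g _ => hc g)
    have h0 : ∀ k ∈ K, k ∈ H → k = 1 := fun k hk hkH => by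
      by_contra hk1
      exact hg (cj_eq_self_iff.1 (h.eq_of_norm ⟨g, rfl⟩ hkH hk1 (hN k hk _ ⟨g, rfl⟩)))
    obtain ⟨z, hz, hz1, -⟩ := h.ctr
    refine eq_bot_iff.2 fun k hk => h0 k hk (h.mem hz hz1 ?_)
    have h1 : k * z * k⁻¹ * z⁻¹ = 1 := h0 _
      (by
        rw [mul_assoc k, mul_assoc k]
        exact K.mul_mem hk ((inferInstance : K.Normal).conj_mem _ (K.inv_mem hk) z))
      (H.mul_mem (mem_normalizer_conj (hN k hk H (IsC.refl H)) hz) (H.inv_mem hz))
    exact (commutatorElement_eq_one_iff_mul_comm).1 h1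
  exact ⟨fun {a b} e => (MonoidHom.ker_eq_bot_iff _).1 hk (Equiv.ext e)⟩

/-- All centralisers of elements are TI-subgroups. -/
def TIC (G : Type*) [Group G] : Prop :=
  ∀ x g y w : G, y ≠ 1 → y * x = x * y → g * y * g⁻¹ * x = x * (g * y * g⁻¹) → w * x = x * w →
    g * w * g⁻¹ * x = x * (g * w * g⁻¹)

theorem tic_of_isTISubset (h : ∀ x : G, IsTISubset (centralizer ({x} : Set G) : Set G)) : TIC G :=
  fun x g y w hy h1 h2 h3 => by
    by_contra h4
    refine hy (h x g (fun hg => h4 ?_) y (mem_centralizer_singleton_iff.2 h1)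
      (mem_centralizer_singleton_iff.2 h2))
    exact mem_centralizer_singleton_iff.1
      (mem_normalizer_conj hg (mem_centralizer_singleton_iff.2 h3))

namespace TIC

theorem of_injective {H : Type*} [Group H] (h : TIC G) (f : H →* G) (hf : Function.Injective f) :
    TIC H := fun x g y w hy h1 h2 h3 => hf (by
  have := h (f x) (f g) (f y) (f w) (fun e => hy (hf (by rw [e, map_one])))
    (by rw [← map_mul, h1, map_mul]) (by simpa using congrArg f h2) (by rw [← map_mul, h3, map_mul])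
  simpa using this)

theorem not_isoSuzuki (h : TIC G) : ¬ Cfsg.Lie.IsoSuzuki G := fun hs => by
  obtain ⟨F, i1, i2, m, τ, hm, hF, ⟨M⟩⟩ := exists_szModel hs
  obtain ⟨l, hl⟩ := M.exists_unit_ne_one
  have := h (M.T 1 0) (M.D l) (M.T 0 1) (M.T 1 0) M.T_zero_one_ne_one
    (M.commute_T_iff'.2 (Or.inl rfl)) (by
      rw [M.D_conj_T]; exact M.commute_T_iff'.2 (Or.inl (mul_zero _))) rfl
  rw [M.D_conj_T] at this
  rcases M.commute_T_iff'.1 this with h | h | h
  · simp at h
  · exact one_ne_zero h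
  · refine hl (Units.ext ?_)
    rw [mul_one, ← map_one τ.θ] at h
    exact (τ.θ.injective h).symm

/-- Elements centralising a non-identity element commute with their conjugates. -/
theorem engel (h : TIC G) {z x g : G} (hz : z ≠ 1) (hx : z * x = x * z) (hg : z * g = g * z) :
    Commute x (g * x * g⁻¹) :=
  (h x g z x hz hx (by rw [← hg, mul_inv_cancel_right, hx]) rfl).symm

variable [Finite G]

theorem isCN (h : TIC G) : IsCNGroup G := fun _ hz =>
  isNilpotent_of_engel fun x g => Subtype.ext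
    (h.engel hz (mem_centralizer_singleton_iff.1 x.2).symm (mem_centralizer_singleton_iff.1 g.2).symm)

theorem exists_maxnil {A : Subgroup G} (hA : Group.IsNilpotent A) :
    ∃ H : Subgroup G, A ≤ H ∧ Group.IsNilpotent H ∧
      ∀ L : Subgroup G, Group.IsNilpotent L → H ≤ L → L = H := by
  obtain ⟨H, hH, hm⟩ := Finite.exists_le_maximal (p := fun L : Subgroup G => Group.IsNilpotent L) hA
  exact ⟨H, hH, hm.prop, fun L hL hle => le_antisymm (hm.le_of_ge hL hle) hle⟩

section MaxNil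

variable {H : Subgroup G} (h : TIC G) (hH : Group.IsNilpotent H) (h1 : H ≠ ⊥)
  (hmax : ∀ L : Subgroup G, Group.IsNilpotent L → H ≤ L → L = H)
include h hH h1 hmax

theorem exists_eq_cent : ∃ z ∈ H, z ≠ 1 ∧ centralizer ({z} : Set G) = H := by
  have := (nontrivial_iff_ne_bot H).2 h1
  obtain ⟨z, hz⟩ := (nontrivial_iff_exists_ne_one _).1 (Group.IsNilpotent.center_ne_bot H |>
    (nontrivial_iff_ne_bot _).2)
  have hz1 : (z : G) ≠ 1 := fun e => hz.2 (Subtype.ext e)
  exact ⟨z, z.2, hz1, Solv.CN.maxnil_cent1_eq h.isCN hmax (mem_centralizer_iff.2 fun y hy =>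
    congrArg Subtype.val (mem_center_iff.1 hz.1 ⟨y, hy⟩)) hz1⟩

theorem mem_normalizer {g y : G} (hy : y ∈ H) (hy1 : y ≠ 1) (hg : g * y * g⁻¹ ∈ H) :
    g ∈ normalizer (H : Set G) := by
  obtain ⟨z, -, -, rfl⟩ := h.exists_eq_cent hH h1 hmax
  exact mem_normalizer_fintype fun w hw => mem_centralizer_singleton_iff.2
    (h z g y w hy1 (mem_centralizer_singleton_iff.1 hy) (mem_centralizer_singleton_iff.1 hg)
      (mem_centralizer_singleton_iff.1 hw))

theorem cent_le {x : G} (hx : x ∈ H) (hx1 : x ≠ 1) : centralizer ({x} : Set G) ≤ H := by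
  refine Solv.CN.maxnil_cent1_le_of_TI h.isCN hH hmax (fun g hg => eq_bot_iff.2 fun y hy => ?_) hx hx1
  by_contra hy1
  have h2 : g⁻¹ * y * g⁻¹⁻¹ ∈ H := by
    rw [inv_inv]
    exact mem_cj.1 hy.2
  exact hg (cj_eq_self_iff.2 ((normalizer _).inv_mem_iff.1
    (h.mem_normalizer hH h1 hmax hy.1 hy1 h2)))

end MaxNil

theorem frobenius (h : TIC G) (hn : ¬ Group.IsNilpotent G) (hF : fittingSubgroup G ≠ ⊥) :
    ∃ H : Subgroup G, IsFrobeniusComplement H ∧
      (IsCyclic H ∨ ∃ m : ℕ, Odd m ∧ Nonempty (H ≃* Multiplicative (ZMod m) × QuaternionGroup 2)) := by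
  obtain ⟨H, hle, hH, hmax⟩ := exists_maxnil (Solv.fitting_isNilpotent G)
  have h1 : H ≠ ⊥ := fun e => hF (le_bot_iff.1 (e ▸ hle))
  obtain ⟨y, hy, hy1⟩ := (nontrivial_iff_exists_ne_one _).1 ((nontrivial_iff_ne_bot _).2 hF)
  have : H.Normal := normalizer_eq_top_iff.1 (eq_top_iff.2 fun g _ =>
    h.mem_normalizer hH h1 hmax (hle hy) hy1 (hle ((Solv.fitting_normal G).conj_mem y hy g)))
  obtain ⟨E, hE⟩ := exists_right_complement'_of_coprime (Solv.CN.maxnil_hall h.isCN hH hmax)
  have hE1 : E ≠ ⊥ := by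
    rintro rfl
    have := hE.sup_eq_top
    rw [sup_bot_eq] at this
    subst this
    exact hn (Group.nilpotent_of_mulEquiv topEquiv)
  have hfpf : ∀ e ∈ E, e ≠ 1 → H ⊓ centralizer {e} = ⊥ := fun e he he1 => eq_bot_iff.2 fun x hx => by
    by_contra hx1
    have : e ∈ H ⊓ E := ⟨h.cent_le hH h1 hmax hx.1 hx1
      (mem_centralizer_singleton_iff.2 (mem_centralizer_singleton_iff.1 hx.2).symm), he⟩
    rw [hE.disjoint.eq_bot] at this
    exact he1 this
  have hEN : E ≤ normalizer (H : Set G) := by rw [normalizer_eq_top]; exact le_top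
  have hEn := Solv.CN.nil_of_fpf h.isCN hEN h1 hfpf
  refine ⟨E, Solv.isFrobeniusComplement_of_fpf hE h1 hE1 hfpf, ?_⟩
  rcases Solv.CN.cyclic_or_quaternion_of_nil_fpf hEN h1 hfpf hEn with hc | ⟨C, Q, hCQ, hc, hC, ho, n, ⟨e⟩⟩
  · exact Or.inl hc
  obtain ⟨r, s, hr, hs, hsr, -, hg⟩ := Solv.PG.exists_gens_of_mulEquiv_quaternionGroup e
  have hn1 : n ≤ 1 := by
    have hz : (s * s : Q) ≠ 1 := by
      rw [hs]
      exact pow_ne_one_of_lt_orderOf (by positivity) (by rw [hr]; have := Nat.two_pow_pos n; omega)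
    have h3 := (h.of_injective Q.subtype Q.subtype_injective).engel (x := s) (g := r) hz
      (by group) (by rw [hs]; group)
    have h4 : r ^ 4 = 1 := by
      have e2 : r * s * r⁻¹ = r ^ 2 * s := by
        calc r * s * r⁻¹ = r * (s * r * s⁻¹)⁻¹ * s := by group
          _ = r ^ 2 * s := by rw [hsr, inv_inv, sq]
      have e3 : s * r ^ 2 * s⁻¹ = r ^ 2 := by
        have := h3.eq
        rw [e2] at this
        calc s * r ^ 2 * s⁻¹ = s * (r ^ 2 * s) * s⁻¹ * s⁻¹ := by group
          _ = r ^ 2 := by rw [this]; group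
      rw [← conj_pow, hsr] at e3
      calc r ^ 4 = r ^ 2 * (r⁻¹ ^ 2)⁻¹ := by group
        _ = 1 := by rw [e3]; group
    have h5 := Nat.le_of_dvd (by norm_num) (hr ▸ orderOf_dvd_of_pow_eq_one h4)
    by_contra h6
    have := Nat.pow_le_pow_right (n := 2) (by norm_num) (show 2 ≤ n by omega)
    omega
  have hi : C ⊓ Q = ⊥ := by
    refine (disjoint_of_coprime_natCard ?_).eq_bot
    rw [Nat.card_congr e.toEquiv, Nat.card_eq_fintype_card (α := QuaternionGroup _),
      QuaternionGroup.card, show 4 * 2 ^ n = 2 ^ (n + 2) by ring]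
    exact (Nat.coprime_two_right.2 ho).pow_right _
  obtain ⟨f⟩ := nonempty_sup_equiv_prod hc hi
  rw [hCQ] at f
  interval_cases n
  · left
    have hQ : ∀ a b : Q, a * b = b * a := fun a b => e.injective (by
      rw [map_mul, map_mul]
      exact (by decide : ∀ x y : QuaternionGroup (2 ^ 0), x * y = y * x) _ _)
    have : IsMulCommutative E := ⟨⟨fun a b => f.injective (by
      rw [map_mul, map_mul]
      exact Prod.ext (IsCyclic.commGroup.mul_comm _ _) (hQ _ _))⟩⟩
    exact Solv.Fpf.isCyclic_of_isMulCommutative hEN h1 hfpf le_rfl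
  · exact Or.inr ⟨Nat.card C, ho, ⟨f.trans ((zmodCyclicMulEquiv hC).symm.prodCongr e)⟩⟩

theorem isL2Even (h : TIC G) (hn : ¬ Group.IsNilpotent G) (hF : fittingSubgroup G = ⊥) :
    IsL2Even G := by
  have hnt : Nontrivial G := by
    by_contra h0
    rw [not_nontrivial_iff_subsingleton] at h0
    exact hn inferInstance
  have hs : ¬ Group.IsSolvable G := fun _ => Solv.fitting_ne_bot_of_isSolvable G hF
  obtain ⟨t, ht⟩ := exists_prime_orderOf_dvd_card' 2 (Cor.even_card_of_not_isSolvable hs)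
  have ht1 : t ≠ 1 := SE.ne_one_of_orderOf_two ht
  have hO : oddCore G = ⊥ := by
    by_contra h0
    have : Group.IsSolvable (oddCore G) := FT.odd_order_solvable (Solv.odd_card_oddCore G)
    exact Solv.fitting_inf_ne_bot_of_isSolvable _ h0 (by rw [hF, bot_inf_eq])
  have h2 : TwoRank G := by
    by_contra h2
    have h3 := oddCore_sup_centralizer h2 ht
    rw [hO, bot_sup_eq] at h3
    have : t ∈ fittingSubgroup G := Solv.center_le_fitting G (mem_center_iff.2 fun g =>
      mem_centralizer_singleton_iff.1 (h3.ge (mem_top g)))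
    rw [hF] at this
    exact ht1 this
  obtain ⟨H, hle, hH, hmax⟩ := exists_maxnil (Solv.isNilpotent_of_isMulCommutative (zpowers t))
  have htH : t ∈ H := hle (mem_zpowers t)
  have h1 : H ≠ ⊥ := fun e => ht1 (by rwa [e] at htH)
  obtain ⟨z, hz, hz1, hzH⟩ := h.exists_eq_cent hH h1 hmax
  have hC : CC H := ⟨fun x hx hx1 => h.cent_le hH h1 hmax hx hx1,
    ⟨z, hz, hz1, fun y hy => mem_centralizer_singleton_iff.1 (hzH ▸ hy)⟩, ⟨t, htH, ht⟩, fun e =>
      h1 (le_bot_iff.1 (hF ▸ Solv.le_fitting (normalizer_eq_top_iff.1 e) hH))⟩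
  obtain ⟨w, hS⟩ := hC.setup h2
  have := CC.faithful' hC
  refine isL2Even_of_setup hS h2 (fun s x hs hx e => ?_)
    fun L => (h.of_injective L.subtype L.subtype_injective).not_isoSuzuki
  obtain ⟨P, hP, hsP⟩ := hC.exists_mem hs
  have hxP : x ∈ P := (hC.of_isC hP).mem hsP (SE.ne_one_of_orderOf_two hs) e.symm
  obtain ⟨g, rfl⟩ := hP
  obtain ⟨k, hk⟩ := isPGroup_Q hS h2 ⟨_, mem_cj.1 hxP⟩
  refine CIT.eq_one_of_odd_of_two_pow hx (k := k) ?_
  have := congrArg Subtype.val hk
  simp only [SubgroupClass.coe_pow, OneMemClass.coe_one] at this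
  rw [← inv_inv g, inv_inv g⁻¹, conj_pow] at this
  exact conj_eq_one_iff.1 this

end TIC

end Cfsg.Lib.CITCor
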