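/-
Non-solvable CN-groups and the normal `2`-subgroups of CIT-groups.
-/
import Cfsg.Agent.CITCor.Martineau
import Cfsg.Agent.CITCor.Higman
import Cfsg.Agent.CITCor.MTen
import Cfsg.Agent.CITCor.TICent
import Cfsg.Agent.CITCor.ClsBeta
import Cfsg.Agent.CIT.Main
import Cfsg.Agent.Class.SL2Dickson

set_option autoImplicit false

universe u

namespace Cfsg.Lib.CITCor

open Subgroup Cfsg.Lib.CIT Cfsg.Lib.Chev Cfsg.Lib.Known.GL2 Cfsg.Lib.Class Cfsg.Lib.Rank2
  Cfsg.Lib.Local Cfsg.Lib.Solv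
open scoped MatrixGroups IsMulCommutative

variable {G : Type u} [Group G] [Finite G]

/-- A non-solvable CN-group is a CIT-group. -/
theorem isCIT_of_cn_of_not_isSolvable (hG : ¬ Group.IsSolvable G) (hC : IsCNGroup G) :
    IsCIT G := fun t ht => by
  by_contra hn
  obtain ⟨x, hx, ho, hx1⟩ := exists_odd_of_not_isPGroup hn
  obtain ⟨p, hp, hd⟩ := Nat.exists_prime_and_dvd (mt orderOf_eq_one_iff.1 hx1)
  have := Fact.mk hp
  have hy := orderOf_pow_orderOf_div (orderOf_pos x).ne' hd
  have hpo : Odd p := ho.of_dvd_nat hd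
  have ht1 := SE.ne_one_of_orderOf_two ht
  obtain ⟨H, hH, htH, hyH, hc⟩ := exists_cc_of_cn hC
    (fun e => by rw [← e] at hpo; exact absurd hpo (by decide)) ht hy
    (mem_centralizer_singleton_iff.1 (pow_mem hx _))
  obtain ⟨z, hz, hzo, hzc⟩ := exists_central_prime hH htH ht
  by_cases h2 : Chev.RankOne.TwoRank G
  swap
  · have := FT.odd_order_solvable (odd_card_oddCore G)
    have := hC t ht1
    exact hG (Cls.isSolvable_of_sup _ _ (Bender.oddCore_sup_centralizer h2 ht))
  have hcc : CC H := ⟨hc, ⟨z, hz, SE.ne_one_of_orderOf_two hzo, fun h hh =>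
    mem_centralizer_singleton_iff.1 (hzc hh)⟩, ⟨t, htH, ht⟩, fun e => by
      have := normalizer_eq_top_iff.1 e
      obtain ⟨S, hS⟩ := (IsPGroup.of_card (p := 2) (n := 1)
        ((Nat.card_zpowers t).trans ht)).exists_le_sylow
      obtain ⟨w, hw, hwo, hwc⟩ := exists_central_orderOf_eq S.2 fun e =>
        ht1 (mem_bot.1 (e ▸ hS (mem_zpowers t)))
      have hSH : (S : Subgroup G) ≤ H := fun s hs => hc w (hc t htH ht1
        (mem_centralizer_singleton_iff.2 (hwc t (hS (mem_zpowers t))))) (SE.ne_one_of_orderOf_two hwo)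
        (mem_centralizer_singleton_iff.2 (hwc s hs).symm)
      have := FT.odd_order_solvable (G := G ⧸ H) (Nat.odd_iff.2 (Nat.two_dvd_ne_zero.1 fun h =>
        S.not_dvd_index (h.trans (index_dvd_of_le hSH))))
      exact hG (Group.isSolvable_of_ker_le_range H.subtype (QuotientGroup.mk' H) (by simp))⟩
  obtain ⟨w, hS⟩ := hcc.setup h2
  have := CC.faithful' hcc
  rw [eq_one_of_odd_of_mem (Bender.isPGroup_Q hS h2) hyH (hy.symm ▸ hpo), orderOf_one] at hy
  exact hp.one_lt.ne hy

omit [Finite G] in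
theorem eq_one_of_comm_ker (h : IsCIT G) {H : Type*} [Group H] {π : G →* H} (hk : IsPGroup 2 π.ker)
    {g q : G} {n : ℕ} (hn : Odd n) (h1 : π g ≠ 1) (hg : π g ^ n = 1) (hq : q ∈ π.ker)
    (hc : g * q = q * g) : q = 1 := by
  by_contra hq1
  obtain ⟨k, e⟩ := PG.exists_pow_prime_pow_eq_one hk hq
  obtain ⟨j, e'⟩ := PG.exists_pow_prime_pow_eq_one (h.isPGroup_of_comm (H := zpowers g) hq1 e (by
    rintro _ ⟨m, rfl⟩
    exact ((show Commute g q from hc).zpow_left m).eq)) (mem_zpowers g)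
  exact h1 (eq_one_of_odd_of_two_pow (hn.of_dvd_nat (orderOf_dvd_of_pow_eq_one hg)) (k := j)
    (by rw [← map_pow, e', map_one]))

omit [Finite G] in
theorem pow_eq_one_of_isCIT (h : IsCIT G) {H : Type*} [Group H] {π : G →* H}
    (hk : IsPGroup 2 π.ker) {g : G} {n : ℕ} (hn : Odd n) (h1 : π g ≠ 1) (hg : π g ^ n = 1) :
    g ^ n = 1 :=
  eq_one_of_comm_ker h hk hn h1 hg (by rwa [MonoidHom.mem_ker, map_pow])
    ((Commute.refl g).pow_right n).eq

theorem isElementaryAbelian_of_szModel (h : IsCIT G) {F : Type*} [Field F] [Fintype F] {τ : Tw F}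
    {O : Subgroup G} [O.Normal] (hO : IsPGroup 2 O) (M : SzModel τ (G ⧸ O)) :
    IsMulCommutative O ∧ ∀ a ∈ O, a * a = 1 := by
  classical
  have hk : IsPGroup 2 (QuotientGroup.mk' O).ker := by rwa [QuotientGroup.ker_mk']
  have := Mart.Hyp.elementary (M := M) ⟨QuotientGroup.mk'_surjective O, hk, fun g hg =>
    pow_eq_one_of_isCIT h hk (by decide) (hg ▸ fun e => ?_) (hg ▸ M.ρ_inj ?_)⟩
  · rwa [QuotientGroup.ker_mk'] at this
  · have := congrArg (· • M.inf) e
    simp [mul_smul, M.pt_ne_inf] at this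
  · have t := τ.two
    refine Mart.ext_of_comp (RingHom.id F) fun v => ?_
    simp only [pow_succ, pow_zero, one_mul, Mart.rmul, Mart.rT, Mart.rw_, map_one,
      Matrix.one_mulVec]
    ext i
    fin_cases i <;> simp [Tw.N] <;> grind

theorem eq_bot_of_quotient_psl2_prime (h : IsCIT G) {O : Subgroup G} [O.Normal]
    (hO : IsPGroup 2 O) {F : Type*} [Field F] [Fintype F] (hp : (Fintype.card F).Prime)
    (h7 : 7 ≤ Fintype.card F) (e : G ⧸ O ≃* PSL(2, F)) : O = ⊥ := by
  have := Fact.mk hp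
  have := charP_of_card_eq_prime (R := F) rfl
  have hn : ∀ n : ℕ, 0 < n → n < 7 → (n : F) ≠ 0 := fun n a b c =>
    absurd (Nat.le_of_dvd a ((CharP.cast_eq_zero_iff F _ n).1 c)) (by omega)
  have h2 : (2 : F) ≠ 0 := by exact_mod_cast hn 2 (by omega) (by omega)
  let π : G →* PSL(2, F) := e.toMonoidHom.comp (QuotientGroup.mk' O)
  have hs : Function.Surjective π := e.surjective.comp (QuotientGroup.mk'_surjective O)
  have hk : π.ker = O := by
    rw [MonoidHom.ker_comp_of_injective _ _ e.injective, QuotientGroup.ker_mk']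
  have hU : ∀ x : F, x ≠ 0 → piSL F (slU x) ≠ 1 := fun x hx c => by
    rw [← map_one (piSL F), piSL_eq_iff] at c
    rcases c with c | c <;> exact hx (by simpa using congrArg (fun g : SL(2, F) => g 0 1) c)
  obtain ⟨a, ha⟩ := hs (piSL F (slU 1 * slV (-1)))
  obtain ⟨u, hu⟩ := hs (piSL F (slU (-1)))
  have ha1 : π a ≠ 1 := fun c => by
    rw [ha, ← map_one (piSL F), piSL_eq_iff] at c
    rcases c with c | c <;> simpa using congrArg (fun g : SL(2, F) => g 0 1) c
  have h3 : F3 O a := F3.of_isCIT h hO (orderOf_eq_prime (pow_eq_one_of_isCIT h (hk ▸ hO)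
    (by decide) ha1 (by
      rw [ha, ← map_pow, ← map_one (piSL F), piSL_eq_iff]
      refine Or.inr (Subtype.ext ?_)
      simp [pow_succ, Matrix.one_fin_two])) fun c => ha1 (by rw [c, map_one]))
  have hb : π (u * a * u⁻¹) = piSL F (slV (-1) * slU 1) := by
    rw [map_mul, map_mul, map_inv, ha, hu, ← map_inv, ← map_mul, ← map_mul, slU_neg]
    simp
  have htop : ((closure {a, u * a * u⁻¹}).map π).comap (piSL F) = ⊤ := by
    have m1 : π a ∈ (closure {a, u * a * u⁻¹}).map π := ⟨_, subset_closure (by simp), rfl⟩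
    have m2 : π (u * a * u⁻¹) ∈ (closure {a, u * a * u⁻¹}).map π :=
      ⟨_, subset_closure (by simp), rfl⟩
    have hc : ∀ x : F, ∃ n : ℕ, (n : F) = x := fun x => by
      obtain ⟨z, rfl⟩ := (ZMod.ringEquivOfPrime F hp rfl).surjective x
      exact ⟨z.val, by rw [← map_natCast (ZMod.ringEquivOfPrime F hp rfl), ZMod.natCast_zmod_val]⟩
    refine sl2_eq_top_of_slU_slV _ (fun x => ?_) fun x => ?_
    · obtain ⟨n, hn⟩ := hc (x / -2)
      rw [show x = n * -2 by rw [hn]; field_simp, ← slU_pow]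
      refine pow_mem (mem_comap.2 ?_) n
      convert mul_mem m2 m1 using 1
      rw [ha, hb, ← map_mul, piSL_eq_iff]
      refine Or.inr (Subtype.ext ?_)
      simp
      norm_num
    · obtain ⟨n, hn⟩ := hc (x / 2)
      rw [show x = n * 2 by rw [hn]; field_simp, ← slV_pow]
      refine pow_mem (mem_comap.2 ?_) n
      convert mul_mem m1 m2 using 1
      rw [ha, hb, ← map_mul, piSL_eq_iff]
      refine Or.inr (Subtype.ext ?_)
      simp
      norm_num
  have : IsSimpleGroup PSL(2, F) := Matrix.ProjectiveSpecialLinearGroup.rank_two_simple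
    (by rw [Nat.card_eq_fintype_card]; omega)
  have := e.isSimpleGroup
  obtain ⟨g, hg, eg⟩ := htop.ge (mem_top (slU 1))
  obtain ⟨d, hd, ed⟩ := htop.ge (mem_top (sl2 2 0 0 2⁻¹ (by simp [h2])))
  have hcm : IsMulCommutative O := h3.isMulCommutative hO (h3.conj u) fun c => by
    have c' : π (a * (u * a * u⁻¹)) = π (u * a * u⁻¹ * a) := congrArg e c
    rw [map_mul π a, map_mul π _ a, ha, hb, ← map_mul, ← map_mul, piSL_eq_iff] at c'
    rcases c' with c | c <;> have := congrArg (fun g : SL(2, F) => g 1 0) c <;> simp at this <;>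
      exact h2 (by linear_combination -this)
  have hO' : ∀ {x y : G}, π x = π y → conjEnd O x = conjEnd O y := fun {x y} c => by
    have m : x⁻¹ * y ∈ O := hk ▸ (MonoidHom.eq_iff π).1 c.symm
    rw [← mul_inv_cancel_left x y, map_mul]
    refine (mul_one _).symm.trans (congrArg _ (AddMonoidHom.ext fun q => Additive.toMul.injective
      (Subtype.ext (Eq.symm ?_))))
    exact mul_inv_eq_iff_eq_mul.2 (isMulCommutative_iff_forall.1 hcm _ m _ q.toMul.2)
  have c1 : ∀ d ∈ closure {a, u * a * u⁻¹},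
      conjEnd O d * (conjEnd O g + conjEnd O g⁻¹) * conjEnd O d⁻¹ = conjEnd O g + conjEnd O g⁻¹ := by
    obtain ⟨p, q⟩ := h3.conj_mul_conj hO (h3.conj u) hg
    intro d hd
    induction hd using closure_induction with
    | mem x hx =>
      rcases hx with rfl | rfl
      · rw [p.eq, mul_assoc, ← map_mul, mul_inv_cancel, map_one, mul_one]
      · rw [q.eq, mul_assoc, ← map_mul, mul_inv_cancel, map_one, mul_one]
    | one => simp
    | mul x y _ _ hx hy =>
      rw [mul_inv_rev, map_mul, map_mul, mul_assoc (conjEnd O x), ← mul_assoc,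
        mul_assoc (conjEnd O x), hy, hx]
    | inv x _ hx =>
      rw [← hx, ← mul_assoc, ← mul_assoc, ← map_mul, mul_assoc, ← map_mul, hx]
      simp
  have c2 : conjEnd O (d * g * d⁻¹) = conjEnd O (g ^ 4) := hO' (by
    rw [map_mul, map_mul, map_inv, map_pow, eg, ed, ← map_inv, ← map_mul, ← map_mul, ← map_pow,
      slU_pow, mul_inv_eq_iff_eq_mul.2]
    refine Subtype.ext ?_
    simp [h2]
    field_simp
    norm_num)
  have c3 : conjEnd O (d * g⁻¹ * d⁻¹) * conjEnd O g ^ 4 = 1 := by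
    rw [← map_pow, ← c2, ← map_mul, ← map_one (conjEnd O)]
    congr 1
    group
  have c4 : (conjEnd O g ^ 5 - 1) * (conjEnd O g ^ 3 - 1) = 0 := by
    have c := congrArg (· * conjEnd O g ^ 4) (c1 d hd)
    simp only [mul_add, add_mul, ← map_mul, c2, c3] at c
    rw [show conjEnd O g⁻¹ * conjEnd O g ^ 4 = conjEnd O g ^ 3 by
      rw [← map_pow, ← map_pow, ← map_mul]; congr 1; group, map_pow] at c
    rw [← pow_add, ← pow_succ'] at c
    rw [mul_sub, sub_mul, ← pow_add, one_mul, mul_one, eq_sub_of_add_eq c]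
    abel
  have c5 : ∀ n : ℕ, 0 < n → n < 7 → ∀ q : Additive O, (conjEnd O g ^ n - 1) q = 0 → q = 0 :=
    fun n n0 n7 q hq => Additive.toMul.injective (Subtype.ext (eq_one_of_comm_ker h (π := π)
      (by rwa [hk]) (hp.odd_of_ne_two (by omega)) (g := g ^ n)
      (by rw [map_pow, eg, ← map_pow, slU_pow, mul_one]; exact hU _ (hn n n0 n7))
      (by rw [map_pow, eg, ← pow_mul, mul_comm, pow_mul, ← map_pow, slU_pow_char, map_one, one_pow])
      (hk.ge q.toMul.2) (by
        rw [← map_pow] at hq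
        exact mul_inv_eq_iff_eq_mul.1
          (congrArg (fun q : Additive O => (q.toMul : G)) (sub_eq_zero.1 hq)))))
  exact eq_bot_iff.2 fun q hq => congrArg (fun q : Additive O => (q.toMul : G))
    (c5 3 (by omega) (by omega) (Additive.ofMul ⟨q, hq⟩) (c5 5 (by omega) (by omega) _
      (DFunLike.congr_fun c4 _)))

end Cfsg.Lib.CITCor
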