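/-
Groups in which no prime divides three distinct element orders: generalities.
-/
import Cfsg.Agent.CITCor.CNGen
import Cfsg.Agent.Known.SylowCount
import Cfsg.Agent.S0205

set_option autoImplicit false

namespace Cfsg.Lib.CITCor.TO

open Subgroup

universe u

/-- Some element order is divisible by `n`. -/
def W (G : Type*) [Group G] (n : ℕ) : Prop := ∃ g : G, n ∣ orderOf g

/-- No prime divides three distinct divisors of element orders. -/
def P3 (G : Type*) [Group G] : Prop :=
  ∀ p a b : ℕ, p.Prime → W G (p * a) → W G (p * b) → a = 1 ∨ b = 1 ∨ a = b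

variable {G : Type u} [Group G] {H : Type*} [Group H]

theorem W.of_dvd {m n : ℕ} (h : W G n) (hd : m ∣ n) : W G m := ⟨h.choose, hd.trans h.choose_spec⟩

theorem W.of_surjective {n : ℕ} (h : W H n) (f : G →* H) (hf : Function.Surjective f) : W G n := by
  obtain ⟨x, hx⟩ := h
  obtain ⟨g, rfl⟩ := hf x
  exact ⟨g, hx.trans (orderOf_map_dvd f g)⟩

theorem P3.of_surjective (h : P3 G) (f : G →* H) (hf : Function.Surjective f) : P3 H :=
  fun p a b hp ha hb => h p a b hp (ha.of_surjective f hf) (hb.of_surjective f hf)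

theorem W.of_commute {x y : G} (h : Commute x y) (hc : (orderOf x).Coprime (orderOf y)) :
    W G (orderOf x * orderOf y) := ⟨x * y, (h.orderOf_mul_eq_mul_orderOf_of_coprime hc).symm.dvd⟩

theorem P3.length_le (h : P3 G) {n : ℕ} (hn : W G n) : n.primeFactorsList.length ≤ 2 := by
  rcases eq_or_ne n 0 with rfl | h0
  · simp
  have hp := Nat.prod_primeFactorsList h0
  have hm := @Nat.prime_of_mem_primeFactorsList n
  generalize n.primeFactorsList = l at hp hm
  by_contra hl
  obtain ⟨p, q, r, l, rfl⟩ : ∃ p q r l', l = p :: q :: r :: l' := by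
    rcases l with _ | ⟨p, _ | ⟨q, _ | ⟨r, l⟩⟩⟩ <;> simp at hl ⊢
  have hq := (hm (p := q) (by simp)).two_le
  have hr := (hm (p := r) (by simp)).two_le
  have := h p q (q * r) (hm (by simp)) (hn.of_dvd ⟨r * l.prod, by simp [← hp, mul_assoc]⟩)
    (hn.of_dvd ⟨l.prod, by simp [← hp, mul_assoc]⟩)
  rcases this with h | h | h <;> nlinarith

variable [Finite G]

theorem p3_of (h3 : ∀ p : ℕ, p.Prime → ∀ a b c : G, orderOf a ≠ orderOf b → orderOf b ≠ orderOf c →
    orderOf a ≠ orderOf c → ¬ (p ∣ orderOf a ∧ p ∣ orderOf b ∧ p ∣ orderOf c)) : P3 G := by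
  rintro p a b hp ⟨x, hx⟩ ⟨y, hy⟩
  by_contra hc
  push Not at hc
  have e := fun (z : G) n (hn : n ∣ orderOf z) => orderOf_pow_orderOf_div (orderOf_pos z).ne' hn
  refine h3 p hp (x ^ (orderOf x / p)) (x ^ (orderOf x / (p * a))) (y ^ (orderOf y / (p * b)))
    ?_ ?_ ?_ ?_ <;> simp only [e x p ((dvd_mul_right p a).trans hx), e x _ hx, e y _ hy]
  · exact fun c => hc.1 (mul_left_cancel₀ hp.ne_zero (c.symm.trans (mul_one p).symm))
  · exact fun c => hc.2.2 (mul_left_cancel₀ hp.ne_zero c)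
  · exact fun c => hc.2.1 (mul_left_cancel₀ hp.ne_zero (c.symm.trans (mul_one p).symm))
  · simp

theorem isMulCommutative_of_not_four (h : ¬ W G 4) {S : Subgroup G} (hS : IsPGroup 2 S) :
    IsMulCommutative S := by
  have := Fact.mk Nat.prime_two
  have k : ∀ x : S, x * x = 1 := fun x => by
    obtain ⟨k, hk⟩ := IsPGroup.iff_orderOf.1 hS x
    rw [← sq, ← orderOf_dvd_iff_pow_eq_one, hk]
    by_contra c
    refine h ⟨x, ?_⟩
    rw [orderOf_coe, hk]
    match k, c with
    | k + 2, _ => exact ⟨2 ^ k, by ring⟩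
  exact ⟨⟨fun a b => by
    rw [← mul_inv_eq_one, mul_inv_rev, inv_eq_of_mul_eq_one_right (k a),
      inv_eq_of_mul_eq_one_right (k b), k]⟩⟩

/-- An element of odd prime order acts nontrivially on an abelian Sylow `2`-subgroup. -/
theorem P3.exists_odd [IsSimpleGroup G] (h : P3 G) (hs : ¬ Group.IsSolvable G) (P : Sylow 2 G)
    (hP : IsMulCommutative P) : ∃ y ∈ normalizer (P : Set G), (orderOf y).Prime ∧ orderOf y ≠ 2 ∧
      y ∉ centralizer (P : Set G) := by
  have := Fact.mk Nat.prime_two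
  have h2 : 2 ∣ Nat.card P := P.dvd_card_of_dvd_card (by
    by_contra c
    exact hs (Agent.S0205.result (Nat.odd_iff.2 (by omega))))
  obtain ⟨y, hy, hyC⟩ := SetLike.not_le_iff_exists.1 (Known.SC.not_normalizer_le_centralizer P
    (by rintro c; simp [c] at h2) fun c => hs (by
      have : IsPGroup 2 G := (c ▸ P.isPGroup').of_equiv topEquiv
      have := this.isNilpotent
      infer_instance))
  induction' hn : orderOf y using Nat.strong_induction_on with n ih generalizing y
  subst hn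
  by_contra hc
  have hpow : ∀ p : ℕ, p.Prime → p ∣ orderOf y → y ^ p ∈ centralizer (P : Set G) := fun p hp hd => by
    by_contra c
    refine hc (ih _ ?_ _ (pow_mem hy p) c rfl)
    rw [orderOf_pow_of_dvd hp.ne_zero hd]
    exact Nat.div_lt_self (orderOf_pos y) hp.one_lt
  obtain ⟨u, hu, hd, hu2⟩ : ∃ u : ℕ, u.Prime ∧ u ∣ orderOf y ∧ u ≠ 2 := by
    by_contra c
    push Not at c
    have e := Nat.eq_prime_pow_of_unique_prime_dvd (orderOf_pos y).ne' fun hd h => c _ hd h
    have : IsPGroup 2 (zpowers y) := IsPGroup.of_card (by rw [Nat.card_zpowers, e])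
    have hm : y ∈ zpowers y ⊓ normalizer (P : Set G) := ⟨mem_zpowers y, hy⟩
    rw [this.inf_normalizer_sylow] at hm
    exact hyC (le_centralizer (P : Subgroup G) hm.2)
  have hu' : ∀ p : ℕ, p.Prime → p ∣ orderOf y → p = u := fun p hp hd' => by
    by_contra c
    have := Nat.gcd_eq_gcd_ab p u
    rw [(Nat.coprime_primes hp hu).2 c] at this
    refine hyC ?_
    rw [← zpow_one y, show (1 : ℤ) = _ from this, zpow_add, zpow_mul, zpow_mul, zpow_natCast,
      zpow_natCast]
    exact mul_mem (zpow_mem (hpow p hp hd') _) (zpow_mem (hpow u hu hd) _)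
  obtain ⟨m, hm⟩ := hd
  have hm1 : m ≠ 1 := by
    rintro rfl
    exact hc ⟨y, hy, by simpa [hm] using hu, by simpa [hm] using hu2, hyC⟩
  have hum : u ∣ m := hu' _ (Nat.minFac_prime hm1) (hm ▸ (Nat.minFac_dvd m).mul_left u) ▸
    Nat.minFac_dvd m
  obtain ⟨t, ht⟩ := exists_prime_orderOf_dvd_card' 2 h2
  have ho : orderOf (y ^ u) = m := by
    rw [orderOf_pow_of_dvd hu.ne_zero ⟨m, hm⟩, hm, Nat.mul_div_cancel_left _ hu.pos]
  have hw := W.of_commute (hpow u hu ⟨m, hm⟩ t t.2) (by
    rw [orderOf_coe, ht, ho, Nat.Prime.coprime_iff_not_dvd Nat.prime_two]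
    exact fun c => hu2 (hu' 2 Nat.prime_two (hm ▸ c.mul_left u)).symm)
  rw [orderOf_coe, ht, ho, mul_comm] at hw
  have := h u u 2 hu ⟨y, hm ▸ Nat.mul_dvd_mul_left u hum⟩ (hw.of_dvd (Nat.mul_dvd_mul_right hum 2))
  have := hu.two_le
  omega

/-- If the norm of `y` vanishes, the commutators `[x, y]` act trivially. -/
theorem smul_comm_eq {A : Type*} [AddCommGroup A] [DistribMulAction G A] {P : Subgroup G}
    (hP : IsMulCommutative P) {y : G} (hy : y ∈ normalizer (P : Set G)) (hu : (orderOf y).Prime)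
    (hN : ∀ a : A, ∑ i ∈ Finset.range (orderOf y), y ^ i • a = 0) {x : G} (hx : x ∈ P) (a : A) :
    Nat.card P • (x * y * x⁻¹ * y⁻¹) • a = Nat.card P • a := by
  classical
  have := Fintype.ofFinite P
  let S : ℕ → A := fun i => ∑ x : P, ((x : G) * y ^ i * (x : G)⁻¹) • a
  have h0 : ∑ i ∈ Finset.range (orderOf y), S i = 0 := by
    rw [Finset.sum_comm]
    refine Finset.sum_eq_zero fun x _ => ?_
    simp only [mul_smul]
    rw [← Finset.smul_sum, hN, smul_zero]
  have hi : ∀ i ∈ Finset.range (orderOf y), i ≠ 0 → (x * y * x⁻¹ * y⁻¹) • S i = S i := by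
    intro i hi hi0
    have hz : y ^ i ∈ normalizer (P : Set G) := pow_mem hy i
    have e : ∃ j, (y ^ i) ^ j = y :=
      exists_pow_eq_self_of_coprime ((Nat.coprime_of_lt_prime hi0 (Finset.mem_range.1 hi) hu).symm)
    simp only [S]
    generalize y ^ i = z at hz e
    obtain ⟨j, rfl⟩ := e
    have k : ∀ x ∈ P, x * z * x⁻¹ * z⁻¹ ∈
        MulAction.stabilizer G (∑ x : P, ((x : G) * z * (x : G)⁻¹) • a) := fun x hx => by
      rw [MulAction.mem_stabilizer_iff, Finset.smul_sum]
      refine Fintype.sum_equiv (Equiv.mulLeft (⟨x, hx⟩ : P)) _ _ fun w => ?_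
      have c1 : z⁻¹ * w * z * x⁻¹ = x⁻¹ * (z⁻¹ * w * z) := congrArg Subtype.val
        (hP.1.1 ⟨_, (mem_normalizer_iff''.1 hz w).1 w.2⟩ ⟨x⁻¹, inv_mem hx⟩)
      have c2 : x * w = w * x := congrArg Subtype.val (hP.1.1 ⟨x, hx⟩ w)
      rw [smul_smul]
      congr 1
      calc _ = x * z * (x⁻¹ * (z⁻¹ * w * z)) * (w : G)⁻¹ := by group
        _ = x * w * z * (w * x)⁻¹ := by rw [← c1]; group
        _ = _ := by rw [← c2]; rfl
    change _ ∈ MulAction.stabilizer G _
    clear hN h0 hi hi0 hu hy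
    induction j with
    | zero => simp
    | succ j ih =>
      convert mul_mem ih (k _ ((mem_normalizer_iff.1 (pow_mem hz j) x).1 hx)) using 1
      group
  have h1 : ∑ i ∈ Finset.range (orderOf y), ((x * y * x⁻¹ * y⁻¹) • S i - S i) = 0 := by
    rw [Finset.sum_sub_distrib, ← Finset.smul_sum, h0, smul_zero, sub_zero]
  rw [Finset.sum_eq_single 0 (fun i a b => by rw [hi i a b, sub_self])
    (fun c => absurd (Finset.mem_range.2 hu.pos) c), sub_eq_zero] at h1
  simpa [S, smul_comm (Fintype.card P)] using h1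

theorem P3.eq_bot_of_elementary [Finite H] [IsSimpleGroup H] (h : P3 G) (hs : ¬ Group.IsSolvable H)
    (h4 : ¬ W H 4) {π : G →* H} (hπ : Function.Surjective π) {s : ℕ} (hp : s.Prime) (hs2 : s ≠ 2)
    (hc : IsMulCommutative π.ker) (he : ∀ v ∈ π.ker, v ^ s = 1) : π.ker = ⊥ := by
  have := Fact.mk Nat.prime_two
  have := Fact.mk hp
  obtain ⟨A, _, _, _, e, e', h1, h2, h3, h4', h5⟩ := Mart.exists_module hπ le_rfl fun n hn a ha =>
    mul_inv_eq_iff_eq_mul.2 (congrArg Subtype.val (hc.1.1 ⟨n, hn⟩ ⟨a, ha⟩))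
  have inj : Function.Injective e := Function.LeftInverse.injective h1
  have e0 : e 0 = 1 := by simpa using h4' 0 0
  have hcan : ∀ n : ℕ, ¬ s ∣ n → ∀ a : A, n • a = 0 → a = 0 := fun n hn a ha => by
    have k : ∀ n : ℕ, e (n • a) = e a ^ n := fun n => by
      induction n with
      | zero => simpa using e0
      | succ n ih => rw [succ_nsmul, h4', ih, pow_succ]
    have := Nat.dvd_gcd (orderOf_dvd_of_pow_eq_one (he _ (h2 a)))
      (orderOf_dvd_of_pow_eq_one (x := e a) (n := n) (by rw [← k, ha, e0]))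
    rw [(hp.coprime_iff_not_dvd.2 hn).gcd_eq_one, Nat.dvd_one, orderOf_eq_one_iff] at this
    exact inj (this.trans e0.symm)
  by_contra h0
  obtain ⟨a₀, ha₀⟩ : ∃ a : A, a ≠ 0 := by
    obtain ⟨a, ha⟩ := (Subgroup.ne_bot_iff_exists_ne_one).1 h0
    exact ⟨e' a, fun c => ha (Subtype.ext (by rw [← h3 a a.2, c, e0]; rfl))⟩
  have hK := (MulAction.toPermHom H A).normal_ker.eq_bot_or_eq_top
  have mK : ∀ g, g ∈ (MulAction.toPermHom H A).ker ↔ ∀ a : A, g • a = a := fun g =>
    Equiv.ext_iff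
  have hw : W G (s * 2) := by
    obtain ⟨t, ht⟩ := exists_prime_orderOf_dvd_card' (G := H) 2 (by
      by_contra c
      exact hs (Agent.S0205.result (Nat.odd_iff.2 (by omega))))
    have tt : t * t = 1 := by rw [← sq, ← ht, pow_orderOf_eq_one]
    obtain ⟨a, ha⟩ : ∃ a : A, a + t • a ≠ 0 := by
      by_contra c
      push Not at c
      have c' : ∀ a : A, t • a = -a := fun a => eq_neg_of_add_eq_zero_right (c a)
      rcases hK with hK | hK
      · have : t ∈ center H := mem_center_iff.2 fun g => by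
          rw [← mul_inv_eq_one, ← mem_bot, ← hK, mK]
          intro a
          simp [mul_smul, inv_eq_of_mul_eq_one_right tt, c']
        rcases (inferInstance : (center H).Normal).eq_bot_or_eq_top with k | k
        · simp [mem_bot.1 (k ▸ this)] at ht
        · exact hs (Group.isSolvable_of_comm fun a b => (mem_center_iff.1 (k ▸ mem_top b) a))
      · refine ha₀ (hcan 2 (fun d => hs2 ((Nat.prime_dvd_prime_iff_eq hp Nat.prime_two).1 d)) _ ?_)
        rw [two_nsmul, ← c a₀, (mK t).1 (hK ▸ mem_top t)]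
    obtain ⟨g, rfl⟩ := hπ t
    have hb : π g • (a + π g • a) = a + π g • a := by rw [smul_add, smul_smul, tt, one_smul, add_comm]
    have ho : orderOf (e (a + π g • a)) = s :=
      orderOf_eq_prime (he _ (h2 _)) fun c => ha (inj (c.trans e0.symm))
    have h2g : 2 ∣ orderOf g := ht ▸ orderOf_map_dvd π g
    by_cases hd : s ∣ orderOf g
    · exact ⟨g, ((Nat.coprime_primes hp Nat.prime_two).2 hs2).mul_dvd_of_dvd_of_dvd hd h2g⟩
    · have := W.of_commute (x := e (a + π g • a)) (y := g)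
        (mul_inv_eq_iff_eq_mul.1 (by rw [← h5, hb])).symm (ho ▸ hp.coprime_iff_not_dvd.2 hd)
      exact this.of_dvd (ho ▸ Nat.mul_dvd_mul_left s h2g)
  have hN : ∀ y : H, (orderOf y).Prime → orderOf y ≠ 2 → ∀ a : A,
      ∑ i ∈ Finset.range (orderOf y), y ^ i • a = 0 := fun y hy hy2 a => by
    have k : ∀ g, π g = y → g ^ orderOf y = 1 := fun g hg => by
      by_contra c
      have hd : orderOf y ∣ orderOf g := hg ▸ orderOf_map_dvd π g
      have := orderOf_eq_prime (he _ (show g ^ orderOf y ∈ π.ker by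
        rw [MonoidHom.mem_ker, map_pow, hg, pow_orderOf_eq_one])) c
      rw [orderOf_pow_of_dvd hy.ne_zero hd] at this
      have := h s _ 2 hp ⟨g, by rw [← this, Nat.div_mul_cancel hd]⟩ hw
      have := hy.two_le
      omega
    obtain ⟨g, rfl⟩ := hπ y
    have k' : ∀ n, (e a * g) ^ n = e (∑ i ∈ Finset.range n, π g ^ i • a) * g ^ n := fun n => by
      induction n with
      | zero => simp [e0]
      | succ n ih => rw [pow_succ, ih, Finset.sum_range_succ, h4', ← map_pow, h5]; group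
    apply inj
    have := k' (orderOf (π g))
    rwa [k g rfl, k _ (by rw [map_mul, h2 a, one_mul]), mul_one, eq_comm, ← e0] at this
  let P : Sylow 2 H := default
  have hP := isMulCommutative_of_not_four h4 P.isPGroup'
  obtain ⟨y, hy, hy1, hy2, hy3⟩ := (h.of_surjective π hπ).exists_odd hs P hP
  rcases hK with hK | hK
  · refine hy3 fun x hx => ?_
    rw [← mul_inv_eq_one, mul_inv_rev, ← mul_assoc, ← mem_bot, ← hK, mK]
    intro a
    refine sub_eq_zero.1 (hcan (Nat.card P) (fun c => hs2 ?_) _ ?_)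
    · obtain ⟨k, hk⟩ := P.isPGroup'.exists_card_eq
      exact (Nat.prime_dvd_prime_iff_eq hp Nat.prime_two).1 (hp.dvd_of_dvd_pow (hk ▸ c))
    · rw [smul_sub, smul_comm_eq hP hy hy1 (hN y hy1 hy2) hx, sub_self]
  · refine hs (Char.isSolvable_of_prime_dvd_card Nat.prime_two hp H fun r hr hd => ?_)
    have := Fact.mk hr
    obtain ⟨z, rfl⟩ := exists_prime_orderOf_dvd_card' r hd
    by_contra c
    push Not at c
    refine ha₀ (hcan _ (fun d => c.2 ((Nat.prime_dvd_prime_iff_eq hp hr).1 d).symm) _ ?_)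
    simpa [(mK _).1 (hK ▸ mem_top _)] using hN z hr c.1 a₀

theorem P3.eq_bot_of_odd [Finite H] [IsSimpleGroup H] (h : P3 G) (hs : ¬ Group.IsSolvable H)
    (h4 : ¬ W H 4) {π : G →* H} (hπ : Function.Surjective π) (ho : Odd (Nat.card π.ker)) :
    π.ker = ⊥ := by
  induction' hn : Nat.card G using Nat.strong_induction_on with n ih generalizing G
  by_contra h0
  obtain ⟨K, hK, hle⟩ := Solv.exists_isMinNormal_le π.ker h0
  have := hK.normal
  have := ih _ (hn ▸ Mart.card_quot_lt hK.ne_bot)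
    (h.of_surjective _ (QuotientGroup.mk'_surjective K)) (π := QuotientGroup.lift K π hle)
    (fun x => (hπ x).elim fun g hg => ⟨g, hg⟩) (by
      rw [QuotientGroup.ker_lift]
      exact ho.of_dvd_nat (card_map_dvd _ _)) rfl
  rw [QuotientGroup.ker_lift, Subgroup.map_eq_bot_iff, QuotientGroup.ker_mk'] at this
  obtain rfl := le_antisymm hle this
  have := Agent.S0205.result ho
  obtain ⟨s, hp, hc, he, hs'⟩ := hK.elementary
  have := Fact.mk hp
  refine h0 (h.eq_bot_of_elementary hs h4 hπ hp ?_ hc he)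
  rintro rfl
  exact (Nat.not_even_iff_odd.2 ho) (even_iff_two_dvd.2
    (hs'.card_eq_or_dvd.resolve_left (π.ker.one_lt_card_iff_ne_bot.2 h0).ne'))

end Cfsg.Lib.CITCor.TO
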