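import Cfsg.Agent.Solv.TwoClassSizes
import Cfsg.Agent.FT.BG3.CFix
import Mathlib.Algebra.CharP.Lemmas

/-!
Abstract lemmas on faithful actions on abelian groups, used for groups with few class sizes.
-/

set_option autoImplicit false

namespace Cfsg.Lib.CITCor.Cls

open Subgroup Cfsg.Lib.Solv SemidirectProduct
open scoped commutatorElement

/-- An `s`-element whose fixed points on the abelian `s`-group `S` are fixed by `X` normalizes
no `s'`-group `X` acting nontrivially (ambient form). -/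
theorem le_centralizer_of_normalized {G : Type*} [Group G] [Finite G] {s : ℕ} [Fact s.Prime]
    {S X : Subgroup G} [IsMulCommutative S] (hS : IsPGroup s S) (hX : X ≤ normalizer (S : Set G))
    (hcop : ¬ s ∣ Nat.card X) {g : G} (hgS : g ∈ normalizer (S : Set G))
    (hgX : g ∈ normalizer (X : Set G)) (hg : IsPGroup s (zpowers g))
    (hfix : S ⊓ centralizer {g} ≤ centralizer (X : Set G)) : X ≤ centralizer (S : Set G) := by
  rw [← commutator_eq_bot_iff_le_centralizer']
  by_contra hT
  have hzg : zpowers g ≤ normalizer (S : Set G) := zpowers_le.2 hgS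
  have hP : IsPGroup s (S ⊔ zpowers g : Subgroup G) := hS.to_sup_of_normal_left' hg hzg
  have hTS : ⁅S, X⁆ ≤ S := commutator_le_left_of_le_normalizer hX
  have hn : S ⊔ zpowers g ≤ normalizer ((⁅S, X⁆ : Subgroup G) : Set G) :=
    sup_le (left_le_normalizer_commutator S X)
      (le_normalizer_commutator hzg (zpowers_le.2 hgX))
  have h1 := PG.inf_centralizer_ne_bot_of_isNilpotent hP.isNilpotent (hTS.trans le_sup_left) hn hT
  apply h1
  rw [eq_bot_iff, ← Coprime.centralizer_inf_commutator_eq_bot hX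
    (coprime_card_of_isPGroup hS
      ((Nat.Prime.coprime_iff_not_dvd Fact.out).2 hcop).symm).symm]
  rintro v ⟨hv1, hv2⟩
  refine ⟨⟨hTS hv1, hfix ⟨hTS hv1, ?_⟩⟩, hv1⟩
  exact mem_centralizer_singleton_iff.2
    (mem_centralizer_iff.1 hv2 g (le_sup_right (a := S) (mem_zpowers g))).symm

section Abs

variable {W S : Type*} [Group W] [Group S] [Finite W] [Finite S]

/-- Abstract form of `le_centralizer_of_normalized`. -/
theorem eq_bot_of_normalized {s : ℕ} [Fact s.Prime] [IsMulCommutative S] (hS : IsPGroup s S)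
    {φ : W →* MulAut S} (hφ : Function.Injective φ) {X : Subgroup W} (hcop : ¬ s ∣ Nat.card X)
    {g : W} (hgX : g ∈ normalizer (X : Set W)) (hg : IsPGroup s (zpowers g))
    (hfix : ∀ v, φ g v = v → ∀ x ∈ X, φ x v = v) : X = ⊥ := by
  have hc : IsMulCommutative (Act.L φ ⊤) := by
    refine PG.isMulCommutative_of_forall ?_
    rintro _ ⟨a, -, rfl⟩ _ ⟨b, -, rfl⟩
    rw [← map_mul, ← map_mul, mul_comm' a b]
  have h1 := le_centralizer_of_normalized (G := S ⋊[φ] W) (s := s) (S := Act.L φ ⊤)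
    (X := Act.R φ X) (Act.isPGroup_L.2 (hS.to_subgroup ⊤)) (Act.R_le_normalizer_L_top X)
    (by rwa [Act.card_R]) (g := inr g) (by rw [normalizer_eq_top]; exact mem_top _)
    (Act.R_le_normalizer_R.2 (zpowers_le.2 hgX) (Act.inr_mem_R.2 (mem_zpowers g)))
    (by rw [← MonoidHom.map_zpowers]; exact Act.isPGroup_R.2 hg)
    (by
      rw [Act.L_inf_centralizer_inr, Act.L_le_centralizer_R]
      rintro v ⟨-, hv⟩
      exact hfix v (Act.mem_fix_zpowers.1 hv))
  rw [Act.R_le_centralizer_L] at h1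
  rw [eq_bot_iff]
  intro x hx
  rw [mem_bot]
  apply hφ
  rw [map_one]
  ext v
  exact h1 (mem_top v) x hx

end Abs

/-- The kernels of the powers of an endomorphism. -/
def kerPow {V : Type*} [Group V] (δ : V →* V) : ℕ → Subgroup V
  | 0 => ⊥
  | j + 1 => (kerPow δ j).comap δ

theorem mem_kerPow {V : Type*} [Group V] {δ : V →* V} {j : ℕ} {v : V} :
    v ∈ kerPow δ j ↔ δ^[j] v = 1 := by
  induction j generalizing v with
  | zero => simp [kerPow]
  | succ j ih => rw [kerPow, mem_comap, ih, Function.iterate_succ_apply]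

theorem kerPow_le_succ {V : Type*} [Group V] (δ : V →* V) (j : ℕ) :
    kerPow δ j ≤ kerPow δ (j + 1) := fun v hv => by
  rw [mem_kerPow] at hv ⊢
  rw [Function.iterate_succ_apply', hv, map_one]

/-- Kernels of the powers of an endomorphism grow at most geometrically. -/
theorem card_kerPow_le {V : Type*} [Group V] [Finite V] (δ : V →* V) {r : ℕ}
    (h : (kerPow δ 1).relIndex (kerPow δ 2) ≤ r) (j : ℕ) :
    Nat.card (kerPow δ (j + 1)) ≤ r ^ j * Nat.card (kerPow δ 1) := by
  have hrel : ∀ j, (kerPow δ (j + 1)).relIndex (kerPow δ (j + 2)) ≤ r := fun j => by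
    induction j with
    | zero => exact h
    | succ j ih =>
      refine le_trans ?_ ih
      change ((kerPow δ (j + 1)).comap δ).relIndex _ ≤ _
      rw [relIndex_comap]
      refine relIndex_le_of_le_right ?_ index_ne_zero_of_finite
      rw [map_le_iff_le_comap]
      exact le_rfl
  induction j with
  | zero => simp
  | succ j ih =>
    rw [← PG.relIndex_mul_card (kerPow_le_succ δ (j + 1)), pow_succ', mul_assoc]
    exact Nat.mul_le_mul (hrel j) ih

/-- The commutator map `v ↦ η v * v⁻¹` of an automorphism of an abelian group. -/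
def dlt {V : Type*} [CommGroup V] (η : MulAut V) : V →* V where
  toFun v := η v * v⁻¹
  map_one' := by simp
  map_mul' a b := by rw [map_mul, mul_inv, mul_mul_mul_comm]

theorem dlt_apply {V : Type*} [CommGroup V] (η : MulAut V) (v : V) : dlt η v = η v * v⁻¹ := rfl

theorem iterate_dlt_eq_one {V : Type*} [CommGroup V] (η : MulAut V) {r : ℕ} (hr : r.Prime)
    (hη : η ^ r = 1) {v : V} (hv : v ^ r = 1) : (dlt η)^[r] v = 1 := by
  let T : Module.End ℤ (Additive V) := (MonoidHom.toAdditive η.toMonoidHom).toIntLinearMap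
  have hT : ∀ (j : ℕ) (w : V), (T ^ j) (Additive.ofMul w) = Additive.ofMul ((η ^ j) w) := by
    intro j
    induction j with
    | zero => intro w; simp
    | succ j ih =>
      intro w
      rw [pow_succ', pow_succ', Module.End.mul_apply, ih, MulAut.mul_apply]
      rfl
  have hTr : T ^ r = 1 := by
    ext w
    have := hT r w.toMul
    rw [hη] at this
    simpa using this
  have hδ : ∀ (j : ℕ) (w : V),
      ((T - 1) ^ j) (Additive.ofMul w) = Additive.ofMul ((dlt η)^[j] w) := by
    intro j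
    induction j with
    | zero => intro w; simp
    | succ j ih =>
      intro w
      rw [pow_succ', Module.End.mul_apply, ih, Function.iterate_succ_apply', dlt_apply,
        LinearMap.sub_apply, sub_eq_add_neg]
      rfl
  obtain ⟨X, hX⟩ := (Commute.one_right (T - 1)).exists_add_pow_prime_eq hr
  rw [sub_add_cancel, hTr, one_pow, mul_one, mul_assoc,
    (Nat.cast_commute r ((T - 1) * X)).eq] at hX
  have h1 := congrArg (fun f : Module.End ℤ (Additive V) => f (Additive.ofMul v)) hX
  simp only [LinearMap.add_apply, Module.End.mul_apply, Module.End.natCast_apply,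
    Module.End.one_apply] at h1
  rw [← ofMul_pow, hv, ofMul_one, map_zero, map_zero, add_zero, hδ, right_eq_add] at h1
  exact h1

theorem card_le_of_unipotent {V : Type*} [CommGroup V] [Finite V] (η : MulAut V)
    {r : ℕ} (hr : r.Prime) (hη : η ^ r = 1)
    (h : (kerPow (dlt η) 1).relIndex (kerPow (dlt η) 2) ≤ r)
    (M : Subgroup V) (hM : ∀ v ∈ M, v ^ r = 1) (hMK : ∀ v ∈ M, η v = v → v = 1) :
    Nat.card M ≤ r ^ (r - 1) := by
  have h1 := card_kerPow_le (dlt η) h (r - 1)
  rw [Nat.sub_add_cancel hr.one_le] at h1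
  have hle : M ⊔ kerPow (dlt η) 1 ≤ kerPow (dlt η) r := by
    refine sup_le (fun v hv => mem_kerPow.2 (iterate_dlt_eq_one η hr hη (hM v hv))) ?_
    exact monotone_nat_of_le_succ (kerPow_le_succ (dlt η)) hr.one_le
  have h0 : M ⊓ kerPow (dlt η) 1 = ⊥ := by
    rw [eq_bot_iff]
    rintro v ⟨hv1, hv2⟩
    have : η v * v⁻¹ = 1 := mem_kerPow.1 hv2
    exact hMK v hv1 (mul_inv_eq_one.1 this)
  have h2 := PG.card_sup_mul_card_inf (K := M) (H := kerPow (dlt η) 1)
    (by rw [normalizer_eq_top]; exact le_top)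
  rw [h0, card_bot, mul_one] at h2
  refine Nat.le_of_mul_le_mul_right (c := Nat.card (kerPow (dlt η) 1)) ?_ Nat.card_pos
  rw [← h2]
  exact (card_le_of_le hle).trans h1

theorem conj_pow_eq_pow_pow {W : Type*} [Group W] {γ τ : W} {l : ℕ}
    (h : τ * γ * τ⁻¹ = γ ^ l) (n : ℕ) : τ ^ n * γ * (τ ^ n)⁻¹ = γ ^ l ^ n := by
  induction n with
  | zero => simp
  | succ n ih =>
    calc τ ^ (n + 1) * γ * (τ ^ (n + 1))⁻¹ = τ * (τ ^ n * γ * (τ ^ n)⁻¹) * τ⁻¹ := by
          rw [pow_succ']; group
      _ = (τ * γ * τ⁻¹) ^ l ^ n := by rw [ih, conj_pow]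
      _ = γ ^ l ^ (n + 1) := by rw [h, ← pow_mul, ← pow_succ']

/-- The key contradiction for two "bad" primes. -/
theorem two_bad {W A B : Type*} [Group W] [Finite W] [Group A] [Finite A] [IsMulCommutative A]
    [CommGroup B] [Finite B] {q r : ℕ} [hq : Fact q.Prime] [hr : Fact r.Prime] (hrq : r < q)
    (hA : IsPGroup q A) (hB : IsPGroup r B) {φ : W →* MulAut A} (hφ : Function.Injective φ)
    {ψ : W →* MulAut B} (hψ : Function.Injective ψ)
    (hfr : ∀ g : W, orderOf g = r → ∀ v, ψ g v = v → ∀ w, ψ w v = v)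
    {γ η τ : W} (hγ : orderOf γ = q) (hη : orderOf η = r)
    (hfq : ∀ v, φ γ v = v → ∀ w, φ w v = v)
    (hdim : (kerPow (dlt (ψ η)) 1).relIndex (kerPow (dlt (ψ η)) 2) ≤ r)
    (hτ : ¬ q ∣ orderOf τ) {l : ℕ} (hl : orderOf (l : ZMod q) = q - 1)
    (hconj : τ * γ * τ⁻¹ = γ ^ l) : False := by
  have hγ1 : γ ≠ 1 := by
    rintro rfl
    exact hq.out.one_lt.ne (by simpa using hγ)
  have hcK : Nat.card (zpowers γ) = q := by rw [Nat.card_zpowers, hγ]
  have hrK : ¬ r ∣ Nat.card (zpowers γ) := by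
    rw [hcK, Nat.prime_dvd_prime_iff_eq hr.out hq.out]
    exact hrq.ne
  have hRK : zpowers τ ≤ normalizer (zpowers γ : Set W) := by
    refine zpowers_le.2 (mem_normalizer_of_conj_mem ?_)
    rintro _ ⟨n, rfl⟩
    simp only
    rw [← conj_zpow, hconj]
    exact zpow_mem (pow_mem (mem_zpowers γ) l) n
  have hrR : ¬ r ∣ Nat.card (zpowers τ) := by
    intro h
    obtain ⟨ρ, hρ, hρo⟩ := exists_mem_orderOf_eq_prime hr.out h
    have := eq_bot_of_normalized hB hψ hrK (hRK hρ)
      (ClassSize.isPGroup_zpowers_of_pow_eq_one (k := 1) (by rw [pow_one, ← hρo, pow_orderOf_eq_one]))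
      (fun v hv x _ => hfr ρ hρo v hv x)
    exact hγ1 (zpowers_eq_bot.1 this)
  have hfpf : ∀ x ∈ zpowers τ, x ≠ 1 → zpowers γ ⊓ centralizer {x} = ⊥ := by
    intro x hx hx1
    have := Fact.mk (hcK ▸ hq.out)
    rcases (((centralizer ({x} : Set W))).subgroupOf (zpowers γ)).eq_bot_or_eq_top_of_prime_card
      with h | h
    · rw [subgroupOf_eq_bot, disjoint_comm] at h
      exact h.eq_bot
    · exfalso
      have hc : γ ∈ centralizer ({x} : Set W) := subgroupOf_eq_top.1 h (mem_zpowers γ)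
      have := eq_bot_of_normalized hA hφ (X := zpowers x) (g := γ) (by
          rw [Nat.card_zpowers]
          exact fun h => hτ (h.trans (orderOf_dvd_of_mem_zpowers hx)))
        (centralizer_le_normalizer _ (by rwa [ClassSize.centralizer_zpowers]))
        (ClassSize.isPGroup_zpowers_of_pow_eq_one (k := 1)
          (by rw [pow_one, ← hγ, pow_orderOf_eq_one]))
        (fun v hv x _ => hfq v hv x)
      exact hx1 (zpowers_eq_bot.1 this)
  have hcR : q - 1 ≤ Nat.card (zpowers τ) := by
    rw [Nat.card_zpowers, ← hl]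
    refine Nat.le_of_dvd (orderOf_pos τ) (orderOf_dvd_of_pow_eq_one ?_)
    have h1 := conj_pow_eq_pow_pow hconj (orderOf τ)
    rw [pow_orderOf_eq_one, one_mul, inv_one, mul_one] at h1
    have h2 : γ ^ 1 = γ ^ l ^ orderOf τ := by rwa [pow_one]
    rw [pow_inj_mod, hγ] at h2
    have h3 := (ZMod.natCast_eq_natCast_iff' 1 (l ^ orderOf τ) q).2 h2
    rw [Nat.cast_pow, Nat.cast_one] at h3
    exact h3.symm
  -- the module
  let E : Subgroup B := (powMonoidHom r : B →* B).ker
  have hE : ∀ X : Subgroup W, Act.Inv ψ X E := fun X b _ x hx => by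
    have : x ^ r = 1 := hx
    change (ψ b x) ^ r = 1
    rw [← map_pow, this, map_one]
  let M : Subgroup B := Act.comm ψ ⊤ (zpowers γ) ⊓ E
  have hcopK : (Nat.card (zpowers γ)).Coprime (Nat.card B) :=
    (coprime_card_of_isPGroup hB ((Nat.Prime.coprime_iff_not_dvd hr.out).2 hrK).symm).symm
  have hcopR : (Nat.card (zpowers τ)).Coprime (Nat.card B) :=
    (coprime_card_of_isPGroup hB ((Nat.Prime.coprime_iff_not_dvd hr.out).2 hrR).symm).symm
  have hMfix : M ⊓ Act.fix ψ (zpowers γ) = ⊥ := by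
    rw [eq_bot_iff, ← Act.fix_inf_comm_eq_bot (φ := ψ) (H := ⊤) (B := zpowers γ) (Act.inv_top _)
      (by rwa [card_top])]
    exact fun v hv => ⟨⟨mem_top _, hv.2⟩, hv.1.1⟩
  have hMne : M ≠ ⊥ := by
    have h1 : Act.comm ψ ⊤ (zpowers γ) ≠ ⊥ := by
      rw [Ne, Act.comm_eq_bot_iff]
      intro h
      apply hγ1
      apply hψ
      rw [map_one]
      ext v
      exact h (mem_top v) γ (mem_zpowers γ)
    obtain ⟨x, hx, hxp⟩ := Coprime.exists_prime_orderOf_of_ne_bot h1
    obtain ⟨k, hk⟩ := IsPGroup.iff_orderOf.1 hB x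
    have hxr : orderOf x = r := by
      have : orderOf x ∣ r := hxp.dvd_of_dvd_pow (by rw [hk])
      exact (Nat.prime_dvd_prime_iff_eq hxp hr.out).1 this
    intro h
    have : x ∈ M := ⟨hx, by change x ^ r = 1; rw [← hxr, pow_orderOf_eq_one]⟩
    rw [h, mem_bot] at this
    rw [this, orderOf_one] at hxr
    exact hr.out.one_lt.ne hxr
  have hnorm : ∀ X : Subgroup W, X ≤ normalizer (zpowers γ : Set W) →
      Act.R ψ X ≤ normalizer (Act.L ψ M : Set (B ⋊[ψ] W)) := fun X hX => by
    rw [Act.L_inf, ← Act.commutator_L_R]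
    exact le_normalizer_inf (le_normalizer_commutator (Act.R_le_normalizer_L_top X)
      (Act.R_le_normalizer_R.2 hX)) (Act.R_le_normalizer_L.2 (hE X))
  have hcM : Nat.card M ∣ Nat.card B := card_subgroup_dvd_card M
  have hW := FT.Frobenius_Wielandt_card (G := B ⋊[ψ] W) (K := Act.R ψ (zpowers γ))
    (R := Act.R ψ (zpowers τ)) (M := Act.L ψ M) (Act.R_le_normalizer_R.2 hRK)
    (by
      rintro _ ⟨x, hx, rfl⟩ hx1
      rw [eq_bot_iff]
      rintro _ ⟨⟨y, hy, rfl⟩, hc⟩
      have hx1' : x ≠ 1 := fun h => hx1 (by rw [h, map_one])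
      have : y ∈ zpowers γ ⊓ centralizer {x} := ⟨hy, mem_centralizer_singleton_iff.2 (by
        have := mem_centralizer_singleton_iff.1 hc
        rw [← map_mul, ← map_mul] at this
        exact inr_injective this)⟩
      rw [hfpf x hx hx1', mem_bot] at this
      rw [this, map_one]
      exact one_mem _)
    (Act.isSolvable_L.2 inferInstance) (hnorm _ le_normalizer) (hnorm _ hRK)
    (by rw [Act.card_L, Act.card_R]; exact (hcopK.coprime_dvd_right hcM).symm)
    (by rw [Act.card_L, Act.card_R]; exact (hcopR.coprime_dvd_right hcM).symm)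
    (by rw [Act.L_inf_centralizer_R, hMfix, Act.L_eq_bot_iff])
  rw [Act.L_inf_centralizer_R, Act.card_L, Act.card_L, Act.card_R] at hW
  have hup := card_le_of_unipotent (ψ η) hr.out
    (by rw [← map_pow, ← hη, pow_orderOf_eq_one, map_one]) hdim M (fun v hv => hv.2) (by
      intro v hv hfix
      have : v ∈ M ⊓ Act.fix ψ (zpowers γ) := ⟨hv, fun b _ => hfr η hη v hfix b⟩
      rwa [hMfix, mem_bot] at this)
  have hlow : r ≤ Nat.card (M ⊓ Act.fix ψ (zpowers τ) : Subgroup B) := by
    obtain ⟨k, hk⟩ := IsPGroup.iff_card.1 (hB.to_subgroup (M ⊓ Act.fix ψ (zpowers τ)))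
    rw [hk] at hW ⊢
    rcases k with _ | k
    · rw [pow_zero, one_pow, card_eq_one] at hW
      exact absurd hW hMne
    · exact Nat.le_self_pow k.succ_ne_zero r
  have h1 : r ^ (q - 1) ≤ Nat.card M := by
    rw [hW]
    exact (Nat.pow_le_pow_right hr.out.pos hcR).trans (Nat.pow_le_pow_left hlow _)
  have h2 := (Nat.pow_le_pow_iff_right hr.out.one_lt).1 (h1.trans hup)
  have := hr.out.one_le
  omega

end Cfsg.Lib.CITCor.Cls
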