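import Cfsg.Agent.CITCor.ClsBeta
import Cfsg.Agent.Solv.KegelWielandtB

/-!
Centreless groups with at most four class sizes.
-/

set_option autoImplicit false

namespace Cfsg.Lib.CITCor.Cls

open Subgroup Cfsg.Lib.Solv Cfsg.Lib.Solv.ClassSize Cfsg.Lib.Fus Cfsg.Lib.Local
open scoped commutatorElement Pointwise

universe u

local notation:max "𝐂[" x "]" => Subgroup.centralizer ({x} : Set _)

variable {G : Type u} [Group G] [Finite G]

theorem card_eq_of_index_eq {A B : Subgroup G} (h : A.index = B.index) :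
    Nat.card A = Nat.card B := by
  have h1 := A.card_mul_index.trans B.card_mul_index.symm
  rw [h] at h1
  exact Nat.eq_of_mul_eq_mul_right (Nat.pos_of_ne_zero index_ne_zero_of_finite) h1

theorem SSC.not_dvd_index {B : Subgroup G} (h : SSC B) (hZ : center G = ⊥) {r : ℕ} (hr : r.Prime)
    (hd : r ∣ Nat.card B) : ¬ r ∣ B.index := by
  have := Fact.mk hr
  obtain ⟨w, hw, ho⟩ := exists_mem_orderOf_eq_prime hr hd
  obtain ⟨R, hR⟩ := (isPGroup_zpowers_of_orderOf (k := 1) (by rw [pow_one, ho])).exists_le_sylow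
  obtain ⟨z, -, hz, hc⟩ := exists_central_of_dvd R (hd.trans (card_subgroup_dvd_card B))
  have h1 : z ∈ B := by
    rw [← h.eq w hw (by rw [hZ, mem_bot]; exact ne_one_of_orderOf_prime hr ho), mem_cent_comm]
    exact hc (hR (mem_zpowers w))
  rw [h.eq z h1 (by rw [hZ, mem_bot]; exact ne_one_of_orderOf_prime hr hz)] at hc
  exact not_dvd_index_of_sylow_le R hc

omit [Finite G] in
theorem comm_of_forall_not_dvd {y : G} (h : ∀ r : ℕ, r.Prime → ¬ r ∣ 𝐂[y].index) :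
    y ∈ center G := by
  rw [← index_cent_eq_one_iff]
  by_contra h1
  obtain ⟨r, hr, hd⟩ := Nat.exists_prime_and_dvd h1
  exact h r hr hd

/-- A centreless group with class sizes `1, m, l, n`, where `m` properly divides `l`. -/
structure Tri (G : Type u) [Group G] (m k n : ℕ) : Prop where
  hZ : center G = ⊥
  sizes : ∀ x : G, x ≠ 1 → 𝐂[x].index = m ∨ 𝐂[x].index = m * k ∨ 𝐂[x].index = n
  cop : m.Coprime n
  m1 : 1 < m
  n1 : 1 < n
  k1 : 1 < k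

namespace Tri

variable {m k n : ℕ} (h : Tri G m k n)
include h

omit [Finite G] in
theorem nc {x : G} (hx : x ≠ 1) : x ∉ center G := by rwa [h.hZ, mem_bot]

omit [Finite G] h in
theorem ne_one {x : G} (hx : x ∉ center G) : x ≠ 1 := fun h1 => hx (h1 ▸ one_mem _)

omit [Finite G] in
theorem lt : m < m * k := by nlinarith [h.m1, h.k1]

omit [Finite G] in
theorem not_m_dvd : ¬ m ∣ n := fun h1 => h.m1.ne' (h.cop.eq_one_of_dvd h1)

omit [Finite G] in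
theorem not_n_dvd : ¬ n ∣ m := fun h1 => h.n1.ne' (h.cop.symm.eq_one_of_dvd h1)

theorem maxM {v w : G} (hv : 𝐂[v].index = m) (hw : w ∉ center G) (hle : 𝐂[v] ≤ 𝐂[w]) :
    𝐂[w] = 𝐂[v] := by
  have h1 := index_dvd_of_le hle
  rcases h.sizes w (ne_one hw) with h2 | h2 | h2
  · exact (cent_eq_of_le_of_index_le hle (by rw [hv, h2])).symm
  · rw [h2, hv] at h1
    exact absurd (Nat.le_of_dvd (by linarith [h.m1]) h1) h.lt.not_ge
  · rw [h2, hv] at h1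
    exact absurd h1 h.not_n_dvd

theorem maxN {v w : G} (hv : 𝐂[v].index = n) (hw : w ∉ center G) (hle : 𝐂[v] ≤ 𝐂[w]) :
    𝐂[w] = 𝐂[v] := by
  have h1 := index_dvd_of_le hle
  rcases h.sizes w (ne_one hw) with h2 | h2 | h2
  · rw [h2, hv] at h1
    exact absurd h1 h.not_m_dvd
  · rw [h2, hv] at h1
    exact absurd ((Dvd.intro _ rfl).trans h1) h.not_m_dvd
  · exact (cent_eq_of_le_of_index_le hle (by rw [hv, h2])).symm

theorem minL {x : G} (hx : 𝐂[x].index = m * k) (w : G) (hw : w ∉ center G) (hle : 𝐂[w] ≤ 𝐂[x]) :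
    𝐂[w] = 𝐂[x] := by
  have h1 := index_dvd_of_le hle
  rcases h.sizes w (ne_one hw) with h2 | h2 | h2
  · rw [h2, hx] at h1
    exact absurd (Nat.le_of_dvd (by linarith [h.m1]) h1) h.lt.not_ge
  · exact cent_eq_of_le_of_index_le hle (by rw [hx, h2])
  · rw [h2, hx] at h1
    exact absurd ((Dvd.intro _ rfl).trans h1) h.not_m_dvd

theorem top {v : G} (hv : 𝐂[v].index = m) : Top 𝐂[v] k := by
  refine ⟨fun u hu hle => h.maxM hv hu hle, fun y hy hle => ?_⟩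
  have h1 := relIndex_mul_index hle
  rw [hv] at h1
  rcases h.sizes y (ne_one hy) with h2 | h2 | h2
  · exact Or.inl (Nat.eq_of_mul_eq_mul_right (m := m) (by linarith [h.m1]) (by rw [h1, h2, one_mul]))
  · exact Or.inr (Nat.eq_of_mul_eq_mul_right (m := m) (by linarith [h.m1])
      (by rw [h1, h2, mul_comm]))
  · exact absurd (h2 ▸ h1 ▸ Dvd.intro_left _ rfl) h.not_m_dvd

omit [Finite G] in
theorem card_mul_k {x y : G} (hx : 𝐂[x].index = m * k) (hy : 𝐂[y].index = m) :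
    Nat.card 𝐂[x] * k = Nat.card 𝐂[y] := by
  have h1 := 𝐂[x].card_mul_index.trans 𝐂[y].card_mul_index.symm
  rw [hx, hy, mul_comm m, ← mul_assoc] at h1
  exact Nat.eq_of_mul_eq_mul_right (by linarith [h.m1]) h1

theorem card_dvd {x y : G} (hx : 𝐂[x].index = m ∨ 𝐂[x].index = m * k) (hy : 𝐂[y].index = m) :
    Nat.card 𝐂[x] ∣ Nat.card 𝐂[y] := by
  rcases hx with hx | hx
  · exact (card_eq_of_index_eq (hx.trans hy.symm)).dvd
  · exact Dvd.intro _ (h.card_mul_k hx hy)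

omit [Finite G] in
theorem m_dvd_card {x y : G} (hx : 𝐂[x].index = n) (hy : 𝐂[y].index = m) : m ∣ Nat.card 𝐂[x] := by
  refine h.cop.dvd_of_dvd_mul_right ?_
  rw [← hx, card_mul_index, ← hy]
  exact index_dvd_card _

theorem exists_primary {y : G} (hy1 : y ≠ 1) (hy : 𝐂[y].index = m ∨ 𝐂[y].index = n) :
    ∃ (s i : ℕ) (v : G), s.Prime ∧ s ∣ orderOf y ∧ v ∈ zpowers y ∧ v ≠ 1 ∧ orderOf v = s ^ i ∧
      𝐂[v] = 𝐂[y] := by
  obtain ⟨s, i, v, hs, hd, hv, hi, hvZ⟩ := exists_primary_not_mem (h.nc hy1)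
  refine ⟨s, i, v, hs, hd, hv, ne_one hvZ, hi, ?_⟩
  rcases hy with hy | hy
  · exact h.maxM hy hvZ (cent_le_cent_of_mem_zpowers hv)
  · exact h.maxN hy hvZ (cent_le_cent_of_mem_zpowers hv)

theorem alpha_beta {x₀ y₀ : G} (hy1 : y₀ ≠ 1) (hy : 𝐂[y₀].index = m)
    (hx : 𝐂[x₀].index = m * k) (hle : 𝐂[x₀] ≤ 𝐂[y₀]) : (∃ σ t : ℕ, σ.Prime ∧ k = σ ^ t) ∨
      ∃ s q : ℕ, s.Prime ∧ q.Prime ∧ q ≠ s ∧ s ∣ k ∧ q ∣ k ∧
        ∀ r : ℕ, r.Prime → r ∣ Nat.card 𝐂[y₀] → r = s ∨ r = q := by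
  obtain ⟨s, i, v, hs, -, -, hv1, hi, hvy⟩ := h.exists_primary hy1 (Or.inl hy)
  rcases (h.top hy).cases hs (h.nc hv1) hi hvy with ⟨j, hj⟩ | h1 | ⟨q, hq, hqs, h1⟩
  · exact Or.inl ⟨s, j, hs, hj⟩
  · refine Or.inl (exists_pow_of_two_sizes h.k1 h1 ⟨⟨x₀, hle (self_mem_cent x₀)⟩, ?_⟩)
    rw [index_cent_subtype]
    refine Nat.eq_of_mul_eq_mul_right (m := m) (by linarith [h.m1]) ?_
    rw [mul_comm k, ← hx, ← hy, relIndex_mul_index hle]
  · have h2 : ∀ r : ℕ, r.Prime → r ∣ Nat.card 𝐂[y₀] → r = s ∨ r = q := fun r hr hd => by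
      by_contra hc
      push Not at hc
      obtain ⟨u, hu, ho⟩ := exists_mem_orderOf_eq_prime hr hd
      exact h.nc (ne_one_of_orderOf_prime hr ho) (h1 r 1 u hr hc.1 hc.2 hu (by rw [pow_one, ho]))
    have h3 : k ∣ Nat.card 𝐂[y₀] := Dvd.intro_left _ (h.card_mul_k hx hy)
    have hk0 : k ≠ 0 := by linarith [h.k1]
    by_cases hsk : s ∣ k
    · by_cases hqk : q ∣ k
      · exact Or.inr ⟨s, q, hs, hq, hqs, hsk, hqk, h2⟩
      · obtain ⟨j, hj⟩ := (isPiNum_singleton_iff hs hk0).1 fun r hr hd =>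
          (h2 r hr (hd.trans h3)).resolve_right fun h4 => hqk (h4 ▸ hd)
        exact Or.inl ⟨s, j, hs, hj⟩
    · obtain ⟨j, hj⟩ := (isPiNum_singleton_iff hq hk0).1 fun r hr hd =>
        (h2 r hr (hd.trans h3)).resolve_left fun h4 => hsk (h4 ▸ hd)
      exact Or.inl ⟨q, j, hq, hj⟩

theorem beta_two {y₀ x' y' : G} (hy : 𝐂[y₀].index = m) (hy1 : y' ≠ 1) (hy' : 𝐂[y'].index = n)
    (hx' : 𝐂[x'].index = m * k) (hle : 𝐂[x'] ≤ 𝐂[y']) {s q : ℕ} (hs : s.Prime) (hq : q.Prime)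
    (hβ : ∀ r : ℕ, r.Prime → r ∣ Nat.card 𝐂[y₀] → r = s ∨ r = q) : Group.IsSolvable G := by
  refine Char.isSolvable_of_prime_dvd_card hs hq G fun ρ hρ hd => ?_
  by_contra hc
  have hpi : ∀ x : G, ρ ∣ Nat.card 𝐂[x] → ¬ (𝐂[x].index = m ∨ 𝐂[x].index = m * k) :=
    fun x h1 h2 => hc (hβ ρ hρ (h1.trans (h.card_dvd h2 hy)))
  rw [← 𝐂[y₀].card_mul_index, hρ.dvd_mul, hy] at hd
  have hρb : ρ ∣ Nat.card 𝐂[y'] :=
    (hd.resolve_left fun h1 => hc (hβ ρ hρ h1)).trans (h.m_dvd_card hy' hy)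
  obtain ⟨r, i, v, hr, hrd, -, hv1, hi, hvy⟩ := h.exists_primary hy1 (Or.inr hy')
  have hrρ : r ≠ ρ := fun h1 => hpi x' (h1 ▸ hrd.trans (orderOf_dvd_natCard _
    (mem_cent_comm.1 (hle (self_mem_cent x'))))) (Or.inr hx')
  obtain ⟨u, hu, ho⟩ := exists_mem_orderOf_eq_prime hρ hρb
  have hc' : Commute v u := (mem_cent_iff_commute.1 (hvy ▸ hu)).symm
  have hco : (orderOf v).Coprime (orderOf u) := by
    rw [hi, ho]
    exact ((Nat.coprime_primes hr hρ).2 hrρ).pow_left i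
  have h1 := cent_mul_of_coprime hc' hco
  have h2 := mul_not_mem_center (h.nc hv1) hc' hco
  have h3 : u ∈ 𝐂[v * u] := h1 ▸ ⟨hvy ▸ hu, self_mem_cent u⟩
  have h4 : 𝐂[v * u].index = n := by
    have := hpi _ (ho ▸ orderOf_dvd_natCard _ h3)
    rcases h.sizes _ (ne_one h2) with h4 | h4 | h4
    · exact absurd (Or.inl h4) this
    · exact absurd (Or.inr h4) this
    · exact h4
  have h5 := h.maxN h4 (h.nc hv1) (h1 ▸ inf_le_left)
  have h6 : x' ∈ 𝐂[u] := by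
    have : x' ∈ 𝐂[v * u] := h5 ▸ hvy ▸ hle (self_mem_cent x')
    rw [h1] at this
    exact this.2
  exact hpi x' (ho ▸ orderOf_dvd_natCard _ (mem_cent_comm.1 h6)) (Or.inr hx')

theorem case_two {x₀ y₀ x' y' : G} (hy1 : y₀ ≠ 1) (hy : 𝐂[y₀].index = m)
    (hx : 𝐂[x₀].index = m * k) (hle : 𝐂[x₀] ≤ 𝐂[y₀]) (hy1' : y' ≠ 1) (hy' : 𝐂[y'].index = n)
    (hx' : 𝐂[x'].index = m * k) (hle' : 𝐂[x'] ≤ 𝐂[y']) : Group.IsSolvable G := by
  obtain ⟨k', hk'⟩ : n ∣ m * k := hx' ▸ hy' ▸ index_dvd_of_le hle'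
  have hnk : n ∣ k := h.cop.symm.dvd_of_dvd_mul_left (Dvd.intro _ hk'.symm)
  have hmk : m ∣ k' := h.cop.dvd_of_dvd_mul_left (hk' ▸ Dvd.intro _ rfl)
  have hk0 : k' ≠ 0 := by
    rintro rfl
    have := h.lt
    omega
  have h' : Tri G n k' m := ⟨h.hZ, fun x hx => by
    rcases h.sizes x hx with h1 | h1 | h1
    · exact Or.inr (Or.inr h1)
    · exact Or.inr (Or.inl (h1.trans hk'))
    · exact Or.inl h1, h.cop.symm, h.n1, h.m1,
    h.m1.trans_le (Nat.le_of_dvd (Nat.pos_of_ne_zero hk0) hmk)⟩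
  rcases h.alpha_beta hy1 hy hx hle with ⟨σ, t, hσ, ht⟩ | ⟨s, q, hs, hq, -, -, -, hβ⟩
  · rcases h'.alpha_beta hy1' hy' (hx'.trans hk') hle' with
      ⟨σ', t', hσ', ht'⟩ | ⟨s, q, hs, hq, -, -, -, hβ⟩
    · refine isSolvable_of_kaz (i := t') (t := t) hσ' hσ fun r j x _ _ _ => ?_
      rw [← ht, ← ht']
      by_cases hx1 : x = 1
      · rw [hx1, index_cent_eq_one_iff.2 (one_mem _)]
        exact one_dvd _
      rcases h.sizes x hx1 with h1 | h1 | h1 <;> rw [h1]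
      · exact hmk.mul_right k
      · exact Nat.mul_dvd_mul_right hmk k
      · exact hnk.mul_left k'
    · exact h'.beta_two hy' hy1 hy (hx.trans hk') hle hs hq hβ
  · exact h.beta_two hy hy1' hy' hx' hle' hs hq hβ

theorem not_dvd_card_of_ssc (hB : ∀ y : G, y ≠ 1 → 𝐂[y].index = n → SSC 𝐂[y]) {x y : G}
    (hx1 : x ≠ 1) (hx : 𝐂[x].index = m) (hy1 : y ≠ 1) (hy : 𝐂[y].index = n) {r : ℕ} (hr : r.Prime)
    (hd : r ∣ Nat.card 𝐂[x]) : ¬ r ∣ Nat.card 𝐂[y] := by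
  intro hd'
  obtain ⟨w, hw, ho⟩ := exists_mem_orderOf_eq_prime hr hd
  have hw1 := ne_one_of_orderOf_prime hr ho
  obtain ⟨g, hg⟩ := exists_conj_mem_of_not_dvd (k := 1) hr ((hB y hy1 hy).not_dvd_index h.hZ hr hd')
    (x := w) (by rw [pow_one, ho])
  have h1 := ((hB y hy1 hy).index_eq (h.nc hw1) hg).trans hy
  have h2 := (hB w hw1 h1).eq x (mem_cent_comm.1 hw) (h.nc hx1)
  rw [h2, h1] at hx
  exact h.not_m_dvd hx.symm.dvd

section Alpha

variable (hB : ∀ y : G, y ≠ 1 → 𝐂[y].index = n → SSC 𝐂[y]) {y : G} (hy1 : y ≠ 1)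
  (hy : 𝐂[y].index = n) (hns : ¬ Group.IsSolvable G) {σ t : ℕ} (hσ : σ.Prime) (hk : k = σ ^ t)
include hB hy1 hy hns

theorem not_nilpotent {v : G} (hv : 𝐂[v].index = m) : ¬ Group.IsNilpotent 𝐂[v] := fun hn => by
  have := (hB y hy1 hy).comm
  exact hns (KW.kegel_wielandt hn (isNilpotent_of_isMulCommutative 𝐂[y])
    (forall_mul_of_coprime_index (by rw [hv, hy]; exact h.cop)))

include hσ hk

theorem eq_sigma {v : G} (hv1 : v ≠ 1) (hv : 𝐂[v].index = m)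
    {s i : ℕ} (hs : s.Prime) (hi : orderOf v = s ^ i) : s = σ := by
  have hσk : σ ∣ k := by
    rw [hk]
    refine dvd_pow_self σ ?_
    rintro rfl
    have := h.k1
    rw [hk, pow_zero] at this
    exact this.false
  by_contra hsσ
  have hsk : ¬ s ∣ k := fun h1 =>
    hsσ ((Nat.prime_dvd_prime_iff_eq hs hσ).1 (hs.dvd_of_dvd_pow (hk ▸ h1)))
  refine h.not_nilpotent hB hy1 hy hns hv ?_
  rcases (h.top hv).cases hs (h.nc hv1) hi rfl with ⟨j, hj⟩ | h1 | ⟨q, hq, hqs, h1⟩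
  · exact absurd ((Nat.prime_dvd_prime_iff_eq hσ hs).1 (hσ.dvd_of_dvd_pow (hj ▸ hσk))).symm hsσ
  · exact isNilpotent_of_two_sizes' h1
  · have := Fact.mk hs
    have := Fact.mk hq
    obtain ⟨S⟩ : Nonempty (Sylow s 𝐂[v]) := inferInstance
    obtain ⟨hS, K, hK, hc, -⟩ := sylow_direct_of_not_dvd_index S fun u hu hd => by
      rcases (h.top hv).idx_of_coprime (h.nc hv1) rfl u (by rw [hi]; exact hu.symm.pow_left i)
        with h2 | h2
      · exact hs.one_lt.ne' (Nat.dvd_one.1 (h2 ▸ hd))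
      · exact hsk (h2 ▸ hd)
    have hKq : IsPGroup q K := by
      rw [isPGroup_iff_isPiNum]
      intro r hr hd
      by_contra hrq
      obtain ⟨u, -, ho⟩ := exists_mem_orderOf_eq_prime hr hd
      refine h.nc (x := u) (fun h2 => ne_one_of_orderOf_prime hr ho (Subtype.ext h2))
        (h1 r 1 u hr (fun h2 => S.not_dvd_index ?_) hrq u.2 (by rw [pow_one, orderOf_coe, ho]))
      rwa [hc.index_eq_card, ← h2]
    rw [← fitting_eq_top_iff, eq_top_iff, ← hc.sup_eq_top]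
    exact sup_le (le_fitting hK hKq.isNilpotent) (le_fitting hS S.isPGroup'.isNilpotent)

theorem alpha {x₀ y₀ : G} (hy₀1 : y₀ ≠ 1) (hy₀ : 𝐂[y₀].index = m) (hx₀ : 𝐂[x₀].index = m * k) :
    False := by
  have := Fact.mk hσ
  have hM : ∀ v : G, v ≠ 1 → 𝐂[v].index = m → ∃ i, orderOf v = σ ^ i := fun v hv1 hv =>
    (isPiNum_singleton_iff hσ (orderOf_pos v).ne').1 fun s hs hd => by
      obtain ⟨i, hi⟩ := exists_orderOf_constt hs v
      have h1 := FT.constt_ne_one_of_dvd (π := {s}) hs hd rfl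
      exact h.eq_sigma hB hy1 hy hns hσ hk h1 (by
        rw [h.maxM hv (h.nc h1) (cent_le_cent_of_mem_zpowers (FT.cycle_constt _ v)), hv]) hs hi
  have hab : ∀ r : ℕ, r.Prime → r ∣ Nat.card 𝐂[y₀] → ¬ r ∣ Nat.card 𝐂[y] := fun r hr hd =>
    h.not_dvd_card_of_ssc hB hy₀1 hy₀ hy1 hy hr hd
  have hL : ∀ x : G, x ≠ 1 → (¬ ∃ i, orderOf x = σ ^ i) → ∀ r : ℕ, r.Prime →
      r ∣ Nat.card 𝐂[y₀] → r ∣ Nat.card 𝐂[x] → 𝐂[x].index = m * k := fun x hx1 hx r hr h1 h2 => by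
    rcases h.sizes x hx1 with h3 | h3 | h3
    · exact absurd (hM x hx1 h3) hx
    · exact h3
    · exact absurd (card_eq_of_index_eq (h3.trans hy.symm) ▸ h2) (hab r hr h1)
  obtain ⟨i₀, hi₀⟩ := hM y₀ hy₀1 hy₀
  obtain ⟨ρ, hρ, hρd, hρσ⟩ : ∃ ρ : ℕ, ρ.Prime ∧ ρ ∣ Nat.card 𝐂[y₀] ∧ ρ ≠ σ := by
    by_contra hc
    push Not at hc
    exact h.not_nilpotent hB hy1 hy hns hy₀ (isPGroup_iff_isPiNum.2 hc).isNilpotent
  have := Fact.mk hρ
  have hρσ' : ∀ {x : G}, ρ ∣ orderOf x → ¬ ∃ i, orderOf x = σ ^ i := by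
    rintro x hd ⟨i, hi⟩
    exact hρσ ((Nat.prime_dvd_prime_iff_eq hρ hσ).1 (hρ.dvd_of_dvd_pow (hi ▸ hd)))
  have hρk : ¬ ρ ∣ k := fun h1 =>
    hρσ ((Nat.prime_dvd_prime_iff_eq hρ hσ).1 (hρ.dvd_of_dvd_pow (hk ▸ h1)))
  have hρl : ¬ ρ ∣ m * k := fun h1 => (hρ.dvd_mul.1 h1).elim
    (fun h2 => hab ρ hρ hρd (h2.trans (h.m_dvd_card hy hy₀))) hρk
  obtain ⟨u, hu, ho⟩ := exists_mem_orderOf_eq_prime hρ hρd
  have hu1 := ne_one_of_orderOf_prime hρ ho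
  have hul : 𝐂[u].index = m * k := hL u hu1 (hρσ' ho.symm.dvd) ρ hρ hρd
    (ho ▸ orderOf_dvd_natCard _ (self_mem_cent u))
  have hmin : ∀ x ∈ 𝐂[u], (orderOf x).Coprime ρ → 𝐂[u] ≤ 𝐂[x] := fun x hx hc =>
    cent_le_of_min (h.nc hu1) (h.minL hul) hx (ho ▸ hc.symm)
  have hLA : 𝐂[u] ≤ 𝐂[y₀] := hmin y₀ (mem_cent_comm.1 hu)
    (by rw [hi₀]; exact ((Nat.coprime_primes hσ hρ).2 hρσ.symm).pow_left i₀)
  have htwo : ∀ w : 𝐂[y₀], (orderOf w).Coprime σ → 𝐂[w].index = 1 ∨ 𝐂[w].index = k :=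
    fun w hw => (h.top hy₀).idx_of_coprime (h.nc hy₀1) rfl w (by
      rw [hi₀]; exact hw.symm.pow_left i₀)
  obtain ⟨H, hH, -, ⟨j, hj⟩, -⟩ := exists_abelian_complement (G := 𝐂[y₀]) (p := σ) fun w hw => by
    rcases htwo w hw with h1 | h1
    · exact ⟨0, h1⟩
    · exact ⟨t, h1.trans hk⟩
  have hρcomm : ∀ R : Subgroup G, R ≤ 𝐂[y₀] → IsPGroup ρ R → ∀ a ∈ R, R ≤ 𝐂[a] := by
    intro R hR hRρ a ha b hb
    obtain ⟨P, hP⟩ := exists_sylow_le_of_not_dvd_index (p := ρ) (C := H) fun h1 =>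
      hρσ ((Nat.prime_dvd_prime_iff_eq hρ hσ).1 (hρ.dvd_of_dvd_pow (hj ▸ h1)))
    obtain ⟨g, -, hg⟩ := (sylIn_top P).exists_conj (U := R.subgroupOf 𝐂[y₀]) le_top
      hRρ.comap_subtype
    have h1 := setLike_mul_comm (hP (hg ⟨b, hR hb⟩ hb)) (hP (hg ⟨a, hR ha⟩ ha))
    rw [conj_mul, conj_mul, mul_left_inj, mul_right_inj] at h1
    exact mem_cent.2 (congrArg Subtype.val h1)
  have hLc : ∀ x ∈ 𝐂[u], 𝐂[u] ≤ 𝐂[x] := fun x hx => le_cent_of_forall_primary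
    fun r i z hr hz hi => by
    have hz' : z ∈ 𝐂[u] := zpowers_le.2 hx hz
    by_cases hrρ : r = ρ
    · subst hrρ
      have h1 : (⟨z, hz'⟩ : 𝐂[u]) ∈ center 𝐂[u] := comm_of_forall_not_dvd fun s hs => by
        by_cases hsr : s = r
        · subst hsr
          obtain ⟨R, hR, hzR⟩ := exists_sylIn_ge (zpowers_le.2 hz')
            (isPGroup_zpowers_of_orderOf hi)
          rw [index_cent_subtype]
          exact fun h2 => hR.not_dvd_relIndex (h2.trans (relIndex_dvd_of_le_left _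
            (hρcomm R (hR.le.trans hLA) hR.pgroup z (hzR (mem_zpowers z)))))
        · refine not_dvd_index_of_forall_mem hs fun w l hl => mem_cent.2 (Subtype.ext ?_)
          exact (mem_cent.1 (hmin w w.2 (by
            rw [orderOf_coe, hl]; exact ((Nat.coprime_primes hs hr).2 hsr).pow_left l) hz')).symm
      exact fun b hb => mem_cent.2 (congrArg Subtype.val (mem_center_iff.1 h1 ⟨b, hb⟩))
    · exact hmin z hz' (by rw [hi]; exact ((Nat.coprime_primes hr hρ).2 hrρ).pow_left i)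
  have hLeq : ∀ x ∈ 𝐂[u], (¬ ∃ i, orderOf x = σ ^ i) → 𝐂[x] = 𝐂[u] := fun x hx hxσ => by
    have hx1 : x ≠ 1 := fun h1 => hxσ ⟨0, by rw [h1, orderOf_one, pow_zero]⟩
    exact (cent_eq_of_le_of_index_le (hLc x hx) (by rw [hul, hL x hx1 hxσ ρ hρ hρd
      (ho ▸ orderOf_dvd_natCard _ (mem_cent_comm.1 hx))])).symm
  have hconj : ∀ {x w g : G} {C : Subgroup G}, w ∈ 𝐂[x] → 𝐂[g * w * g⁻¹] = C →
      g * x * g⁻¹ ∈ C := by
    intro x w g C hw hC
    rw [← hC, mem_cent, conj_mul, conj_mul, mem_cent.1 hw]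
  have hcov : ∀ x : G, (∃ g : G, g * x * g⁻¹ ∈ 𝐂[y]) ∨ ∃ g : G, g * x * g⁻¹ ∈ 𝐂[u] := by
    intro x
    by_cases hx1 : x = 1
    · exact Or.inl ⟨1, by simp [hx1]⟩
    by_cases hxn : 𝐂[x].index = n
    · obtain ⟨s, i, v, hs, hd, hv, hv1, hi, -⟩ := h.exists_primary hx1 (Or.inr hxn)
      obtain ⟨g, hg⟩ := exists_conj_mem_of_not_dvd hs ((hB y hy1 hy).not_dvd_index h.hZ hs
        (card_eq_of_index_eq (hxn.trans hy.symm) ▸ hd.trans
          (orderOf_dvd_natCard _ (self_mem_cent x)))) hi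
      exact Or.inl ⟨g, hconj (zpowers_le_cent x hv) ((hB y hy1 hy).eq _ hg
        (h.nc (Beta.conj_ne_one hv1)))⟩
    · have hd : ρ ∣ Nat.card 𝐂[x] := by
        rcases h.sizes x hx1 with h1 | h1 | h1
        · exact card_eq_of_index_eq (h1.trans hy₀.symm) ▸ hρd
        · exact (hρ.dvd_mul.1 (h.card_mul_k h1 hy₀ ▸ hρd)).resolve_right hρk
        · exact absurd h1 hxn
      obtain ⟨w, hw, hwo⟩ := exists_mem_orderOf_eq_prime hρ hd
      obtain ⟨g, hg⟩ := exists_conj_mem_of_not_dvd (A := 𝐂[u]) (k := 1) hρ (hul ▸ hρl) (x := w)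
        (by rw [pow_one, hwo])
      exact Or.inr ⟨g, hconj hw (hLeq _ hg (hρσ' (by rw [orderOf_conj', hwo])))⟩
  have hBc := (hB y hy1 hy).comm
  have hAs : Group.IsSolvable 𝐂[y₀] := isSolvable_of_two htwo
  have hcop : (Nat.card 𝐂[y₀]).Coprime (Nat.card 𝐂[y]) := Nat.coprime_of_dvd hab
  have hna : n = Nat.card 𝐂[y₀] := by
    have h1 := 𝐂[y₀].card_mul_index.trans 𝐂[y].card_mul_index.symm
    rw [hy₀, hy] at h1
    exact Nat.dvd_antisymm (h.cop.symm.dvd_of_dvd_mul_right (h1 ▸ Dvd.intro_left _ rfl))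
      (hcop.dvd_of_dvd_mul_left (h1 ▸ Dvd.intro _ rfl))
  by_cases hNB : normalizer (𝐂[y] : Set G) ≤ 𝐂[y]
  · obtain ⟨M, hM, hc, -⟩ := Char.frobenius_of_TI 𝐂[y] fun g hg x hx hgx => by
      by_contra hx1
      exact hg (hNB ((hB y hy1 hy).mem_normalizer hx (h.nc hx1) hgx))
    have h1 : 𝐂[y₀] ≤ M := le_of_coprime_card_index (by rwa [hc.symm.index_eq_card])
    have h2 : 𝐂[y₀] = M := eq_of_le_of_card_le h1 (by rw [← hc.index_eq_card, hy, hna])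
    rw [h2] at hAs
    have : Group.IsSolvable 𝐂[y] := Group.isSolvable_of_comm mul_comm'
    exact hns (isSolvable_of_sup M 𝐂[y] hc.sup_eq_top)
  by_cases hNL : normalizer (𝐂[u] : Set G) ≤ 𝐂[u]
  · obtain ⟨S, hS⟩ := exists_sylIn σ 𝐂[u]
    have hmemS : ∀ x ∈ 𝐂[u], (∃ i, orderOf x = σ ^ i) → x ∈ S := by
      rintro x hx ⟨i, hi⟩
      exact hS.le_of_normalizes (zpowers_le.2 hx) (isPGroup_zpowers_of_orderOf hi)
        (zpowers_le.2 (centralizer_le_normalizer _ fun s hs => mem_cent.1 (hLc x hx (hS.le hs))))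
        (mem_zpowers x)
    obtain ⟨M, hM, -, hsup, hidx, -⟩ := Char.frobenius_wielandt 𝐂[u] S hS.le
      (fun a ha s hs => by rw [← mem_cent.1 (hLc a ha (hS.le hs)), mul_inv_cancel_right]; exact hs)
      (fun g hg x hx hgx => by
        by_contra hxS
        have h1 : ¬ ∃ i, orderOf x = σ ^ i := fun h1 => hxS (hmemS x hx h1)
        refine hg (hNL ?_)
        rw [mem_normalizer_iff_conj_smul_eq]
        conv_lhs => rw [← hLeq x hx h1]
        rw [conj_smul_centralizer_singleton]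
        exact hLeq _ hgx (by rwa [orderOf_conj']))
    have h1 := PG.relIndex_mul_card hS.le
    have h2 := h.card_mul_k hul hy₀
    have hBM : 𝐂[y] ≤ M := le_of_coprime_card_index (by
      rw [hidx]
      exact hcop.symm.coprime_dvd_right ((Dvd.intro _ h1).trans (Dvd.intro _ h2)))
    obtain ⟨e, he⟩ := IsPGroup.iff_card.1 hS.pgroup
    have h3 : 𝐂[y].relIndex M = σ ^ (e + t) := by
      have h3 := relIndex_mul_index hBM
      rw [hy, hna, ← h2, ← h1, hidx, he, hk, mul_assoc, ← pow_add, mul_comm] at h3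
      exact Nat.eq_of_mul_eq_mul_left (Nat.pos_of_ne_zero index_ne_zero_of_finite) h3
    obtain ⟨P⟩ : Nonempty (Sylow σ M) := inferInstance
    have : Group.IsSolvable M := KW.kegel_wielandt P.isPGroup'.isNilpotent
      (isNilpotent_of_isMulCommutative (𝐂[y].subgroupOf M))
      (forall_mul_sylow_of_index_dvd P h3.dvd)
    have : Group.IsSolvable 𝐂[u] := isSolvable_of_le' hLA
    exact hns (isSolvable_of_sup M 𝐂[u] hsup)
  exact not_cover_of_lt (center_le_cent y) (center_le_cent u) (lt_of_le_not_ge le_normalizer hNB)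
    (lt_of_le_not_ge le_normalizer hNL) hcov

end Alpha

theorem beta (hns : ¬ Group.IsSolvable G) (hiso : ∀ y : G, y ≠ 1 → 𝐂[y].index = n → Iso y)
    {x₀ y₀ y : G} (hy₀1 : y₀ ≠ 1) (hy₀ : 𝐂[y₀].index = m) (hx₀ : 𝐂[x₀].index = m * k)
    (hlt : 𝐂[x₀] < 𝐂[y₀]) (hy : 𝐂[y].index = n) {s q : ℕ} (hs : s.Prime) (hq : q.Prime)
    (hqs : q ≠ s) (hsk : s ∣ k) (hqk : q ∣ k)
    (hβ : ∀ r : ℕ, r.Prime → r ∣ Nat.card 𝐂[y₀] → r = s ∨ r = q)
    (hab : ∀ r : ℕ, r.Prime → r ∣ Nat.card 𝐂[y₀] → ¬ r ∣ Nat.card 𝐂[y]) : AbCent G := by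
  by_cases h2 : 2 ∣ Nat.card 𝐂[y₀]
  · exfalso
    have hka : k ∣ Nat.card 𝐂[y₀] := Dvd.intro_left _ (h.card_mul_k hx₀ hy₀)
    have key : ∀ q : ℕ, q.Prime → q ≠ 2 → 2 ∣ k → q ∣ k →
        (∀ r : ℕ, r.Prime → r ∣ Nat.card 𝐂[y₀] → r = 2 ∨ r = q) → False := by
      intro q hq hq2 h2k hqk hβ
      refine hns (Beta.isSolvable (q := q) (m := m) (k := k) ⟨h.hZ, hq, hq2, fun x hx => ?_,
        fun h1 => hab 2 Nat.prime_two h2 (h1.trans (h.m_dvd_card hy hy₀)),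
        fun h1 => hab q hq (hqk.trans hka) (h1.trans (h.m_dvd_card hy hy₀)), h2k, hqk,
        by linarith [h.k1], fun x hx r hr hd => hβ r hr (hd.trans (h.card_dvd hx hy₀)),
        hx₀ ▸ index_dvd_card _⟩ hy₀1 hy₀ hlt)
      rcases h.sizes x hx with h1 | h1 | h1
      · exact Or.inl h1
      · exact Or.inr (Or.inl h1)
      · rw [card_eq_of_index_eq (h1.trans hy.symm)]
        exact Or.inr (Or.inr ⟨hab 2 Nat.prime_two h2, hab q hq (hqk.trans hka)⟩)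
    rcases hβ 2 Nat.prime_two h2 with rfl | rfl
    · exact key q hq hqs hsk hqk hβ
    · exact key s hs hqs.symm hqk hsk fun r hr hd => (hβ r hr hd).symm
  · refine abCent_of_iso h.hZ fun x i hx1 hi => hiso x hx1 ?_
    have h3 : 2 ∣ Nat.card 𝐂[x] := by
      refine (dvd_pow_self 2 ?_).trans (hi ▸ orderOf_dvd_natCard _ (self_mem_cent x))
      rintro rfl
      exact hx1 (orderOf_eq_one_iff.1 hi)
    rcases h.sizes x hx1 with h1 | h1 | h1
    · exact absurd (h3.trans (h.card_dvd (Or.inl h1) hy₀)) h2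
    · exact absurd (h3.trans (h.card_dvd (Or.inr h1) hy₀)) h2
    · exact h1

theorem abCent (hns : ¬ Group.IsSolvable G) {x₀ y₀ y : G} (hy₀1 : y₀ ≠ 1)
    (hy₀ : 𝐂[y₀].index = m) (hx₀ : 𝐂[x₀].index = m * k) (hlt : 𝐂[x₀] < 𝐂[y₀]) (hy1 : y ≠ 1)
    (hy : 𝐂[y].index = n) : AbCent G := by
  have hiso : ∀ y : G, y ≠ 1 → 𝐂[y].index = n → Iso y := fun y hy1 hy =>
    ⟨h.nc hy1, fun w hw hle => by
      rcases h.sizes w (ne_one hw) with h1 | h1 | h1
      · exact absurd (h1 ▸ hy ▸ index_dvd_of_le hle) h.not_n_dvd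
      · exact absurd (h.case_two hy₀1 hy₀ hx₀ hlt.le hy1 hy h1 hle) hns
      · exact cent_eq_of_le_of_index_le hle (by rw [h1, hy]), fun w hw hle => h.maxN hy hw hle⟩
  have hmb := h.m_dvd_card hy hy₀
  by_cases hB1 : ∃ p : ℕ, ∀ r : ℕ, r.Prime → r ∣ Nat.card 𝐂[y] → r = p
  · obtain ⟨p, hp⟩ := hB1
    obtain ⟨p', hp', hd'⟩ := Nat.exists_prime_and_dvd h.m1.ne'
    obtain rfl := hp p' hp' (hd'.trans hmb)
    obtain ⟨i, hi⟩ := (isPiNum_singleton_iff hp' (by linarith [h.m1])).1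
      fun r hr hd => hp r hr (hd.trans hmb)
    rcases h.alpha_beta hy₀1 hy₀ hx₀ hlt.le with ⟨σ, t, hσ, ht⟩ | ⟨s, q, hs, hq, hqs, hsk, hqk, hβ⟩
    · refine absurd (isSolvable_of_kaz (i := i) (t := t) hp' hσ fun r j x hr hrp hj => ?_) hns
      rw [← ht, ← hi]
      by_cases hx1 : x = 1
      · rw [hx1, index_cent_eq_one_iff.2 (one_mem _)]
        exact one_dvd _
      rcases h.sizes x hx1 with h1 | h1 | h1
      · exact h1 ▸ Dvd.intro _ rfl
      · exact h1.dvd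
      · refine absurd (hp r hr (card_eq_of_index_eq (h1.trans hy.symm) ▸ (dvd_pow_self r ?_).trans
          (hj ▸ orderOf_dvd_natCard _ (self_mem_cent x)))) hrp
        rintro rfl
        exact hx1 (orderOf_eq_one_iff.1 hj)
    · refine h.beta hns hiso hy₀1 hy₀ hx₀ hlt hy hs hq hqs hsk hqk hβ fun r hr h1 h2 => ?_
      obtain rfl := hp r hr h2
      refine hns (Char.isSolvable_of_prime_dvd_card hs hq G fun ρ hρ hd => ?_)
      rw [← 𝐂[y₀].card_mul_index, hρ.dvd_mul, hy₀] at hd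
      rcases hd with hd | hd
      · exact hβ ρ hρ hd
      · exact hp ρ hρ (hd.trans hmb) ▸ hβ r hr h1
  · push Not at hB1
    have hB : ∀ y : G, y ≠ 1 → 𝐂[y].index = n → SSC 𝐂[y] := fun z hz1 hz =>
      (hiso z hz1 hz).ssc fun p => by
        obtain ⟨r, hr, hd, hrp⟩ := hB1 p
        obtain ⟨u, hu, ho⟩ := exists_mem_orderOf_eq_prime hr
          (card_eq_of_index_eq (hy.trans hz.symm) ▸ hd)
        exact ⟨r, 1, u, hr, hrp, hu, h.nc (ne_one_of_orderOf_prime hr ho), by rw [pow_one, ho]⟩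
    rcases h.alpha_beta hy₀1 hy₀ hx₀ hlt.le with ⟨σ, t, hσ, ht⟩ | ⟨s, q, hs, hq, hqs, hsk, hqk, hβ⟩
    · exact (h.alpha hB hy1 hy hns hσ ht hy₀1 hy₀ hx₀).elim
    · exact h.beta hns hiso hy₀1 hy₀ hx₀ hlt hy hs hq hqs hsk hqk hβ fun r hr h1 =>
        h.not_dvd_card_of_ssc hB hy₀1 hy₀ hy1 hy hr h1

end Tri

/-- A centreless non-solvable group with at most three non-trivial class sizes is `L₂(2ⁿ)`. -/
theorem isL2Even_of_four (hZ : center G = ⊥) (hns : ¬ Group.IsSolvable G) (S : Set ℕ)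
    (hS : S.ncard ≤ 3) (hfin : S.Finite) (h : ∀ x : G, x ≠ 1 → 𝐂[x].index ∈ S) : IsL2Even G := by
  have hnc : ∀ {x : G}, x ≠ 1 → x ∉ center G := fun hx => by rwa [hZ, mem_bot]
  have hn1 : ∀ {x : G}, x ∉ center G → x ≠ 1 := fun hx h1 => hx (h1 ▸ one_mem _)
  refine isL2Even_of_abCent hZ hns ?_
  by_cases hF : ∀ x ∉ center G, ∀ y ∉ center G, 𝐂[x] ≤ 𝐂[y] → 𝐂[x] = 𝐂[y]
  · exact abCent_of_iso hZ fun x _ hx _ => ⟨hnc hx, fun y hy hle => hF y hy x (hnc hx) hle,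
      fun y hy hle => (hF x (hnc hx) y hy hle).symm⟩
  push Not at hF
  obtain ⟨x₀, hx₀, y₀, hy₀, hle, hne⟩ := hF
  have hlt := lt_of_le_of_ne hle hne
  set m := 𝐂[y₀].index with hm
  set k := 𝐂[x₀].relIndex 𝐂[y₀] with hk
  have hx : 𝐂[x₀].index = m * k := by rw [mul_comm, relIndex_mul_index hle]
  have hk1 : 1 < k := by
    have h1 : k ≠ 0 := index_ne_zero_of_finite
    have h2 : k ≠ 1 := fun h2 => hlt.not_ge (relIndex_eq_one.1 h2)
    omega
  have hm1 : 1 < m := one_lt_index_cent hy₀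
  obtain ⟨y, hy1, hym, hyl⟩ : ∃ y : G, y ≠ 1 ∧ 𝐂[y].index ≠ m ∧ 𝐂[y].index ≠ m * k := by
    by_contra hc
    push Not at hc
    refine hns (isSolvable_of_three (n₂ := m) (n₁ := m * k) fun z => ?_)
    by_cases hz : z = 1
    · exact Or.inl (index_cent_eq_one_iff.2 (hz ▸ one_mem _))
    · by_cases hzm : 𝐂[z].index = m
      · exact Or.inr (Or.inl hzm)
      · exact Or.inr (Or.inr (hc z hz hzm))
  have hsizes : ∀ z : G, z ≠ 1 → 𝐂[z].index = m ∨ 𝐂[z].index = m * k ∨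
      𝐂[z].index = 𝐂[y].index := by
    have hml : m ≠ m * k := by nlinarith
    have h1 : ({m, m * k, 𝐂[y].index} : Set ℕ) = S := Set.eq_of_subset_of_ncard_le (by
      rintro _ (rfl | rfl | rfl)
      · exact h y₀ (hn1 hy₀)
      · exact hx ▸ h x₀ (hn1 hx₀)
      · exact h y hy1) (hS.trans (Set.ncard_eq_three.2
        ⟨_, _, _, hml, hym.symm, hyl.symm, rfl⟩).ge) hfin
    intro z hz
    have := h z hz
    rwa [← h1] at this
  refine Tri.abCent ⟨hZ, hsizes, Nat.coprime_of_dvd fun p hp h1 h2 => ?_, hm1,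
    one_lt_index_cent (hnc hy1), hk1⟩ hns (hn1 hy₀) rfl hx hlt hy1 rfl
  have := Fact.mk hp
  obtain ⟨P⟩ : Nonempty (Sylow p G) := inferInstance
  obtain ⟨z, -, hz, hc⟩ := exists_central_of_dvd P (h1.trans (index_dvd_card _))
  refine not_dvd_index_of_sylow_le P hc ?_
  rcases hsizes z (ne_one_of_orderOf_prime hp hz) with h3 | h3 | h3 <;> rw [h3]
  exacts [h1, h1.mul_right k, h2]

end Cfsg.Lib.CITCor.Cls
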