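import Cfsg.Agent.CITCor.ClsAbs
import Cfsg.Agent.Solv.Kazarin2

/-!
Groups in which the centralizers of the non-central `p'`-elements of prime power order have a
central `p'`-part of constant order (local analysis).
-/

set_option autoImplicit false

namespace Cfsg.Lib.CITCor.Cls

open Subgroup Cfsg.Lib.Solv Cfsg.Lib.Solv.ClassSize Cfsg.Lib.Fus
open scoped commutatorElement Pointwise

universe u

variable {G : Type u} [Group G] {p : ℕ}

/-- A non-central element whose order is a power of a prime different from `p`. -/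
def Good (p : ℕ) (w : G) : Prop :=
  w ∉ center G ∧ ∃ s k : ℕ, s.Prime ∧ s ≠ p ∧ orderOf w = s ^ k

/-- The standing hypothesis. -/
structure PH (p : ℕ) (G : Type u) [Group G] : Prop where
  cent : ∀ w v : G, Good p w → Good p v → Commute v w →
    centralizer ({w} : Set G) ≤ centralizer {v}
  const : ∀ w v : G, Good p w → Good p v → ∀ r : ℕ, r.Prime → r ≠ p →
    (centralizer ({w} : Set G)).index.factorization r =
      (centralizer ({v} : Set G)).index.factorization r
  two : ∀ q : ℕ, ∃ (r k : ℕ) (x : G), r.Prime ∧ r ≠ p ∧ r ≠ q ∧ x ∉ center G ∧ orderOf x = r ^ k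

theorem good_of_mem {s : ℕ} [hs : Fact s.Prime] (hsp : s ≠ p) {S : Subgroup G}
    (hS : IsPGroup s S) {v : G} (hv : v ∈ S) (hvZ : v ∉ center G) : Good p v := by
  obtain ⟨k, hk⟩ := exists_orderOf_eq_pow_of_mem hS hv
  exact ⟨hvZ, s, k, hs.out, hsp, hk⟩

theorem isPGroup_zpowers_of_orderOf {s k : ℕ} {x : G} (h : orderOf x = s ^ k) :
    IsPGroup s (zpowers x) :=
  isPGroup_zpowers_of_pow_eq_one (k := k) (by rw [← h, pow_orderOf_eq_one])

/-- `SL₂`-computation: two opposite transvection groups produce a split torus. -/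
theorem exists_torus {Γ : Type*} [Group Γ] {q : ℕ} [hq : Fact q.Prime] {a g x y : Γ}
    (hc : Commute a g) (hg : g ^ q = 1) (hxa : x * a * x⁻¹ = a) (hxg : x * g * x⁻¹ = a * g)
    (hyg : y * g * y⁻¹ = g) {c : ℕ} (hcq : ¬ q ∣ c) (hya : y * a * y⁻¹ = a * g ^ c) {l : ℕ}
    (hl : ¬ q ∣ l) :
    ∃ (τ : Γ) (i j : ℕ), τ * a * τ⁻¹ = a ^ i ∧ τ * g * τ⁻¹ = a ^ j * g ^ l := by
  have hx : ∀ s i j : ℕ, x ^ s * (a ^ i * g ^ j) * (x ^ s)⁻¹ = a ^ (i + s * j) * g ^ j := by
    intro s
    induction s with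
    | zero => intro i j; simp
    | succ s ih =>
      intro i j
      have h1 : x * (a ^ i * g ^ j) * x⁻¹ = a ^ (i + j) * g ^ j := by
        calc x * (a ^ i * g ^ j) * x⁻¹ = (x * a * x⁻¹) ^ i * (x * g * x⁻¹) ^ j := by
              rw [conj_pow, conj_pow]; group
          _ = a ^ (i + j) * g ^ j := by rw [hxa, hxg, hc.mul_pow, pow_add, mul_assoc]
      calc x ^ (s + 1) * (a ^ i * g ^ j) * (x ^ (s + 1))⁻¹
          = x ^ s * (x * (a ^ i * g ^ j) * x⁻¹) * (x ^ s)⁻¹ := by rw [pow_succ]; group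
        _ = _ := by rw [h1, ih]; congr 2; ring
  have hy : ∀ s i j : ℕ, y ^ s * (a ^ i * g ^ j) * (y ^ s)⁻¹ = a ^ i * g ^ (j + c * s * i) := by
    intro s
    induction s with
    | zero => intro i j; simp
    | succ s ih =>
      intro i j
      have h1 : y * (a ^ i * g ^ j) * y⁻¹ = a ^ i * g ^ (j + c * i) := by
        calc y * (a ^ i * g ^ j) * y⁻¹ = (y * a * y⁻¹) ^ i * (y * g * y⁻¹) ^ j := by
              rw [conj_pow, conj_pow]; group
          _ = a ^ i * g ^ (j + c * i) := by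
              rw [hya, hyg, (hc.pow_right c).mul_pow, ← pow_mul, mul_assoc, ← pow_add, add_comm]
      calc y ^ (s + 1) * (a ^ i * g ^ j) * (y ^ (s + 1))⁻¹
          = y ^ s * (y * (a ^ i * g ^ j) * y⁻¹) * (y ^ s)⁻¹ := by rw [pow_succ]; group
        _ = _ := by rw [h1, ih]; congr 2; ring
  have hmod : ∀ m n : ℕ, (m : ZMod q) = n → g ^ m = g ^ n := fun m n h =>
    pow_eq_pow_of_modEq ((ZMod.natCast_eq_natCast_iff m n q).1 h) hg
  have hc0 : (c : ZMod q) ≠ 0 := by rwa [Ne, ZMod.natCast_eq_zero_iff]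
  have hl0 : (l : ZMod q) ≠ 0 := by rwa [Ne, ZMod.natCast_eq_zero_iff]
  obtain ⟨s₁, h₁⟩ := ZMod.natCast_zmod_surjective ((c : ZMod q)⁻¹)
  obtain ⟨s₂, h₂⟩ := ZMod.natCast_zmod_surjective ((l : ZMod q)⁻¹ - 1)
  obtain ⟨s₃, h₃⟩ := ZMod.natCast_zmod_surjective (-(l : ZMod q) * (c : ZMod q)⁻¹)
  have key : ∀ i j : ℕ, (y ^ s₃ * x ^ s₂ * y ^ s₁) * (a ^ i * g ^ j) * (y ^ s₃ * x ^ s₂ * y ^ s₁)⁻¹
      = a ^ (i + s₂ * (j + c * s₁ * i)) *
        g ^ ((j + c * s₁ * i) + c * s₃ * (i + s₂ * (j + c * s₁ * i))) := fun i j => by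
    rw [← hy, ← hx, ← hy]
    group
  refine ⟨y ^ s₃ * x ^ s₂ * y ^ s₁, 1 + s₂ * (0 + c * s₁ * 1), 0 + s₂ * (1 + c * s₁ * 0), ?_, ?_⟩
  · have := key 1 0
    rw [pow_one, pow_zero, mul_one] at this
    rw [this, hmod _ 0, pow_zero, mul_one]
    push_cast
    rw [h₁, h₂, h₃]
    field_simp
    ring
  · have := key 0 1
    rw [pow_one, pow_zero, one_mul] at this
    rw [this, hmod _ l]
    push_cast
    rw [h₁, h₂, h₃]
    field_simp
    ring

namespace PH

variable [Finite G] (h : PH p G)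
include h

omit [Finite G] in
theorem eq {w v : G} (hw : Good p w) (hv : Good p v) (hc : v ∈ centralizer ({w} : Set G)) :
    centralizer ({v} : Set G) = centralizer {w} :=
  le_antisymm (h.cent v w hv hw (mem_cent_iff_commute.1 hc).symm)
    (h.cent w v hw hv (mem_cent_iff_commute.1 hc))

section Syl

variable {s : ℕ} [hs : Fact s.Prime] {w : G} {S : Subgroup G} (hsp : s ≠ p) (hw : Good p w)
  (hS : SylIn s S (centralizer ({w} : Set G)))
include hsp hw hS

omit [Finite G] in
theorem eq_of_mem {v : G} (hv : v ∈ S) (hvZ : v ∉ center G) :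
    centralizer ({v} : Set G) = centralizer {w} :=
  h.eq hw (good_of_mem hsp hS.pgroup hv hvZ) (hS.le hv)

omit [Finite G] in
theorem le_cent {v : G} (hv : v ∈ S) : centralizer ({w} : Set G) ≤ centralizer {v} := by
  by_cases hvZ : v ∈ center G
  · rw [cent_eq_top_iff.2 hvZ]
    exact le_top
  · exact (h.eq_of_mem hsp hw hS hv hvZ).ge

omit [Finite G] in
theorem le_centralizer : centralizer ({w} : Set G) ≤ centralizer (S : Set G) := fun _ hx =>
  mem_centralizer_iff.2 fun _ hv => (mem_cent.1 (h.le_cent hsp hw hS hv hx)).symm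

omit [Finite G] in
theorem comm : IsMulCommutative S :=
  PG.isMulCommutative_of_forall fun _ hx y hy =>
    (mem_centralizer_iff.1 (h.le_centralizer hsp hw hS (hS.le hx)) y hy).symm

omit [Finite G] in
theorem le_syl {U : Subgroup G} (hU : IsPGroup s U) (hUC : U ≤ centralizer ({w} : Set G)) :
    U ≤ S :=
  hS.le_of_normalizes hUC hU
    (hUC.trans ((h.le_centralizer hsp hw hS).trans (centralizer_le_normalizer _)))

omit [Finite G] in
theorem mem_syl {x : G} (hx : x ∈ centralizer ({w} : Set G)) {k : ℕ} (hk : orderOf x = s ^ k) :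
    x ∈ S :=
  h.le_syl hsp hw hS (isPGroup_zpowers_of_orderOf hk) (zpowers_le.2 hx) (mem_zpowers x)

theorem normalizer_le :
    normalizer (centralizer ({w} : Set G) : Set G) ≤ normalizer (S : Set G) := fun g hg => by
  refine mem_normalizer_of_conj_mem fun x hx => ?_
  obtain ⟨k, hk⟩ := exists_orderOf_eq_pow_of_mem hS.pgroup hx
  refine h.mem_syl hsp hw hS (conj_mem_of_mem_normalizer hg (hS.le hx)) (k := k) ?_
  rw [← hk]
  exact (MulAut.conj g).orderOf_eq x

omit [Finite G] in
theorem centralizer_eq (hZ : ¬ S ≤ center G) :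
    centralizer (S : Set G) = centralizer ({w} : Set G) := by
  refine le_antisymm ?_ (h.le_centralizer hsp hw hS)
  obtain ⟨v, hv, hvZ⟩ := SetLike.not_le_iff_exists.1 hZ
  rw [← h.eq_of_mem hsp hw hS hv hvZ]
  exact centralizer_le (Set.singleton_subset_iff.2 hv)

omit [Finite G] in
theorem normalizer_ge (hZ : ¬ S ≤ center G) :
    normalizer (S : Set G) ≤ normalizer (centralizer ({w} : Set G) : Set G) := by
  rw [← h.centralizer_eq hsp hw hS hZ]
  exact normalizer_le_normalizer_centralizer S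

theorem not_le_center {x : G} (hx : x ∉ center G) {k : ℕ} (hk : orderOf x = s ^ k) :
    ¬ S ≤ center G := by
  have h1 := dvd_relIndex_of_normal hs.out (self_mem_cent x) hk hx
  have h2 := h.const w x hw ⟨hx, s, k, hs.out, hsp, hk⟩ s hs.out hsp
  have h3 := relIndex_mul_index (center_le_cent x)
  have h4 := relIndex_mul_index (center_le_cent w)
  have n1 : (center G).relIndex (centralizer {x}) ≠ 0 := index_ne_zero_of_finite
  have n2 : (center G).relIndex (centralizer {w}) ≠ 0 := index_ne_zero_of_finite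
  have h5 := congrArg (fun n => n.factorization s) (h3.trans h4.symm)
  simp only [Nat.factorization_mul n1 index_ne_zero_of_finite,
    Nat.factorization_mul n2 index_ne_zero_of_finite, Finsupp.add_apply] at h5
  have h6 := (hs.out.dvd_iff_one_le_factorization n1).1 h1
  obtain ⟨y, hy, hyZ, j, hj⟩ := exists_not_mem_of_dvd_relIndex hs.out
    ((hs.out.dvd_iff_one_le_factorization n2).2 (by omega))
  exact fun hle => hyZ (hle (h.mem_syl hsp hw hS hy hj))

end Syl

theorem dvd_of_dvd {w v : G} (hw : Good p w) (hv : Good p v) {q k : ℕ} (hq : q.Prime)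
    (hqp : q ≠ p) (hd : q ^ k ∣ (centralizer ({w} : Set G)).index) :
    q ^ k ∣ (centralizer ({v} : Set G)).index := by
  rw [hq.pow_dvd_iff_le_factorization index_ne_zero_of_finite] at hd ⊢
  rwa [← h.const w v hw hv q hq hqp]

omit h in
theorem exists_noncentral {q : ℕ} [hq : Fact q.Prime] {w : G}
    (hd : q ∣ (centralizer ({w} : Set G)).index) :
    ∃ (x : G) (k : ℕ), x ∉ center G ∧ orderOf x = q ^ k := by
  obtain ⟨Q⟩ : Nonempty (Sylow q G) := inferInstance
  have : ¬ (Q : Subgroup G) ≤ center G := fun hle =>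
    not_dvd_index_of_sylow_le Q (hle.trans (center_le_cent w)) hd
  obtain ⟨x, hx, hxZ⟩ := SetLike.not_le_iff_exists.1 this
  obtain ⟨k, hk⟩ := exists_orderOf_eq_pow_of_mem Q.isPGroup' hx
  exact ⟨x, k, hxZ, hk⟩

omit h in
theorem exists_second_center {q : ℕ} [hq : Fact q.Prime] {Q : Subgroup G} (hQ : IsPGroup q Q)
    (hZ : ¬ Q ≤ center G) : ∃ a ∈ Q, a ∉ center G ∧ a ^ q ∈ center G ∧
      ∀ s ∈ Q, ⁅s, a⁆ ∈ center G := by
  obtain ⟨y, hy, hyZ, hyc⟩ := PG.exists_not_mem_commutator_mem (S := Q) (N := Q) (H := center G)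
    hQ.isNilpotent le_rfl le_normalizer hZ
  obtain ⟨k, hk⟩ := exists_orderOf_eq_pow_of_mem hQ hy
  obtain ⟨j, hj1, hj2⟩ := exists_pow_not_mem_pow_mem (Z := center G) (p := q) (k := k) (x := y)
    (by rw [← hk, pow_orderOf_eq_one]; exact one_mem _) hyZ
  refine ⟨y ^ q ^ j, pow_mem hy _, hj1, hj2, fun s hs => ?_⟩
  have h1 : ⁅s, y⁆ ∈ center G := by
    rw [← commutatorElement_inv]
    exact inv_mem (hyc s hs).1
  rw [commutatorElement_pow_right_of_mem_center h1]
  exact pow_mem h1 _

/-- The `p'`-part of the class size is square-free. -/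
theorem not_sq_dvd {w : G} (hw : Good p w) {q : ℕ} [hq : Fact q.Prime] (hqp : q ≠ p) :
    ¬ q ^ 2 ∣ (centralizer ({w} : Set G)).index := by
  intro hd
  obtain ⟨Q⟩ : Nonempty (Sylow q G) := inferInstance
  have hQZ : ¬ (Q : Subgroup G) ≤ center G := fun hle =>
    not_dvd_index_of_sylow_le Q (hle.trans (center_le_cent w))
      ((dvd_pow_self q two_ne_zero).trans hd)
  obtain ⟨a, haQ, haZ, haq, hac⟩ := exists_second_center Q.isPGroup' hQZ
  have ha : Good p a := good_of_mem hqp Q.isPGroup' haQ haZ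
  obtain ⟨r, k, x, hr, hrp, hrq, hxZ, hx⟩ := h.two q
  have := Fact.mk hr
  obtain ⟨S, hS⟩ := exists_sylIn r (centralizer ({a} : Set G))
  have hSZ := h.not_le_center hrp ha hS hxZ hx
  have hCS := h.centralizer_eq hrp ha hS hSZ
  have hQN : (Q : Subgroup G) ≤ normalizer (centralizer ({a} : Set G) : Set G) := fun g hg => by
    rw [mem_normalizer_iff_conj_smul_eq, conj_smul_centralizer_singleton]
    have : g * a * g⁻¹ = a * ⁅g, a⁆ := by
      rw [mem_center_iff.1 (hac g hg) a, commutatorElement_def]; group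
    rw [this, cent_mul_center (hac g hg)]
  have hrel := relIndex_dvd_prime_of_semiregular (S := S) (Q := Q) (U := center G) (q := q)
    (hQN.trans (h.normalizer_le hrp ha hS))
    (IsPGroup.coprime_card_of_ne q r hrq.symm _ _ Q.isPGroup' hS.pgroup) hSZ
    (fun x hx y hy => by
      rw [hCS]
      have h2 : ⁅(⟨x, hx⟩ : (Q : Subgroup G)), ⟨y, hy⟩⁆ ∈ (commHom a Q hac).ker := by
        rw [MonoidHom.mem_ker, map_commutatorElement, commHom_apply, commHom_apply,
          commutatorElement_eq_one_iff_mul_comm]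
        exact mem_center_iff.1 (hac y hy) _
      rw [ker_commHom] at h2
      exact h2)
    (fun x hx => by
      rw [hCS, mem_cent, ← commutatorElement_eq_one_iff_mul_comm,
        commutatorElement_pow_left_of_mem_center (hac x hx),
        ← commutatorElement_pow_right_of_mem_center (hac x hx),
        commutatorElement_eq_one_iff_mul_comm]
      exact mem_center_iff.1 haq x)
    (fun x _ hxC v hv => by
      by_contra hvZ
      apply hxC
      rw [hCS, ← h.eq_of_mem hrp ha hS hv.1 hvZ]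
      exact mem_cent_comm.1 hv.2)
  rw [hCS] at hrel
  have hd' := h.dvd_of_dvd hw ha hq.out hqp hd
  have h1 := relIndex_mul_index (inf_le_left : centralizer ({a} : Set G) ⊓ Q ≤ _)
  have h2 := relIndex_mul_index (inf_le_right : centralizer ({a} : Set G) ⊓ Q ≤ _)
  rw [inf_relIndex_right] at h2
  have h3 : q * q ∣ q * (Q : Subgroup G).index := by
    rw [← pow_two]
    refine hd'.trans ((Dvd.intro_left _ h1).trans ?_)
    rw [← h2]
    exact Nat.mul_dvd_mul_right hrel _
  exact Q.not_dvd_index (Nat.dvd_of_mul_dvd_mul_left hq.out.pos h3)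

theorem relIndex_dvd {w : G} (hw : Good p w) {q : ℕ} [hq : Fact q.Prime] (hqp : q ≠ p)
    {X : Subgroup G} (hX : IsPGroup q X)
    (hXN : X ≤ normalizer (centralizer ({w} : Set G) : Set G)) :
    (centralizer ({w} : Set G)).relIndex X ∣ q := by
  obtain ⟨k, hk⟩ := hX.index ((centralizer ({w} : Set G)).subgroupOf X)
  have h1 : (centralizer ({w} : Set G)).relIndex X ∣ (centralizer ({w} : Set G)).index := by
    rw [← PG.relIndex_sup_of_le_normalizer hXN]
    exact relIndex_dvd_index_of_le le_sup_left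
  change (centralizer ({w} : Set G)).relIndex X = _ at hk
  rw [hk] at h1 ⊢
  have hk2 : k < 2 := by
    by_contra hk2
    exact h.not_sq_dvd hw hqp ((pow_dvd_pow q (not_lt.1 hk2)).trans h1)
  calc q ^ k ∣ q ^ 1 := pow_dvd_pow q (by omega)
    _ = q := pow_one q

end PH

end Cfsg.Lib.CITCor.Cls
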