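import Cfsg.Agent.CITCor.ClsH

/-!
Groups in which the centralizers of the non-central `p'`-elements of prime power order have a
central `p'`-part of constant order: these centralizers have `p`-power index.
-/

set_option autoImplicit false

namespace Cfsg.Lib.CITCor.Cls

open Subgroup Cfsg.Lib.Solv Cfsg.Lib.Solv.ClassSize Cfsg.Lib.Fus
open scoped commutatorElement Pointwise

universe u

variable {G : Type u} [Group G] {p : ℕ}

/-- The Weyl group `N(H)/H`. -/
abbrev Wy (H : Subgroup G) : Type u :=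
  normalizer (H : Set G) ⧸ H.subgroupOf (normalizer (H : Set G))

/-- The action of `N(H)/H` on a subgroup with centralizer `H`. -/
def actW {H S : Subgroup G} (hN : normalizer (H : Set G) ≤ normalizer (S : Set G))
    (hC : centralizer (S : Set G) = H) : Wy H →* MulAut S :=
  QuotientGroup.lift _ (conjAutOf S _ hN) (by rw [ker_conjAutOf, hC])

theorem actW_mk {H S : Subgroup G} (hN : normalizer (H : Set G) ≤ normalizer (S : Set G))
    (hC : centralizer (S : Set G) = H) (n : normalizer (H : Set G)) (v : S) :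
    (actW hN hC (n : Wy H) v : G) = n * v * (n : G)⁻¹ := rfl

theorem actW_injective {H S : Subgroup G} (hN : normalizer (H : Set G) ≤ normalizer (S : Set G))
    (hC : centralizer (S : Set G) = H) : Function.Injective (actW hN hC) := by
  rw [injective_iff_map_eq_one]
  intro x hx
  obtain ⟨n, rfl⟩ := QuotientGroup.mk_surjective x
  rw [QuotientGroup.eq_one_iff, mem_subgroupOf]
  exact hC.le ((mem_ker_conjAutOf hN).1 hx)

theorem card_Wy_dvd (H : Subgroup G) : Nat.card (Wy H) ∣ H.index :=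
  relIndex_dvd_index_of_le le_normalizer

/-- Case 1: an element acting quadratically into the fixed points. -/
theorem case_one {W A B : Type*} [Group W] [Finite W] [Group A] [Finite A] [Group B] [Finite B]
    [IsMulCommutative B] {q r : ℕ} [hq : Fact q.Prime] [hr : Fact r.Prime] (hrq : r ≠ q)
    (hA : IsPGroup q A) (hB : IsPGroup r B) {φ : W →* MulAut A} (hφ : Function.Injective φ)
    {ψ : W →* MulAut B} (hψ : Function.Injective ψ) {γ η : W} (hη : orderOf η = r)
    (hfr : ∀ v, ψ η v = v → ∀ w, ψ w v = v)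
    (hγ : ∀ v w, φ w (φ γ v * v⁻¹) = φ γ v * v⁻¹) : γ = 1 := by
  let X : Subgroup W :=
    { carrier := {x | ∀ v w, φ w (φ x v * v⁻¹) = φ x v * v⁻¹}
      one_mem' := fun v w => by simp
      mul_mem' := fun {x y} hx hy v w => by
        have h1 : φ (x * y) v * v⁻¹ = φ x (φ y v * v⁻¹) * (φ x v * v⁻¹) := by
          simp only [map_mul, map_inv, MulAut.mul_apply]; group
        rw [h1, hy, map_mul, hy, hx]
      inv_mem' := fun {x} hx v w => by
        have h1 : φ x⁻¹ v * v⁻¹ = (φ x (φ x⁻¹ v) * (φ x⁻¹ v)⁻¹)⁻¹ := by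
          rw [← MulAut.mul_apply, ← map_mul, mul_inv_cancel, map_one, MulAut.one_apply]; group
        rw [h1, map_inv (φ w), hx] }
  have hXn : X.Normal := ⟨fun x hx g v w => by
    have h1 : φ (g * x * g⁻¹) v * v⁻¹ = φ g (φ x (φ g⁻¹ v) * (φ g⁻¹ v)⁻¹) := by
      simp only [map_mul, map_inv, MulAut.mul_apply, MulAut.apply_inv_self]
    rw [h1, hx, hx]⟩
  have hpow : ∀ x ∈ X, ∀ (n : ℕ) (v : A), φ (x ^ n) v = (φ x v * v⁻¹) ^ n * v := by
    intro x hx n v
    induction n with
    | zero => simp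
    | succ n ih =>
      rw [pow_succ', map_mul, MulAut.mul_apply, ih, map_mul, map_pow, hx, pow_succ]
      group
  have hX : IsPGroup q X := by
    obtain ⟨k, hk⟩ := IsPGroup.iff_card.1 hA
    intro x
    refine ⟨k, Subtype.ext (hφ ?_)⟩
    ext v
    rw [SubgroupClass.coe_pow, hpow x x.2, ← hk, pow_card_eq_one', one_mul]
    simp
  have hcop : ¬ r ∣ Nat.card X := by
    obtain ⟨k, hk⟩ := IsPGroup.iff_card.1 hX
    rw [hk]
    exact fun h => hrq ((Nat.prime_dvd_prime_iff_eq hr.out hq.out).1 (hr.out.dvd_of_dvd_pow h))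
  have := eq_bot_of_normalized hB hψ hcop (g := η) (by rw [normalizer_eq_top]; exact mem_top _)
    (isPGroup_zpowers_of_orderOf (k := 1) (by rw [pow_one, hη])) (fun v hv x _ => hfr v hv x)
  have h2 : γ ∈ X := hγ
  rwa [this, mem_bot] at h2

/-- The elements `u` with `⁅u, g⁆` central. -/
def sec (g : G) : Subgroup G :=
  (centralizer ({(g : G ⧸ center G)} : Set (G ⧸ center G))).comap (QuotientGroup.mk' (center G))

theorem mem_sec {g u : G} : u ∈ sec g ↔ ⁅u, g⁆ ∈ center G := mem_comap_cent_iff _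

theorem sec_le_normalizer (g : G) :
    sec g ≤ normalizer (centralizer ({g} : Set G) : Set G) := fun u hu => by
  rw [mem_normalizer_iff_conj_smul_eq, conj_smul_centralizer_singleton]
  have : u * g * u⁻¹ = g * ⁅u, g⁆ := by
    rw [mem_center_iff.1 (mem_sec.1 hu) g, commutatorElement_def]; group
  rw [this, cent_mul_center (mem_sec.1 hu)]

theorem cent_le_sec (g : G) : centralizer ({g} : Set G) ≤ sec g := fun u hu => by
  rw [mem_sec, commutatorElement_eq_one_iff_mul_comm.2 (mem_cent.1 hu)]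
  exact one_mem _

theorem mem_sec_comm {g u : G} : u ∈ sec g ↔ g ∈ sec u := by
  rw [mem_sec, mem_sec, ← commutatorElement_inv, inv_mem_iff]

namespace PH

variable [Finite G] (h : PH p G)
include h

section Syl

variable {s : ℕ} [hs : Fact s.Prime] {w : G} {S : Subgroup G} (hsp : s ≠ p) (hw : Good p w)
  (hS : SylIn s S (centralizer ({w} : Set G)))
include hsp hw hS

/-- Non-trivial elements of the Weyl group fix only central elements. -/
theorem fix_of_ne_one (hZ : ¬ S ≤ center G) {x : Wy (centralizer ({w} : Set G))} (hx : x ≠ 1)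
    (v : S) (hv : actW (h.normalizer_le hsp hw hS) (h.centralizer_eq hsp hw hS hZ) x v = v)
    (y : Wy (centralizer ({w} : Set G))) :
    actW (h.normalizer_le hsp hw hS) (h.centralizer_eq hsp hw hS hZ) y v = v := by
  obtain ⟨n, rfl⟩ := QuotientGroup.mk_surjective x
  obtain ⟨m, rfl⟩ := QuotientGroup.mk_surjective y
  rw [Subtype.ext_iff, actW_mk] at hv ⊢
  have hvZ : (v : G) ∈ center G := by
    by_contra hvZ
    apply hx
    rw [QuotientGroup.eq_one_iff, mem_subgroupOf]
    exact (h.eq_of_mem hsp hw hS v.2 hvZ).le (mem_cent_iff_conj.2 hv)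
  rw [mem_center_iff.1 hvZ, mul_inv_cancel_right]

theorem exists_mem_normalizer (hZ : ¬ S ≤ center G)
    (hd : s ∣ (centralizer ({w} : Set G)).index) :
    ∃ g ∈ normalizer (centralizer ({w} : Set G) : Set G), g ∉ centralizer ({w} : Set G) ∧
      ∃ k, orderOf g = s ^ k := by
  obtain ⟨Q, hQ⟩ := hS.pgroup.exists_le_sylow
  have hlt : S < Q := lt_of_le_of_ne hQ fun he =>
    not_dvd_index_of_sylow_le Q (he ▸ hS.le) hd
  obtain ⟨g, hgQ, hgN, hgS⟩ := exists_mem_normalizer_of_lt Q.isPGroup' hlt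
  obtain ⟨k, hk⟩ := exists_orderOf_eq_pow_of_mem Q.isPGroup' hgQ
  exact ⟨g, h.normalizer_ge hsp hw hS hZ hgN, fun hg => hgS (h.mem_syl hsp hw hS hg hk), k, hk⟩

omit hS in
theorem orderOf_mk_eq {g : normalizer (centralizer ({w} : Set G) : Set G)}
    (hg : (g : G) ∉ centralizer ({w} : Set G)) {k : ℕ} (hk : orderOf (g : G) = s ^ k) :
    orderOf (g : Wy (centralizer ({w} : Set G))) = s := by
  have h1 : orderOf (g : Wy (centralizer ({w} : Set G))) ∣ s ^ k := by
    rw [← hk, Subgroup.orderOf_coe]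
    exact orderOf_map_dvd (QuotientGroup.mk' _) g
  obtain ⟨j, -, hj⟩ := (Nat.dvd_prime_pow hs.out).1 h1
  have h2 := (orderOf_dvd_natCard (g : Wy (centralizer ({w} : Set G)))).trans (card_Wy_dvd _)
  rw [hj] at h2 ⊢
  rcases j with _ | _ | j
  · exfalso
    rw [pow_zero, orderOf_eq_one_iff, QuotientGroup.eq_one_iff, mem_subgroupOf] at hj
    exact hg hj
  · simp
  · exact absurd ((pow_dvd_pow s (by omega)).trans h2) (h.not_sq_dvd hw hsp)

end Syl

/-- Existence of a transvection-like element in the presence of a second bad prime. -/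
theorem exists_transvection {q r : ℕ} [hq : Fact q.Prime] [hr : Fact r.Prime] (hqp : q ≠ p)
    (hrp : r ≠ p) (hrq : r ≠ q) {w : G} (hw : Good p w)
    (hdr : r ∣ (centralizer ({w} : Set G)).index)
    {S : Subgroup G} (hS : SylIn q S (centralizer ({w} : Set G))) (hZ : ¬ S ≤ center G)
    {g : G} (hgN : g ∈ normalizer (centralizer ({w} : Set G) : Set G))
    (hg : g ∉ centralizer ({w} : Set G)) {k : ℕ} (hk : orderOf g = q ^ k) :
    ∃ x ∈ S, ⁅x, g⁆ ∈ S ∧ ⁅x, g⁆ ∉ center G ∧ ⁅x, g⁆ ∈ sec g := by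
  have hgS := h.normalizer_le hqp hw hS hgN
  have hnle : ¬ S ≤ sec g := by
    intro hle
    obtain ⟨R, hR⟩ := exists_sylIn r (centralizer ({w} : Set G))
    obtain ⟨y, j, hyZ, hy⟩ := exists_noncentral hdr
    have hRZ := h.not_le_center hrp hw hR hyZ hy
    obtain ⟨e, heN, he, i, hi⟩ := h.exists_mem_normalizer hrp hw hR hRZ hdr
    have hη := h.orderOf_mk_eq hrp hw (g := ⟨e, heN⟩) he hi
    have := h.comm hrp hw hR
    have h1 := case_one hrq hS.pgroup hR.pgroup
      (actW_injective (h.normalizer_le hqp hw hS) (h.centralizer_eq hqp hw hS hZ))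
      (actW_injective (h.normalizer_le hrp hw hR) (h.centralizer_eq hrp hw hR hRZ))
      (γ := ((⟨g, hgN⟩ : normalizer (centralizer ({w} : Set G) : Set G)) : Wy _)) hη
      (h.fix_of_ne_one hrp hw hR hRZ (by
        intro h0
        rw [h0, orderOf_one] at hη
        exact hr.out.one_lt.ne hη))
      (fun v y => by
        obtain ⟨m, rfl⟩ := QuotientGroup.mk_surjective y
        have h2 : ⁅g, (v : G)⁆ ∈ center G := mem_sec.1 (mem_sec_comm.1 (hle v.2))
        rw [Subtype.ext_iff, actW_mk, Subgroup.coe_mul, actW_mk, Subgroup.coe_inv]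
        change (m : G) * ⁅g, (v : G)⁆ * (m : G)⁻¹ = ⁅g, (v : G)⁆
        rw [mem_center_iff.1 h2, mul_inv_cancel_right])
    rw [QuotientGroup.eq_one_iff, mem_subgroupOf] at h1
    exact hg h1
  have hzg : zpowers g ≤ normalizer (S : Set G) := zpowers_le.2 hgS
  have hP : IsPGroup q (S ⊔ zpowers g : Subgroup G) :=
    hS.pgroup.to_sup_of_normal_left' (isPGroup_zpowers_of_orderOf hk) hzg
  obtain ⟨x, hx, hxs, hxc⟩ := PG.exists_not_mem_commutator_mem (S := S ⊔ zpowers g) (N := S)
    (H := sec g) hP.isNilpotent le_sup_left (sup_le le_normalizer hzg) hnle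
  have h1 := hxc g (le_sup_right (a := S) (mem_zpowers g))
  exact ⟨x, hx, h1.2, fun h2 => hxs (mem_sec.2 h2), h1.1⟩

/-- There is at most one bad prime. -/
theorem not_two_bad {q r : ℕ} [hq : Fact q.Prime] [hr : Fact r.Prime] (hqp : q ≠ p)
    (hrp : r ≠ p) (hrq : r < q) {w : G} (hw : Good p w)
    (hdq : q ∣ (centralizer ({w} : Set G)).index)
    (hdr : r ∣ (centralizer ({w} : Set G)).index) : False := by
  obtain ⟨S, hS⟩ := exists_sylIn q (centralizer ({w} : Set G))
  obtain ⟨y₀, j₀, hy₀Z, hy₀⟩ := exists_noncentral hdq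
  have hZ := h.not_le_center hqp hw hS hy₀Z hy₀
  obtain ⟨g, hgN, hg, k, hk⟩ := h.exists_mem_normalizer hqp hw hS hZ hdq
  obtain ⟨x, hx, haS, haZ, hag⟩ := h.exists_transvection hqp hrp hrq.ne hw hdr hS hZ hgN hg hk
  set a := ⁅x, g⁆ with ha
  have hCa : centralizer ({a} : Set G) = centralizer {w} := h.eq_of_mem hqp hw hS haS haZ
  have hgZ : g ∉ center G := fun h1 => hg (center_le_cent w h1)
  have hgg : Good p g := ⟨hgZ, q, k, hq.out, hqp, hk⟩
  have hga : a ∉ centralizer ({g} : Set G) := by rw [mem_cent_comm, hCa]; exact hg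
  obtain ⟨S', hS'⟩ := exists_sylIn q (centralizer ({g} : Set G))
  have hZ' := h.not_le_center hqp hgg hS' hy₀Z hy₀
  have hgS' : g ∈ S' := h.mem_syl hqp hgg hS' (self_mem_cent g) hk
  obtain ⟨ka, hka⟩ := exists_orderOf_eq_pow_of_mem hS.pgroup haS
  obtain ⟨y, hy, hbS, hbZ, hba⟩ := h.exists_transvection hqp hrp hrq.ne hgg
    (by simpa using h.dvd_of_dvd hw hgg (k := 1) hr.out hrp (by simpa using hdr))
    hS' hZ' (sec_le_normalizer g hag) hga hka
  -- the section `(S' ⊓ sec a) / Z` has order `q` and is generated by `g`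
  have hAN : S' ⊓ sec a ≤ normalizer (centralizer ({w} : Set G) : Set G) := by
    rw [← hCa]
    exact inf_le_right.trans (sec_le_normalizer a)
  have hrel := h.relIndex_dvd hw hqp (hS'.pgroup.to_le inf_le_left) hAN
  have hgA : g ∈ S' ⊓ sec a := ⟨hgS', mem_sec_comm.1 hag⟩
  have hHZ : ∀ u ∈ S', u ∈ centralizer ({w} : Set G) → u ∈ center G := fun u hu huH => by
    by_contra huZ
    apply hga
    rw [← h.eq_of_mem hqp hgg hS' hu huZ, mem_cent_comm, hCa]
    exact huH
  let f := QuotientGroup.mk' (center G)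
  have hcardA : Nat.card ((S' ⊓ sec a).map f) ∣ q := by
    have : (centralizer ({w} : Set G)).relIndex (S' ⊓ sec a) = f.ker.relIndex (S' ⊓ sec a) := by
      rw [QuotientGroup.ker_mk', ← inf_relIndex_right, ← inf_relIndex_right (center G)]
      congr 1
      exact le_antisymm (fun u hu => ⟨hHZ u hu.2.1 hu.1, hu.2⟩)
        (inf_le_inf_right _ (center_le_cent w))
    rw [this, relIndex_ker] at hrel
    exact hrel
  have hfg : f g ≠ 1 := fun h1 => hgZ ((QuotientGroup.eq_one_iff g).1 h1)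
  have hzg : zpowers (f g) = (S' ⊓ sec a).map f := by
    refine eq_of_le_of_card_le (zpowers_le.2 (mem_map_of_mem f hgA)) ?_
    have h1 := (card_dvd_of_le (zpowers_le.2 (mem_map_of_mem f hgA))).trans hcardA
    rcases (Nat.dvd_prime hq.out).1 h1 with h2 | h2
    · rw [card_eq_one, zpowers_eq_bot] at h2
      exact absurd h2 hfg
    · rw [h2]
      exact Nat.le_of_dvd hq.out.pos hcardA
  have hgq : f g ^ q = 1 := by
    refine orderOf_dvd_iff_pow_eq_one.1 ?_
    rw [← Nat.card_zpowers, hzg]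
    exact hcardA
  obtain ⟨c, hc⟩ : ∃ c : ℕ, f g ^ c = f ⁅y, a⁆ := by
    have : f ⁅y, a⁆ ∈ zpowers (f g) := hzg ▸ mem_map_of_mem f ⟨hbS, hba⟩
    exact mem_powers_iff_mem_zpowers.2 this
  have hcq : ¬ q ∣ c := by
    rintro ⟨d, rfl⟩
    rw [pow_mul, hgq, one_pow] at hc
    exact hbZ ((QuotientGroup.eq_one_iff _).1 hc.symm)
  have hSc := h.comm hqp hw hS
  have hSc' := h.comm hqp hgg hS'
  have hcomm : Commute (f a) (f g) := commutator_mem_center_iff.1 (mem_sec.1 hag)
  obtain ⟨l₀, hl₀⟩ := IsCyclic.exists_ofOrder_eq_natCard (α := (ZMod q)ˣ)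
  obtain ⟨l, hl⟩ := ZMod.natCast_zmod_surjective (l₀ : ZMod q)
  have hlq : ¬ q ∣ l := by
    rw [← ZMod.natCast_eq_zero_iff, hl]
    exact l₀.ne_zero
  obtain ⟨τ₀, i, j, hτa, hτg⟩ := exists_torus (x := f x) (y := f y) hcomm hgq
    (by
      rw [← map_mul, setLike_mul_comm hx haS, map_mul, mul_inv_cancel_right])
    (by
      rw [← map_inv, ← map_mul, ← map_mul, ← map_mul, ha, commutatorElement_def]
      congr 1
      group)
    (by rw [← map_mul, setLike_mul_comm hy hgS', map_mul, mul_inv_cancel_right]) hcq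
    (by
      rw [(hcomm.pow_right c).eq, hc, ← map_inv, ← map_mul, ← map_mul, ← map_mul,
        commutatorElement_def]
      congr 1
      group) hlq
  obtain ⟨τ, rfl⟩ := QuotientGroup.mk'_surjective (center G) τ₀
  have hlift : ∀ u v : G, f u = f v → ∃ z ∈ center G, u = v * z := fun u v huv =>
    ⟨v⁻¹ * u, QuotientGroup.eq.1 huv.symm, by group⟩
  obtain ⟨z₁, hz₁, hτa'⟩ := hlift (τ * a * τ⁻¹) (a ^ i) (by simpa [f] using hτa)
  obtain ⟨z₂, hz₂, hτg'⟩ := hlift (τ * g * τ⁻¹) (a ^ j * g ^ l) (by simpa [f] using hτg)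
  have hτN : τ ∈ normalizer (centralizer ({w} : Set G) : Set G) := by
    rw [mem_normalizer_iff_conj_smul_eq]
    conv_lhs => rw [← hCa]
    rw [conj_smul_centralizer_singleton, hτa', cent_mul_center hz₁]
    refine h.eq_of_mem hqp hw hS (pow_mem haS i) fun h1 => haZ ?_
    have h2 : τ * a * τ⁻¹ ∈ center G := hτa' ▸ mul_mem h1 hz₁
    have := (inferInstance : (center G).Normal).conj_mem _ h2 τ⁻¹
    simpa [mul_assoc] using this
  -- the Weyl group
  obtain ⟨R, hR⟩ := exists_sylIn r (centralizer ({w} : Set G))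
  obtain ⟨y₁, j₁, hy₁Z, hy₁⟩ := exists_noncentral hdr
  have hRZ := h.not_le_center hrp hw hR hy₁Z hy₁
  obtain ⟨e, heN, he, ke, hke⟩ := h.exists_mem_normalizer hrp hw hR hRZ hdr
  have hη := h.orderOf_mk_eq hrp hw (g := ⟨e, heN⟩) he hke
  have hγ := h.orderOf_mk_eq hqp hw (g := ⟨g, hgN⟩) hg hk
  have hRc := h.comm hrp hw hR
  let _ : CommGroup R := { (inferInstance : Group R) with mul_comm := mul_comm' }
  have hne : ∀ {s : ℕ} {t : Wy (centralizer ({w} : Set G))}, s.Prime → orderOf t = s → t ≠ 1 := by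
    rintro s t hs ht rfl
    rw [orderOf_one] at ht
    exact hs.one_lt.ne ht
  let τ' : Wy (centralizer ({w} : Set G)) :=
    ((⟨τ, hτN⟩ : normalizer (centralizer ({w} : Set G) : Set G)) : Wy _)
  let γ : Wy (centralizer ({w} : Set G)) :=
    ((⟨g, hgN⟩ : normalizer (centralizer ({w} : Set G) : Set G)) : Wy _)
  have hconj : τ' * γ * τ'⁻¹ = γ ^ l := by
    simp only [τ', γ]
    rw [← QuotientGroup.mk_inv, ← QuotientGroup.mk_mul, ← QuotientGroup.mk_mul,
      ← QuotientGroup.mk_pow, eq_comm, QuotientGroup.eq, mem_subgroupOf]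
    simp only [Subgroup.coe_mul, Subgroup.coe_inv, SubgroupClass.coe_pow]
    rw [hτg', ← mul_assoc, ← mul_assoc]
    refine mul_mem ?_ (center_le_cent w hz₂)
    have := conj_mem_of_mem_normalizer (inv_mem (pow_mem hgN l)) (pow_mem (hS.le haS) j)
    rwa [inv_inv] at this
  refine two_bad hrq hS.pgroup hR.pgroup
    (actW_injective (h.normalizer_le hqp hw hS) (h.centralizer_eq hqp hw hS hZ))
    (actW_injective (h.normalizer_le hrp hw hR) (h.centralizer_eq hrp hw hR hRZ))
    (fun t ht => h.fix_of_ne_one hrp hw hR hRZ (hne hr.out ht)) hγ hη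
    (h.fix_of_ne_one hqp hw hS hZ (hne hq.out hγ)) ?_ (τ := τ' ^ q) ?_ (l := l ^ q) ?_
    (conj_pow_eq_pow_pow hconj q)
  · have heZ : e ∉ center G := fun h1 => he (center_le_cent w h1)
    have hee : Good p e := ⟨heZ, r, ke, hr.out, hrp, hke⟩
    have h1 := h.relIndex_dvd hee hrp (X := R ⊓ sec e) (hR.pgroup.to_le inf_le_left)
      (inf_le_right.trans (sec_le_normalizer e))
    refine le_trans (le_of_eq ?_) (Nat.le_of_dvd hr.out.pos h1)
    have hd : ∀ v : R, ((dlt (actW (h.normalizer_le hrp hw hR) (h.centralizer_eq hrp hw hR hRZ)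
        ((⟨e, heN⟩ : normalizer (centralizer ({w} : Set G) : Set G)) : Wy _)) v : R) : G)
        = ⁅e, (v : G)⁆ := fun v => rfl
    have hK1 : kerPow (dlt (actW (h.normalizer_le hrp hw hR) (h.centralizer_eq hrp hw hR hRZ)
        ((⟨e, heN⟩ : normalizer (centralizer ({w} : Set G) : Set G)) : Wy _))) 1
        = (centralizer ({e} : Set G)).subgroupOf R := by
      ext v
      rw [mem_kerPow, Function.iterate_one, Subtype.ext_iff, hd, mem_subgroupOf, mem_cent,
        OneMemClass.coe_one, commutatorElement_eq_one_iff_mul_comm, eq_comm]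
    have hK2 : kerPow (dlt (actW (h.normalizer_le hrp hw hR) (h.centralizer_eq hrp hw hR hRZ)
        ((⟨e, heN⟩ : normalizer (centralizer ({w} : Set G) : Set G)) : Wy _))) 2
        = (R ⊓ sec e).subgroupOf R := by
      ext v
      rw [kerPow, mem_comap, hK1, mem_subgroupOf, hd, inf_subgroupOf_left, mem_subgroupOf,
        mem_sec_comm, mem_sec]
      refine ⟨fun h2 => ?_, fun h2 => center_le_cent e h2⟩
      by_contra h3
      apply he
      have h4 : ⁅e, (v : G)⁆ ∈ R := by rw [← hd]; exact Subtype.coe_prop _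
      rw [← h.eq_of_mem hrp hw hR h4 h3, mem_cent_comm]
      exact h2
    rw [hK1, hK2, relIndex_subgroupOf inf_le_left]
  · intro hd
    have h1 : q ^ 2 ∣ orderOf τ' := by
      by_cases h2 : q ∣ orderOf τ'
      · rw [orderOf_pow_of_dvd hq.out.ne_zero h2] at hd
        obtain ⟨m, hm⟩ := h2
        rw [hm, Nat.mul_div_cancel_left _ hq.out.pos] at hd
        rw [hm, pow_two]
        exact Nat.mul_dvd_mul_left q hd
      · exact absurd (hd.trans (orderOf_pow_dvd q)) h2
    exact h.not_sq_dvd hw hqp (h1.trans ((orderOf_dvd_natCard τ').trans (card_Wy_dvd _)))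
  · rw [Nat.cast_pow, ZMod.pow_card, hl, orderOf_units, hl₀, Nat.card_eq_fintype_card,
      ZMod.card_units]

/-- A non-central normal `s`-subgroup centralizes all good elements. -/
theorem le_of_normal {s : ℕ} [hs : Fact s.Prime] (hsp : s ≠ p) {T : Subgroup G} [T.Normal]
    (hT : IsPGroup s T) (hTZ : ¬ T ≤ center G) {w : G} (hw : Good p w) :
    T ≤ centralizer ({w} : Set G) := by
  by_contra hTH
  obtain ⟨S, hS⟩ := exists_sylIn s (centralizer ({w} : Set G))
  obtain ⟨x, hx, hxZ⟩ := SetLike.not_le_iff_exists.1 hTZ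
  obtain ⟨k, hk⟩ := exists_orderOf_eq_pow_of_mem hT hx
  have hZ := h.not_le_center hsp hw hS hxZ hk
  obtain ⟨r, j, y, hr, hrp, hrs, hyZ, hy⟩ := h.two s
  have := Fact.mk hr
  obtain ⟨R, hR⟩ := exists_sylIn r (centralizer ({w} : Set G))
  have hRZ := h.not_le_center hrp hw hR hyZ hy
  have hU : IsPGroup s (S ⊔ T : Subgroup G) := hS.pgroup.to_sup_of_normal_right hT
  have hlt : S < S ⊔ T := left_lt_sup.2 fun hle => hTH (hle.trans hS.le)
  have hlt' := lt_inf_normalizer_of_lt hU hlt
  have hRS : R ≤ normalizer (S : Set G) :=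
    hR.le.trans ((h.le_centralizer hsp hw hS).trans (centralizer_le_normalizer _))
  have h1 := le_centralizer_of_disjoint (H := (S ⊔ T) ⊓ normalizer (S : Set G)) (K := R)
    (inf_le_right.trans ((h.normalizer_ge hsp hw hS hZ).trans (h.normalizer_le hrp hw hR)))
    (le_normalizer_inf (le_normalizer_sup hRS le_normalizer_of_normal)
      (le_normalizer_normalizer hRS))
    (IsPGroup.disjoint_of_ne s r hrs.symm _ _ (hU.to_le inf_le_left) hR.pgroup).eq_bot
  rw [h.centralizer_eq hrp hw hR hRZ] at h1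
  exact hlt'.not_ge (h.le_syl hsp hw hS (hU.to_le inf_le_left) h1)

theorem not_bad_of_normal {s : ℕ} [hs : Fact s.Prime] (hsp : s ≠ p) {T : Subgroup G} [T.Normal]
    (hT : IsPGroup s T) (hTZ : ¬ T ≤ center G) {w : G} (hw : Good p w) {q : ℕ}
    [hq : Fact q.Prime] (hqp : q ≠ p) : ¬ q ∣ (centralizer ({w} : Set G)).index := by
  intro hd
  obtain ⟨v, hv, hvZ⟩ := SetLike.not_le_iff_exists.1 hTZ
  have hvg : Good p v := good_of_mem hsp hT hv hvZ
  have hall : ∀ u, Good p u → centralizer ({u} : Set G) = centralizer {v} := fun u hu =>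
    (h.eq hu hvg (h.le_of_normal hsp hT hTZ hu hv)).symm
  obtain ⟨S, hS⟩ := exists_sylIn q (centralizer ({w} : Set G))
  obtain ⟨y₀, j₀, hy₀Z, hy₀⟩ := exists_noncentral hd
  obtain ⟨g, -, hg, k, hk⟩ := h.exists_mem_normalizer hqp hw hS
    (h.not_le_center hqp hw hS hy₀Z hy₀) hd
  apply hg
  rw [hall w hw, ← hall g ⟨fun h1 => hg (center_le_cent w h1), q, k, hq.out, hqp, hk⟩]
  exact self_mem_cent g

end PH

theorem map_cent_of_coprime [Finite G] (K : Subgroup G) [K.Normal] {w : G}
    (hw : (orderOf w).Coprime (Nat.card K)) :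
    (centralizer ({w} : Set G)).map (QuotientGroup.mk' K) =
      centralizer ({(w : G ⧸ K)} : Set (G ⧸ K)) := by
  have := Coprime.map_mk'_centralizer (A := zpowers w) K (by rwa [Nat.card_zpowers])
    (Or.inl inferInstance)
  rwa [MonoidHom.map_zpowers, centralizer_zpowers, centralizer_zpowers] at this

theorem index_cent_eq_mul_of_coprime [Finite G] (K : Subgroup G) [K.Normal] {w : G}
    (hw : (orderOf w).Coprime (Nat.card K)) :
    (centralizer ({w} : Set G)).index = (centralizer ({w} : Set G)).relIndex K *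
      (centralizer ({(w : G ⧸ K)} : Set (G ⧸ K))).index := by
  rw [← map_cent_of_coprime K hw, index_map, QuotientGroup.ker_mk', QuotientGroup.range_mk',
    index_top, mul_one, ← relIndex_sup_of_normal_of_le (N := K) le_rfl, sup_comm K,
    relIndex_mul_index le_sup_left]

theorem factorization_index_mk [Finite G] [hp : Fact p.Prime] {K : Subgroup G} [K.Normal]
    (hK : IsPGroup p K) {w : G} (hw : (orderOf w).Coprime p) {r : ℕ} (hrp : r ≠ p) :
    (centralizer ({(w : G ⧸ K)} : Set (G ⧸ K))).index.factorization r =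
      (centralizer ({w} : Set G)).index.factorization r := by
  have n1 : (centralizer ({w} : Set G)).relIndex K ≠ 0 := index_ne_zero_of_finite
  rw [index_cent_eq_mul_of_coprime K (coprime_card_of_isPGroup hK hw).symm,
    Nat.factorization_mul n1 index_ne_zero_of_finite, Finsupp.add_apply]
  obtain ⟨k, hk⟩ := hK.index ((centralizer ({w} : Set G)).subgroupOf K)
  change (centralizer ({w} : Set G)).relIndex K = _ at hk
  rw [hk, hp.out.factorization_pow, Finsupp.single_eq_of_ne hrp, zero_add]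

theorem Good.coprime [hp : Fact p.Prime] {w : G} (hw : Good p w) : (orderOf w).Coprime p := by
  obtain ⟨-, s, k, hs, hsp, hk⟩ := hw
  rw [hk]
  exact ((Nat.coprime_primes hs hp.out).2 hsp).pow_left k

theorem good_of_lift [Finite G] {K : Subgroup G} [K.Normal] {w : G} {s k : ℕ} (hs : s.Prime)
    (hsp : s ≠ p) (hk : orderOf w = s ^ k) (hw : (w : G ⧸ K) ∉ center (G ⧸ K)) : Good p w :=
  ⟨fun h1 => hw (mem_center_iff.2 fun g => by
    obtain ⟨g, rfl⟩ := QuotientGroup.mk_surjective g
    rw [← QuotientGroup.mk_mul, ← QuotientGroup.mk_mul, mem_center_iff.1 h1 g]), s, k, hs, hsp, hk⟩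

theorem Good.exists_lift [Finite G] {K : Subgroup G} [K.Normal] {w : G ⧸ K} (hw : Good p w)
    {C : Subgroup G} (hC : w ∈ C.map (QuotientGroup.mk' K)) :
    ∃ v ∈ C, (v : G ⧸ K) = w ∧ Good p v := by
  obtain ⟨hZ, s, k, hs, hsp, hk⟩ := hw
  obtain ⟨v, hv, rfl, j, hj⟩ := exists_lift_mem_prime_pow (QuotientGroup.mk' K) hC hs hk
  exact ⟨v, hv, rfl, good_of_lift hs hsp hj hZ⟩

namespace PH

variable [Finite G] [hp : Fact p.Prime] (h : PH p G)
include h

theorem good_mk {K : Subgroup G} [K.Normal] (hK : IsPGroup p K) {w₀ : G} (hw₀ : Good p w₀) {q : ℕ}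
    (hq : q.Prime) (hqp : q ≠ p) (hd : q ∣ (centralizer ({w₀} : Set G)).index) {w : G}
    (hw : Good p w) :
    Good p (w : G ⧸ K) ∧ q ∣ (centralizer ({(w : G ⧸ K)} : Set (G ⧸ K))).index := by
  have h1 : q ∣ (centralizer ({(w : G ⧸ K)} : Set (G ⧸ K))).index := by
    rw [hq.dvd_iff_one_le_factorization index_ne_zero_of_finite] at hd ⊢
    rwa [factorization_index_mk hK hw.coprime hqp, h.const w w₀ hw hw₀ q hq hqp]
  refine ⟨?_, h1⟩
  obtain ⟨-, s, k, hs, hsp, hk⟩ := hw
  obtain ⟨j, -, hj⟩ := (Nat.dvd_prime_pow hs).1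
    (hk ▸ orderOf_map_dvd (QuotientGroup.mk' K) w)
  refine ⟨fun h2 => ?_, s, j, hs, hsp, hj⟩
  rw [index_cent_eq_one_iff.2 h2] at h1
  exact hq.one_lt.ne' (Nat.dvd_one.1 h1)

theorem quotient {K : Subgroup G} [K.Normal] (hK : IsPGroup p K) {w₀ : G} (hw₀ : Good p w₀) {q : ℕ}
    (hq : q.Prime) (hqp : q ≠ p) (hd : q ∣ (centralizer ({w₀} : Set G)).index) :
    PH p (G ⧸ K) where
  cent w v hw hv hc := by
    obtain ⟨w, -, rfl, hw'⟩ := hw.exists_lift (C := ⊤)
      (by rw [map_top_of_surjective _ (QuotientGroup.mk'_surjective K)]; exact mem_top _)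
    have e1 := map_cent_of_coprime K (coprime_card_of_isPGroup hK hw'.coprime).symm
    obtain ⟨v, hvw, rfl, hv'⟩ := hv.exists_lift (C := centralizer {w})
      (by rw [e1]; exact mem_cent_iff_commute.2 hc)
    rw [← e1, ← map_cent_of_coprime K (coprime_card_of_isPGroup hK hv'.coprime).symm]
    exact map_mono (h.cent w v hw' hv' (mem_cent_iff_commute.1 hvw))
  const w v hw hv r hr hrp := by
    obtain ⟨w, -, rfl, hw'⟩ := hw.exists_lift (C := ⊤)
      (by rw [map_top_of_surjective _ (QuotientGroup.mk'_surjective K)]; exact mem_top _)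
    obtain ⟨v, -, rfl, hv'⟩ := hv.exists_lift (C := ⊤)
      (by rw [map_top_of_surjective _ (QuotientGroup.mk'_surjective K)]; exact mem_top _)
    rw [factorization_index_mk hK hw'.coprime hrp, factorization_index_mk hK hv'.coprime hrp]
    exact h.const w v hw' hv' r hr hrp
  two t := by
    obtain ⟨r, k, x, hr, hrp, hrt, hxZ, hx⟩ := h.two t
    obtain ⟨j, -, hj⟩ := (Nat.dvd_prime_pow hr).1
      (hx ▸ orderOf_map_dvd (QuotientGroup.mk' K) x)
    exact ⟨r, j, x, hr, hrp, hrt, (h.good_mk hK hw₀ hq hqp hd ⟨hxZ, r, k, hr, hrp, hx⟩).1.1, hj⟩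

theorem not_bad_of_pCore (hO : pCore p G = ⊥) {w : G} (hw : Good p w) {q : ℕ}
    [hq : Fact q.Prime] (hqp : q ≠ p) : ¬ q ∣ (centralizer ({w} : Set G)).index := by
  intro hd
  have hF : fittingSubgroup G ≤ center G := fitting_le_of_forall_pCore_le fun s _ => by
    by_cases hsp : s = p
    · rw [hsp, hO]
      exact bot_le
    · by_contra hle
      exact h.not_bad_of_normal hsp (pCore_isPGroup s G) hle hw hqp hd
  obtain ⟨Q⟩ : Nonempty (Sylow q G) := inferInstance
  have hQZ : ¬ (Q : Subgroup G) ≤ center G := fun hle =>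
    not_dvd_index_of_sylow_le Q (hle.trans (center_le_cent w)) hd
  obtain ⟨a, haQ, haZ, -, hac⟩ := exists_second_center Q.isPGroup' hQZ
  have ha : Good p a := good_of_mem hqp Q.isPGroup' haQ haZ
  have hda : q ∣ (centralizer ({a} : Set G)).index := by
    simpa using h.dvd_of_dvd hw ha (k := 1) hq.out hqp (by simpa using hd)
  let f := QuotientGroup.mk' (center G)
  have hidx : IsPiNum ({p} : Set ℕ)
      (centralizer ({(a : G ⧸ center G)} : Set (G ⧸ center G))).index := by
    intro r hr hrd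
    by_contra hrp
    have := Fact.mk hr
    have h1 := hrd.trans (index_cent_mk_dvd (center G) a)
    rcases lt_trichotomy r q with hlt | rfl | hlt
    · exact h.not_two_bad hqp hrp hlt ha hda h1
    · rw [← index_comap_of_surjective _ (QuotientGroup.mk'_surjective (center G))] at hrd
      exact not_dvd_index_of_sylow_le Q (fun s hs => mem_sec.2 (hac s hs)) hrd
    · exact h.not_two_bad hrp hqp hlt ha h1 hda
  obtain ⟨k, hk⟩ := (isPiNum_singleton_iff hp.out index_ne_zero_of_finite).1 hidx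
  have hsol := isSolvable_normalClosure hp.out hk.dvd
  have hM : Group.IsSolvable (normalClosure ({a} : Set G)) := by
    have : Group.IsSolvable (center G) := Group.isSolvable_of_comm mul_comm'
    refine isSolvable_of_map_mk' (center G) _ ?_
    rw [map_normalClosure _ _ (QuotientGroup.mk'_surjective _), Set.image_singleton]
    exact hsol
  have h2 := le_fitting_of_isSolvable_of_le_centralizer (normalClosure ({a} : Set G))
    (le_top.trans (le_centralizer_iff.1 (hF.trans (center_le_centralizer _))))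
  exact haZ (hF (h2 (subset_normalClosure (Set.mem_singleton a))))

/-- **Main theorem**: good elements have `p`-power class size. -/
theorem index_eq_pow {w : G} (hw : Good p w) : ∃ k, (centralizer ({w} : Set G)).index = p ^ k := by
  refine (isPiNum_singleton_iff hp.out index_ne_zero_of_finite).1 fun q hq hd => ?_
  by_contra hqp
  have := Fact.mk hq
  obtain ⟨h1, h2⟩ := h.good_mk (pCore_isPGroup p G) hw hq hqp hd hw
  exact (h.quotient (pCore_isPGroup p G) hw hq hqp hd).not_bad_of_pCore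
    (pCore_quotient_pCore p G) h1 hqp h2

end PH

end Cfsg.Lib.CITCor.Cls
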