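import Cfsg.Agent.CITCor.ClsStruct
import Cfsg.Agent.FT.Final
import Cfsg.Agent.Char.FrobWielandt
import Cfsg.Agent.S4134

/-!
Strongly self-centralizing subgroups (modulo the centre) and groups with three class sizes.
-/

set_option autoImplicit false

namespace Cfsg.Lib.CITCor.Cls

open Subgroup Cfsg.Lib.Solv Cfsg.Lib.Solv.ClassSize Cfsg.Lib.Fus
open scoped commutatorElement Pointwise

universe u

/-- A group acting faithfully and "semiregularly" on a `q`-group and on an `r`-group cannot have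
order divisible by `q r`. -/
theorem two_bad' {W A B : Type*} [Group W] [Finite W] [Group A] [Finite A] [IsMulCommutative A]
    [Group B] [Finite B] [IsMulCommutative B] {q r : ℕ} [hq : Fact q.Prime] [hr : Fact r.Prime]
    (hrq : r ≠ q) (hA : IsPGroup q A) (hB : IsPGroup r B) {φ : W →* MulAut A}
    (hφ : Function.Injective φ) {ψ : W →* MulAut B} (hψ : Function.Injective ψ)
    (hfq : ∀ g : W, g ≠ 1 → ∀ v, φ g v = v → ∀ w, φ w v = v)
    (hfr : ∀ g : W, g ≠ 1 → ∀ v, ψ g v = v → ∀ w, ψ w v = v)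
    (hdq : q ∣ Nat.card W) (hdr : r ∣ Nat.card W) : False := by
  obtain ⟨γ, hγ⟩ := exists_prime_orderOf_dvd_card' q hdq
  obtain ⟨η, hη⟩ := exists_prime_orderOf_dvd_card' r hdr
  have hne : ∀ {s : ℕ} {t : W}, s.Prime → orderOf t = s → t ≠ 1 := by
    rintro s t hs ht rfl
    rw [orderOf_one] at ht
    exact hs.one_lt.ne ht
  have key : ∀ (s : ℕ) [Fact s.Prime] (X : Subgroup W), X.Normal → IsPGroup s X → X = ⊥ := by
    intro s hs X hXn hX
    obtain ⟨k, hk⟩ := IsPGroup.iff_card.1 hX
    have hnd : ∀ t : ℕ, t.Prime → t ≠ s → ¬ t ∣ Nat.card X := fun t ht hts h => by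
      rw [hk] at h
      exact hts ((Nat.prime_dvd_prime_iff_eq ht hs.out).1 (ht.dvd_of_dvd_pow h))
    by_cases hsr : r = s
    · exact eq_bot_of_normalized hA hφ (hnd q hq.out fun h => hrq (hsr.trans h.symm)) (g := γ)
        (by rw [normalizer_eq_top]; exact mem_top _)
        (isPGroup_zpowers_of_orderOf (k := 1) (by rw [pow_one, hγ]))
        (fun v hv x _ => hfq γ (hne hq.out hγ) v hv x)
    · exact eq_bot_of_normalized hB hψ (hnd r hr.out hsr) (g := η)
        (by rw [normalizer_eq_top]; exact mem_top _)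
        (isPGroup_zpowers_of_orderOf (k := 1) (by rw [pow_one, hη]))
        (fun v hv x _ => hfr η (hne hr.out hη) v hv x)
  have := Fact.mk Nat.prime_two
  by_cases h2 : 2 ∣ Nat.card W
  · obtain ⟨t, ht⟩ := exists_prime_orderOf_dvd_card' 2 h2
    have hz : ∀ t : W, orderOf t = 2 → ∀ v w, φ w (φ t v * v) = φ t v * v := fun t ht v => by
      refine hfq t (hne Nat.prime_two ht) _ ?_
      rw [map_mul, ← MulAut.mul_apply, ← map_mul, ← pow_two, ← ht, pow_orderOf_eq_one, map_one,
        MulAut.one_apply, mul_comm']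
    have hc : t ∈ center W := mem_center_iff.2 fun g => by
      have ht' : orderOf (g * t * g⁻¹) = 2 := ((MulAut.conj g).orderOf_eq t).trans ht
      have h1 := case_one hrq hA hB hφ hψ (γ := t * (g * t * g⁻¹)) hη (hfr η (hne hr.out hη))
        (fun v w => by
          have h3 : φ (t * (g * t * g⁻¹)) v * v⁻¹ =
              (φ (g * t * g⁻¹) v * v) * (φ t v * v)⁻¹ := by
            conv_rhs => rw [← hz _ ht' v t]
            rw [map_mul φ t, MulAut.mul_apply, map_mul (φ t), mul_inv_rev, mul_comm' v⁻¹]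
            group
          rw [h3, map_mul (φ w), map_inv (φ w), hz _ ht', hz _ ht])
      have h4 : t * t = 1 := by rw [← pow_two, ← ht, pow_orderOf_eq_one]
      have h5 : g * t * g⁻¹ = t := mul_left_cancel (h1.trans h4.symm)
      rw [mul_inv_eq_iff_eq_mul] at h5
      exact h5
    have := key 2 (zpowers t) (normal_of_le_cen (zpowers_le.2 hc))
      (isPGroup_zpowers_of_orderOf (k := 1) (by rw [pow_one, ht]))
    exact hne Nat.prime_two ht (zpowers_eq_bot.1 this)
  · have := FT.odd_order_solvable (G := W) (Nat.odd_iff.2 (Nat.two_dvd_ne_zero.1 h2))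
    have hF : fittingSubgroup W = ⊥ := fitting_eq_bot_iff_forall_pCore.2 fun s _ =>
      key s _ inferInstance (pCore_isPGroup s W)
    have h1 := le_fitting_of_isSolvable_of_le_centralizer (⊤ : Subgroup W)
      (by rw [hF]; exact le_centralizer_iff.1 bot_le)
    rw [hF] at h1
    exact hne hq.out hγ (h1 (mem_top γ))

variable {G : Type u} [Group G]

/-- `A` is the centralizer of each of its non-central elements. -/
structure SSC (A : Subgroup G) : Prop where
  center_le : center G ≤ A
  eq : ∀ v ∈ A, v ∉ center G → centralizer ({v} : Set G) = A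

namespace SSC

variable {A : Subgroup G} (h : SSC A)
include h

theorem le_cent {v : G} (hv : v ∈ A) : A ≤ centralizer ({v} : Set G) := by
  by_cases hvZ : v ∈ center G
  · rw [cent_eq_top_iff.2 hvZ]
    exact le_top
  · exact (h.eq v hv hvZ).ge

theorem comm : IsMulCommutative A :=
  PG.isMulCommutative_of_forall fun _ hx _ hy => mem_cent.1 (h.le_cent hy hx)

theorem le_centralizer {S : Subgroup G} (hS : S ≤ A) : A ≤ centralizer (S : Set G) :=
  fun _ hx => mem_centralizer_iff.2 fun _ hv => (mem_cent.1 (h.le_cent (hS hv) hx)).symm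

theorem centralizer_eq {S : Subgroup G} (hS : S ≤ A) (hZ : ¬ S ≤ center G) :
    centralizer (S : Set G) = A := by
  refine le_antisymm ?_ (h.le_centralizer hS)
  obtain ⟨v, hv, hvZ⟩ := SetLike.not_le_iff_exists.1 hZ
  rw [← h.eq v (hS hv) hvZ]
  exact centralizer_le (Set.singleton_subset_iff.2 hv)

theorem mem_normalizer {x g : G} (hx : x ∈ A) (hxZ : x ∉ center G) (hg : g * x * g⁻¹ ∈ A) :
    g ∈ normalizer (A : Set G) := by
  rw [mem_normalizer_iff_conj_smul_eq]
  conv_lhs => rw [← h.eq x hx hxZ]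
  rw [conj_smul_centralizer_singleton]
  refine h.eq _ hg fun h1 => hxZ ?_
  have := (inferInstance : (center G).Normal).conj_mem _ h1 g⁻¹
  simpa [mul_assoc] using this

theorem index_eq {x g : G} (hxZ : x ∉ center G) (hg : g * x * g⁻¹ ∈ A) :
    (centralizer ({x} : Set G)).index = A.index := by
  rw [← index_cent_conj x g, h.eq _ hg fun h1 => hxZ ?_]
  have := (inferInstance : (center G).Normal).conj_mem _ h1 g⁻¹
  simpa [mul_assoc] using this

section Syl

variable {s : ℕ} [hs : Fact s.Prime] {S : Subgroup G} (hS : SylIn s S A)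
include hS

omit hs in
theorem mem_syl {x : G} (hx : x ∈ A) {k : ℕ} (hk : orderOf x = s ^ k) : x ∈ S :=
  hS.le_of_normalizes (zpowers_le.2 hx) (isPGroup_zpowers_of_orderOf hk)
    ((zpowers_le.2 hx).trans ((h.le_centralizer hS.le).trans (centralizer_le_normalizer _)))
    (mem_zpowers x)

theorem normalizer_le [Finite G] : normalizer (A : Set G) ≤ normalizer (S : Set G) :=
  fun g hg => by
  refine mem_normalizer_of_conj_mem fun x hx => ?_
  obtain ⟨k, hk⟩ := exists_orderOf_eq_pow_of_mem hS.pgroup hx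
  refine h.mem_syl hS (conj_mem_of_mem_normalizer hg (hS.le hx)) (k := k) ?_
  rw [← hk]
  exact (MulAut.conj g).orderOf_eq x

omit hs in
theorem normalizer_ge (hZ : ¬ S ≤ center G) :
    normalizer (S : Set G) ≤ normalizer (A : Set G) := by
  rw [← h.centralizer_eq hS.le hZ]
  exact normalizer_le_normalizer_centralizer S

theorem fix_of_ne_one [Finite G] (hZ : ¬ S ≤ center G) (x : Wy A) (hx : x ≠ 1)
    (v : S) (hv : actW (h.normalizer_le hS) (h.centralizer_eq hS.le hZ) x v = v) (y : Wy A) :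
    actW (h.normalizer_le hS) (h.centralizer_eq hS.le hZ) y v = v := by
  obtain ⟨n, rfl⟩ := QuotientGroup.mk_surjective x
  obtain ⟨m, rfl⟩ := QuotientGroup.mk_surjective y
  rw [Subtype.ext_iff, actW_mk] at hv ⊢
  have hvZ : (v : G) ∈ center G := by
    by_contra hvZ
    apply hx
    rw [QuotientGroup.eq_one_iff, mem_subgroupOf]
    exact (h.eq v (hS.le v.2) hvZ).le (mem_cent_iff_conj.2 hv)
  rw [mem_center_iff.1 hvZ, mul_inv_cancel_right]

theorem dvd_relIndex [Finite G] (hZ : ¬ S ≤ center G) (hd : s ∣ A.index) :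
    s ∣ A.relIndex (normalizer (A : Set G)) := by
  obtain ⟨Q, hQ⟩ := hS.pgroup.exists_le_sylow
  have hlt : S < Q := lt_of_le_of_ne hQ fun he =>
    not_dvd_index_of_sylow_le Q (he ▸ hS.le) hd
  obtain ⟨g, hgQ, hgN, hgS⟩ := exists_mem_normalizer_of_lt Q.isPGroup' hlt
  obtain ⟨k, hk⟩ := exists_orderOf_eq_pow_of_mem Q.isPGroup' hgQ
  have h1 := dvd_relIndex_of_normal (G := normalizer (A : Set G))
    (Z := A.subgroupOf (normalizer (A : Set G))) (C := ⊤) (k := k) hs.out
    (x := ⟨g, h.normalizer_ge hS hZ hgN⟩) (mem_top _) (by rw [← hk, orderOf_mk])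
    (fun hg => hgS (h.mem_syl hS hg hk))
  rwa [relIndex_top_right] at h1

end Syl

theorem not_two_bad [Finite G] {q r i j : ℕ} (hq : q.Prime) (hr : r.Prime) (hrq : r ≠ q)
    {x y : G} (hx : x ∈ A) (hxZ : x ∉ center G) (hi : orderOf x = q ^ i) (hy : y ∈ A)
    (hyZ : y ∉ center G) (hj : orderOf y = r ^ j) (hdq : q ∣ A.index) (hdr : r ∣ A.index) :
    False := by
  have := Fact.mk hq
  have := Fact.mk hr
  obtain ⟨S, hS⟩ := exists_sylIn q A
  obtain ⟨R, hR⟩ := exists_sylIn r A
  have hSZ : ¬ S ≤ center G := fun hle => hxZ (hle (h.mem_syl hS hx hi))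
  have hRZ : ¬ R ≤ center G := fun hle => hyZ (hle (h.mem_syl hR hy hj))
  have := h.comm
  have : IsMulCommutative S := PG.isMulCommutative_of_forall fun _ ha _ hb =>
    setLike_mul_comm (hS.le ha) (hS.le hb)
  have : IsMulCommutative R := PG.isMulCommutative_of_forall fun _ ha _ hb =>
    setLike_mul_comm (hR.le ha) (hR.le hb)
  exact two_bad' hrq hS.pgroup hR.pgroup
    (actW_injective (h.normalizer_le hS) (h.centralizer_eq hS.le hSZ))
    (actW_injective (h.normalizer_le hR) (h.centralizer_eq hR.le hRZ))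
    (h.fix_of_ne_one hS hSZ) (h.fix_of_ne_one hR hRZ) (h.dvd_relIndex hS hSZ hdq)
    (h.dvd_relIndex hR hRZ hdr)

/-- A strongly self-centralizing subgroup with two primes contains a non-central Sylow subgroup. -/
theorem exists_good [Finite G] (h2 : ∀ p : ℕ, ∃ (r k : ℕ) (u : G), r.Prime ∧ r ≠ p ∧ u ∈ A ∧
    u ∉ center G ∧ orderOf u = r ^ k) : ∃ (r k : ℕ) (u : G), r.Prime ∧ u ∈ A ∧
      u ∉ center G ∧ orderOf u = r ^ k ∧ ¬ r ∣ A.index := by
  obtain ⟨q, i, x, hq, -, hx, hxZ, hi⟩ := h2 0
  obtain ⟨r, j, y, hr, hrq, hy, hyZ, hj⟩ := h2 q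
  by_cases hdq : q ∣ A.index
  · exact ⟨r, j, y, hr, hy, hyZ, hj, h.not_two_bad hq hr hrq hx hxZ hi hy hyZ hj hdq⟩
  · exact ⟨q, i, x, hq, hx, hxZ, hi, hdq⟩

end SSC

theorem SSC.conj {A : Subgroup G} (h : SSC A) (g : G) : SSC (MulAut.conj g • A) where
  center_le z hz := by
    rw [Coprime.mem_conj_smul]
    exact h.center_le ((inferInstance : (center G).Normal).conj_mem' z hz g)
  eq v hv hvZ := by
    rw [Coprime.mem_conj_smul] at hv
    have h1 := h.eq _ hv fun h1 => hvZ (by
      have := (inferInstance : (center G).Normal).conj_mem _ h1 g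
      simpa [mul_assoc] using this)
    rw [← h1, conj_smul_centralizer_singleton]
    simp [mul_assoc]

variable [Finite G]

theorem exists_conj_mem_of_not_dvd {A : Subgroup G} {s k : ℕ} (hs : s.Prime) (hd : ¬ s ∣ A.index)
    {x : G} (hk : orderOf x = s ^ k) : ∃ g : G, g * x * g⁻¹ ∈ A := by
  have := Fact.mk hs
  obtain ⟨P, hP⟩ := exists_sylow_le_of_not_dvd_index hd
  obtain ⟨g, -, hg⟩ := (sylIn_top P).exists_conj (U := zpowers x) le_top
    (isPGroup_zpowers_of_orderOf hk)
  exact ⟨g, hP (hg x (mem_zpowers x))⟩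

theorem card_le_of_cover {H₁ M₁ H₂ M₂ : Subgroup G} (h₁ : M₁ ≤ normalizer (H₁ : Set G))
    (h₂ : M₂ ≤ normalizer (H₂ : Set G))
    (h : ∀ x : G, (∃ g : G, g * x * g⁻¹ ∈ H₁) ∨ ∃ g : G, g * x * g⁻¹ ∈ H₂) :
    Nat.card G ≤ 1 + M₁.index * (Nat.card H₁ - 1) + M₂.index * (Nat.card H₂ - 1) := by
  have e1 := card_conj_mem_le h₁
  have e2 := card_conj_mem_le h₂
  have h3 : (Set.univ : Set G) ⊆ ({1} ∪ {x | x ≠ 1 ∧ ∃ g : G, g * x * g⁻¹ ∈ H₁}) ∪
      {x | x ≠ 1 ∧ ∃ g : G, g * x * g⁻¹ ∈ H₂} := fun x _ => by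
    by_cases hx : x = 1
    · exact Or.inl (Or.inl hx)
    · rcases h x with h | h
      · exact Or.inl (Or.inr ⟨hx, h⟩)
      · exact Or.inr ⟨hx, h⟩
  have h4 := (Set.ncard_le_ncard h3).trans ((Set.ncard_union_le _ _).trans
    (Nat.add_le_add_right (Set.ncard_union_le _ _) _))
  rw [Set.ncard_univ, Set.ncard_singleton] at h4
  exact h4.trans (Nat.add_le_add (Nat.add_le_add_left e1 1) e2)

theorem two_mul_index_le {A M : Subgroup G} (h : A < M) : 2 * M.index ≤ A.index := by
  rw [← relIndex_mul_index h.le]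
  refine Nat.mul_le_mul_right _ ?_
  have h1 : A.relIndex M ≠ 0 := index_ne_zero_of_finite
  have h2 : A.relIndex M ≠ 1 := fun h2 => h.not_ge (relIndex_eq_one.1 h2)
  omega

theorem not_cover_of_lt {A B : Subgroup G} (hA : center G ≤ A) (hB : center G ≤ B)
    (hA' : A < normalizer (A : Set G)) (hB' : B < normalizer (B : Set G))
    (h : ∀ x : G, (∃ g : G, g * x * g⁻¹ ∈ A) ∨ ∃ g : G, g * x * g⁻¹ ∈ B) : False := by
  let f := QuotientGroup.mk' (center G)
  have hf : Function.Surjective f := QuotientGroup.mk'_surjective _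
  have h1 := card_le_of_cover (H₁ := A.map f) (H₂ := B.map f) (le_normalizer_map f)
    (le_normalizer_map f) (fun x => by
      obtain ⟨x, rfl⟩ := hf x
      rcases h x with ⟨g, hg⟩ | ⟨g, hg⟩
      · exact Or.inl ⟨f g, by simpa using mem_map_of_mem f hg⟩
      · exact Or.inr ⟨f g, by simpa using mem_map_of_mem f hg⟩)
  have hi : ∀ C : Subgroup G, center G ≤ C → (C.map f).index = C.index := fun C hC =>
    index_map_eq C hf (by rwa [QuotientGroup.ker_mk'])
  rw [hi _ (hA.trans hA'.le), hi _ (hB.trans hB'.le)] at h1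
  have h2 := two_mul_index_le hA'
  have h3 := two_mul_index_le hB'
  have h4 := (A.map f).card_mul_index
  have h5 := (B.map f).card_mul_index
  rw [hi _ hA] at h4
  rw [hi _ hB] at h5
  have h6 : 0 < (normalizer (A : Set G)).index := Nat.pos_of_ne_zero index_ne_zero_of_finite
  have h7 : 0 < (normalizer (B : Set G)).index := Nat.pos_of_ne_zero index_ne_zero_of_finite
  obtain ⟨a, ha⟩ := Nat.exists_eq_succ_of_ne_zero (Nat.card_pos (α := A.map f)).ne'
  obtain ⟨b, hb⟩ := Nat.exists_eq_succ_of_ne_zero (Nat.card_pos (α := B.map f)).ne'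
  rw [ha] at h1 h4
  rw [hb] at h1 h5
  simp only [Nat.succ_sub_one] at h1
  nlinarith [Nat.mul_le_mul_right a h2, Nat.mul_le_mul_right b h3]

theorem isSolvable_of_self_normalizing {A B : Subgroup G} (hA : SSC A) (hB : SSC B)
    (hne : A.index ≠ B.index) (hN : normalizer (A : Set G) ≤ A) {r k : ℕ} {u : G} (hr : r.Prime)
    (hu : u ∈ B) (huZ : u ∉ center G) (hk : orderOf u = r ^ k) (hd : ¬ r ∣ B.index)
    (h : ∀ x : G, (∃ g : G, g * x * g⁻¹ ∈ A) ∨ ∃ g : G, g * x * g⁻¹ ∈ B) :
    Group.IsSolvable G := by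
  have := Fact.mk hr
  obtain ⟨M, hM, -, hsup, -, hmem⟩ := Char.frobenius_wielandt A (center G) hA.center_le
    (fun g _ n hn => (inferInstance : (center G).Normal).conj_mem n hn g)
    (fun g hg x hx hgx => by
      by_contra hxZ
      exact hg (hN (hA.mem_normalizer hx hxZ hgx)))
  have hBM : B ≤ M := fun b hb => (hmem b).2 fun x hx => by
    by_cases hbZ : b ∈ center G
    · exact (inferInstance : (center G).Normal).conj_mem b hbZ x
    · exact absurd ((hA.index_eq hbZ hx).symm.trans (by rw [hB.eq b hb hbZ])) hne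
  obtain ⟨R, huR, hRB⟩ := exists_sylow_le_ge_of_not_dvd_index hd
    (isPGroup_zpowers_of_orderOf hk) (zpowers_le.2 hu)
  have hnil := isNilpotent_of_two_sizes (N := M) (m := B.index) (fun x hx => by
    by_cases hxZ : x ∈ center G
    · exact Or.inl (index_cent_eq_one_iff.2 hxZ)
    · rcases h x with ⟨g, hg⟩ | ⟨g, hg⟩
      · refine absurd ?_ hxZ
        have := (inferInstance : (center G).Normal).conj_mem _ ((hmem x).1 hx g hg) g⁻¹
        simpa [mul_assoc] using this
      · exact Or.inr (hB.index_eq hxZ hg)) R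
    (fun hle => huZ (hle (huR (mem_zpowers u)))) (hRB.trans hBM)
  have hc := hA.comm
  have : Group.IsSolvable (G ⧸ M) := by
    refine Group.isSolvable_of_comm fun a b => ?_
    have h1 : A.map (QuotientGroup.mk' M) = ⊤ := by
      rw [← map_top_of_surjective _ (QuotientGroup.mk'_surjective M), ← hsup, Subgroup.map_sup,
        (Subgroup.map_eq_bot_iff M).2 (by simp), bot_sup_eq]
    obtain ⟨a, ha, rfl⟩ : a ∈ A.map (QuotientGroup.mk' M) := h1 ▸ mem_top a
    obtain ⟨b, hb, rfl⟩ : b ∈ A.map (QuotientGroup.mk' M) := h1 ▸ mem_top b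
    rw [← map_mul, ← map_mul, setLike_mul_comm ha hb]
  exact isSolvable_of_quotient M

/-- A centralizer that is both minimal and maximal among the proper centralizers. -/
structure Iso (x : G) : Prop where
  not_mem : x ∉ center G
  min : ∀ y ∉ center G, centralizer ({y} : Set G) ≤ centralizer {x} →
    centralizer ({y} : Set G) = centralizer {x}
  max : ∀ y ∉ center G, centralizer ({x} : Set G) ≤ centralizer {y} →
    centralizer ({y} : Set G) = centralizer {x}

theorem mul_not_mem_center {x y : G} (hx : x ∉ center G) (hc : Commute x y)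
    (hcop : (orderOf x).Coprime (orderOf y)) : x * y ∉ center G := fun h =>
  hx (zpowers_le.2 h (left_mem_zpowers_mul_of_coprime hc hcop))

theorem le_cent_of_forall_primary {C : Subgroup G} {v : G}
    (h : ∀ (r k : ℕ) (y : G), r.Prime → y ∈ zpowers v → orderOf y = r ^ k →
      C ≤ centralizer ({y} : Set G)) : C ≤ centralizer ({v} : Set G) := by
  rw [le_cent_iff]
  by_contra hv
  obtain ⟨r, k, y, hr, -, hy, hk, hyC⟩ := exists_primary_not_mem hv
  exact hyC (le_cent_iff.1 (h r k y hr hy hk))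

/-- If `C(w)` is minimal, the elements of `C(w)` of order prime to `w` are central in it. -/
theorem cent_le_of_min {w v : G} (hw : w ∉ center G)
    (hmin : ∀ y ∉ center G, centralizer ({y} : Set G) ≤ centralizer {w} →
      centralizer ({y} : Set G) = centralizer {w}) (hc : v ∈ centralizer ({w} : Set G))
    (hcop : (orderOf w).Coprime (orderOf v)) : centralizer ({w} : Set G) ≤ centralizer {v} := by
  have hc' := (mem_cent_iff_commute.1 hc).symm
  have h1 := cent_mul_of_coprime hc' hcop
  rw [← hmin _ (mul_not_mem_center hw hc' hcop) (h1 ▸ inf_le_left), h1]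
  exact inf_le_right

omit [Finite G] in
theorem Iso.of_eq {x y : G} (h : Iso x) (hy : y ∉ center G)
    (he : centralizer ({y} : Set G) = centralizer {x}) : Iso y :=
  ⟨hy, by rw [he]; exact h.min, by rw [he]; exact h.max⟩

theorem Iso.ssc {x : G} (h : Iso x) (h2 : ∀ p : ℕ, ∃ (r k : ℕ) (u : G), r.Prime ∧ r ≠ p ∧
    u ∈ centralizer ({x} : Set G) ∧ u ∉ center G ∧ orderOf u = r ^ k) :
    SSC (centralizer ({x} : Set G)) := by
  obtain ⟨s, i, w, hs, -, hw, hi, hwZ⟩ := exists_primary_not_mem h.not_mem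
  have hwx := h.max w hwZ (cent_le_cent_of_mem_zpowers hw)
  have hw' := h.of_eq hwZ hwx
  obtain ⟨r, j, u, hr, hrs, hu, huZ, hj⟩ := h2 s
  have hux := hw'.max u huZ (cent_le_of_min hwZ hw'.min (hwx ▸ hu)
    (coprime_orderOf_of_ne hs hr hrs.symm hi hj))
  have hu' := hw'.of_eq huZ hux
  refine ⟨center_le_cent x, fun v hv hvZ => h.max v hvZ ?_⟩
  refine le_cent_of_forall_primary fun t k y ht hy hk => ?_
  have hy' : y ∈ centralizer ({x} : Set G) := zpowers_le.2 hv hy
  by_cases hts : t = s
  · subst hts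
    rw [← hwx, ← hux] at hy' ⊢
    exact cent_le_of_min huZ hu'.min hy' (coprime_orderOf_of_ne hr ht hrs hj hk)
  · rw [← hwx] at hy' ⊢
    exact cent_le_of_min hwZ hw'.min hy' (coprime_orderOf_of_ne hs ht (Ne.symm hts) hi hk)

/-- A maximal proper centralizer `B` whose proper sub-centralizers all have index `k`. -/
structure Top (B : Subgroup G) (k : ℕ) : Prop where
  max : ∀ u ∉ center G, B ≤ centralizer ({u} : Set G) → centralizer ({u} : Set G) = B
  idx : ∀ y ∉ center G, centralizer ({y} : Set G) ≤ B →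
    (centralizer ({y} : Set G)).relIndex B = 1 ∨ (centralizer ({y} : Set G)).relIndex B = k

namespace Top

variable {B : Subgroup G} {k : ℕ} (h : Top B k)
include h

theorem idx_of_coprime {v : G} (hv : v ∉ center G) (hB : centralizer ({v} : Set G) = B) (u : B)
    (hcop : (orderOf v).Coprime (orderOf u)) :
    (centralizer ({u} : Set B)).index = 1 ∨ (centralizer ({u} : Set B)).index = k := by
  have hc : Commute v u := (mem_cent_iff_commute.1 (hB.ge u.2)).symm
  rw [← orderOf_coe] at hcop
  have h1 := cent_mul_of_coprime hc hcop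
  have h2 := h.idx _ (mul_not_mem_center hv hc hcop) (by rw [h1, hB]; exact inf_le_left)
  rwa [h1, hB, inf_relIndex_left, ← index_cent_subtype] at h2

theorem two_sizes {r j : ℕ} (hr : r.Prime) {u : G} (hu : u ∈ B) (huZ : u ∉ center G)
    (hj : orderOf u = r ^ j) (hc : ∀ (y : B) (i : ℕ), orderOf y = r ^ i → y ∈ center B) (y : B) :
    (centralizer ({y} : Set B)).index = 1 ∨ (centralizer ({y} : Set B)).index = k := by
  have hB := h.max u huZ fun b hb => mem_cent.2 (congrArg Subtype.val
    (mem_center_iff.1 (hc ⟨u, hu⟩ j (by rw [← hj, orderOf_mk])) ⟨b, hb⟩))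
  obtain ⟨i, hi⟩ := exists_orderOf_constt hr y
  rw [← FT.consttC' {r} y, cent_mul_center (hc _ i hi)]
  refine h.idx_of_coprime huZ hB _ ?_
  rw [hj]
  exact ((isPiNum_compl_singleton_iff hr).1 (FT.p_elt_constt {r}ᶜ y)).symm.pow_left j

theorem cases {s i : ℕ} (hs : s.Prime) {v : G} (hv : v ∉ center G) (hi : orderOf v = s ^ i)
    (hB : centralizer ({v} : Set G) = B) : (∃ j, k = s ^ j) ∨
      (∀ y : B, (centralizer ({y} : Set B)).index = 1 ∨ (centralizer ({y} : Set B)).index = k) ∨
      ∃ q, q.Prime ∧ q ≠ s ∧ ∀ (r j : ℕ) (u : G), r.Prime → r ≠ s → r ≠ q → u ∈ B →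
        orderOf u = r ^ j → u ∈ center G := by
  have := Fact.mk hs
  have h1 : ∀ u : B, (orderOf u).Coprime s → (centralizer ({u} : Set B)).index = 1 ∨
      (centralizer ({u} : Set B)).index = k := fun u hu =>
    h.idx_of_coprime hv hB u (by rw [hi]; exact hu.symm.pow_left i)
  have key : ∀ q, q.Prime → q ≠ s → Cen2 B s q → (∀ y : B, (centralizer ({y} : Set B)).index = 1 ∨
      (centralizer ({y} : Set B)).index = k) ∨ ∃ q, q.Prime ∧ q ≠ s ∧ ∀ (r j : ℕ) (u : G),
        r.Prime → r ≠ s → r ≠ q → u ∈ B → orderOf u = r ^ j → u ∈ center G := by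
    intro q hq hqs hc
    by_cases h2 : ∀ (r j : ℕ) (u : G), r.Prime → r ≠ s → r ≠ q → u ∈ B →
      orderOf u = r ^ j → u ∈ center G
    · exact Or.inr ⟨q, hq, hqs, h2⟩
    · push Not at h2
      obtain ⟨r, j, u, hr, hrs, hrq, hu, hj, huZ⟩ := h2
      exact Or.inl (h.two_sizes hr hu huZ hj fun y l hl => hc r l y hr hrs hrq hl)
  rcases struct_two h1 with h2 | ⟨q, hq, hqs, h2⟩
  · by_cases h3 : ∃ j, k = s ^ j
    · exact Or.inl h3
    · obtain ⟨q, hqs, hq⟩ := Nat.exists_infinite_primes (s + 1)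
      refine Or.inr (key q hq (by omega) fun r j y hr hrs _ hj => ?_)
      have hcop : (orderOf y).Coprime s := by
        rw [hj]
        exact ((Nat.coprime_primes hr hs).2 hrs).pow_left j
      rcases h1 y hcop with h4 | h4
      · exact index_cent_eq_one_iff.1 h4
      · exact absurd (h4 ▸ h2 y hcop) h3
  · exact Or.inr (key q hq hqs h2)

end Top

theorem mem_center_of_two_sizes_pow {p k j : ℕ} (hp : p.Prime) (hk : k = p ^ j)
    (h : ∀ y : G, (centralizer ({y} : Set G)).index = 1 ∨ (centralizer ({y} : Set G)).index = k)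
    {t i : ℕ} (ht : t.Prime) (htp : t ≠ p) {u : G} (hi : orderOf u = t ^ i) : u ∈ center G := by
  have := Fact.mk ht
  obtain ⟨P, hP⟩ := (isPGroup_zpowers_of_orderOf hi).exists_le_sylow
  refine sylow_le_center_of_forall_not_dvd P (fun x hd => ?_) (hP (mem_zpowers u))
  rcases h x with h1 | h1
  · rw [h1] at hd
    exact ht.one_lt.ne' (Nat.dvd_one.1 hd)
  · rw [h1, hk] at hd
    exact htp ((Nat.prime_dvd_prime_iff_eq ht hp).1 (ht.dvd_of_dvd_pow hd))

theorem exists_pow_of_two_sizes {k : ℕ} (hk : 1 < k)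
    (h : ∀ y : G, (centralizer ({y} : Set G)).index = 1 ∨ (centralizer ({y} : Set G)).index = k)
    (hex : ∃ y : G, (centralizer ({y} : Set G)).index = k) : ∃ p j : ℕ, p.Prime ∧ k = p ^ j := by
  obtain ⟨p, hp, a, ha, -⟩ := Cfsg.Agent.S4134.result k hk h hex
  exact ⟨p, a, hp.out, ha⟩

/-- If the elements of prime power order in `C(x)` are central except for one prime `p`, then
no `p`-regular element has the class size of `x`. -/
theorem exists_prime_ne_of_index_eq {x y : G} {p : ℕ} (hy : y ∉ center G)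
    (hyp : (orderOf y).Coprime p)
    (he : (centralizer ({x} : Set G)).index ∣ (centralizer ({y} : Set G)).index) :
    ∃ (r k : ℕ) (u : G), r.Prime ∧ r ≠ p ∧ u ∈ centralizer ({x} : Set G) ∧ u ∉ center G ∧
      orderOf u = r ^ k := by
  obtain ⟨z, hz, hzZ, r, k, hr, hrp, hk⟩ := exists_good_of_coprime hy hyp
  have h1 := dvd_relIndex_of_normal hr (zpowers_le_cent y hz) hk hzZ
  obtain ⟨c, hc⟩ := he
  have h2 := (relIndex_mul_index (center_le_cent x)).trans
    (relIndex_mul_index (center_le_cent y)).symm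
  rw [hc, mul_comm _ c, ← mul_assoc] at h2
  have h3 := Nat.eq_of_mul_eq_mul_right (Nat.pos_of_ne_zero index_ne_zero_of_finite) h2
  obtain ⟨u, hu, huZ, j, hj⟩ := exists_not_mem_of_dvd_relIndex hr (h3 ▸ h1.mul_right c)
  exact ⟨r, j, u, hr, hrp, hu, huZ, hj⟩

theorem isSolvable_of_two_sizes {m : ℕ} (h : ∀ x : G,
    (centralizer ({x} : Set G)).index = 1 ∨ (centralizer ({x} : Set G)).index = m) :
    Group.IsSolvable G :=
  have := Fact.mk Nat.prime_two
  isSolvable_of_two (p := 2) fun x _ => h x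

/-- **Itô**: a group with at most three class sizes is solvable. -/
theorem isSolvable_of_three {n₁ n₂ : ℕ} (h : ∀ x : G, (centralizer ({x} : Set G)).index = 1 ∨
    (centralizer ({x} : Set G)).index = n₂ ∨ (centralizer ({x} : Set G)).index = n₁) :
    Group.IsSolvable G := by
  wlog hlt : n₂ < n₁ generalizing n₁ n₂
  · rcases (not_lt.1 hlt).eq_or_lt with rfl | h1
    · exact isSolvable_of_two_sizes (m := n₁) fun x => by simpa using h x
    · exact this (fun x => by rcases h x with h | h | h <;> simp [h]) h1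
  by_contra hns
  have hnc : ∀ x, x ∉ center G → (centralizer ({x} : Set G)).index = n₂ ∨
      (centralizer ({x} : Set G)).index = n₁ := fun x hx =>
    (h x).resolve_left fun h1 => hx (index_cent_eq_one_iff.1 h1)
  have hcen : ∀ p q, ¬ Cen2 G p q := fun p q hc => hns hc.isSolvable
  have h2 : ∀ x ∉ center G, ∀ p : ℕ, ∃ (r k : ℕ) (u : G), r.Prime ∧ r ≠ p ∧
      u ∈ centralizer ({x} : Set G) ∧ u ∉ center G ∧ orderOf u = r ^ k := by
    intro x hx p
    by_cases hp : p.Prime
    · by_contra hc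
      have := Fact.mk hp
      have h3 : ∀ y : G, (orderOf y).Coprime p → y ∉ center G →
          (centralizer ({y} : Set G)).index ≠ (centralizer ({x} : Set G)).index :=
        fun y hyp hy he => hc (exists_prime_ne_of_index_eq hy hyp he.symm.dvd)
      apply hns
      rcases hnc x hx with h4 | h4
      · refine isSolvable_of_two (p := p) (m := n₁) fun y hy => ?_
        by_cases hyZ : y ∈ center G
        · exact Or.inl (index_cent_eq_one_iff.2 hyZ)
        · exact Or.inr ((hnc y hyZ).resolve_left (h4 ▸ h3 y hy hyZ))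
      · refine isSolvable_of_two (p := p) (m := n₂) fun y hy => ?_
        by_cases hyZ : y ∈ center G
        · exact Or.inl (index_cent_eq_one_iff.2 hyZ)
        · exact Or.inr ((hnc y hyZ).resolve_right (h4 ▸ h3 y hy hyZ))
    · obtain ⟨r, k, u, hr, -, hu, hk, huZ⟩ := exists_primary_not_mem hx
      exact ⟨r, k, u, hr, fun h => hp (h ▸ hr), zpowers_le_cent x hu, huZ, hk⟩
  by_cases hF : ∀ x ∉ center G, ∀ y ∉ center G, centralizer ({x} : Set G) ≤ centralizer {y} →
      centralizer ({x} : Set G) = centralizer {y}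
  · -- all centralizers are strongly self-centralizing
    have hssc : ∀ x ∉ center G, SSC (centralizer ({x} : Set G)) := fun x hx =>
      Iso.ssc ⟨hx, fun y hy hle => hF y hy x hx hle, fun y hy hle => (hF x hx y hy hle).symm⟩
        (h2 x hx)
    have hconj : ∀ x ∉ center G, ∀ y ∉ center G, (centralizer ({y} : Set G)).index =
        (centralizer ({x} : Set G)).index → ∃ g : G, g * y * g⁻¹ ∈ centralizer ({x} : Set G) := by
      intro x hx y hy he
      obtain ⟨r, k, u, hr, hu, huZ, hk, hd⟩ := (hssc x hx).exists_good (h2 x hx)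
      obtain ⟨v, hv, hvZ, j, hj⟩ := exists_noncentral_mem_cent (w := y) hr huZ hk
        (by rw [(hssc x hx).eq u hu huZ, he])
      obtain ⟨g, hg⟩ := exists_conj_mem_of_not_dvd hr hd hj
      refine ⟨g, ?_⟩
      rw [← (hssc x hx).eq _ hg fun h1 => hvZ (by
        have := (inferInstance : (center G).Normal).conj_mem _ h1 g⁻¹
        simpa [mul_assoc] using this), mem_cent, conj_mul, conj_mul, ← mem_cent.1 hv]
    obtain ⟨x, hx⟩ : ∃ x : G, (centralizer ({x} : Set G)).index = n₁ ∧ x ∉ center G := by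
      by_contra hc
      push Not at hc
      refine hns (isSolvable_of_two_sizes (m := n₂) fun y => ?_)
      rcases h y with h3 | h3 | h3
      · exact Or.inl h3
      · exact Or.inr h3
      · exact Or.inl (index_cent_eq_one_iff.2 (hc y h3))
    obtain ⟨y, hy⟩ : ∃ x : G, (centralizer ({x} : Set G)).index = n₂ ∧ x ∉ center G := by
      by_contra hc
      push Not at hc
      refine hns (isSolvable_of_two_sizes (m := n₁) fun y => ?_)
      rcases h y with h3 | h3 | h3
      · exact Or.inl h3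
      · exact Or.inl (index_cent_eq_one_iff.2 (hc y h3))
      · exact Or.inr h3
    have hcov : ∀ z : G, (∃ g : G, g * z * g⁻¹ ∈ centralizer ({x} : Set G)) ∨
        ∃ g : G, g * z * g⁻¹ ∈ centralizer ({y} : Set G) := fun z => by
      by_cases hz : z ∈ center G
      · exact Or.inl ⟨1, by simpa using center_le_cent x hz⟩
      · rcases hnc z hz with h3 | h3
        · exact Or.inr (hconj y hy.2 z hz (h3.trans hy.1.symm))
        · exact Or.inl (hconj x hx.2 z hz (h3.trans hx.1.symm))
    have hne : (centralizer ({x} : Set G)).index ≠ (centralizer ({y} : Set G)).index := by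
      rw [hx.1, hy.1]
      exact hlt.ne'
    obtain ⟨r, k, u, hr, hu, huZ, hk, hd⟩ := (hssc x hx.2).exists_good (h2 x hx.2)
    obtain ⟨r', k', u', hr', hu', huZ', hk', hd'⟩ := (hssc y hy.2).exists_good (h2 y hy.2)
    by_cases hN : normalizer (centralizer ({x} : Set G) : Set G) ≤ centralizer {x}
    · exact hns (isSolvable_of_self_normalizing (hssc x hx.2) (hssc y hy.2) hne hN hr' hu' huZ' hk'
        hd' hcov)
    by_cases hN' : normalizer (centralizer ({y} : Set G) : Set G) ≤ centralizer {y}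
    · exact hns (isSolvable_of_self_normalizing (hssc y hy.2) (hssc x hx.2) hne.symm hN' hr hu huZ
        hk hd fun z => (hcov z).symm)
    exact not_cover_of_lt (center_le_cent x) (center_le_cent y) (lt_of_le_not_ge le_normalizer hN)
      (lt_of_le_not_ge le_normalizer hN') hcov
  push Not at hF
  obtain ⟨x, hx, y, hy, hxy, hne⟩ := hF
  have hlt' : ∀ {a b : G}, a ∉ center G → b ∉ center G → centralizer ({a} : Set G) ≤
      centralizer {b} → centralizer ({a} : Set G) ≠ centralizer {b} →
      (centralizer ({a} : Set G)).index = n₁ ∧ (centralizer ({b} : Set G)).index = n₂ := by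
    intro a b ha hb hle hne
    have h3 : ¬ (centralizer ({a} : Set G)).index ≤ (centralizer ({b} : Set G)).index :=
      fun h3 => hne (cent_eq_of_le_of_index_le hle h3)
    rcases hnc a ha with h4 | h4 <;> rcases hnc b hb with h5 | h5 <;> omega
  obtain ⟨hx1, hy2⟩ := hlt' hx hy hxy hne
  set k := (centralizer ({x} : Set G)).relIndex (centralizer {y}) with hk
  have hkn : k * n₂ = n₁ := by rw [← hx1, ← hy2, relIndex_mul_index hxy]
  have hn2 : 0 < n₂ := hy2 ▸ Nat.pos_of_ne_zero index_ne_zero_of_finite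
  have hk1 : 1 < k := by
    by_contra h3
    have : k * n₂ ≤ 1 * n₂ := Nat.mul_le_mul_right _ (not_lt.1 h3)
    omega
  have htop : ∀ v ∉ center G, (centralizer ({v} : Set G)).index = n₂ →
      Top (centralizer ({v} : Set G)) k := fun v hv hv2 =>
    ⟨fun u hu hle => by
      by_contra h3
      have := (hlt' hv hu hle (Ne.symm h3)).1
      omega, fun u hu hle => by
      by_cases h3 : centralizer ({u} : Set G) = centralizer {v}
      · exact Or.inl (by rw [h3, relIndex_self])
      · refine Or.inr (Nat.eq_of_mul_eq_mul_right hn2 ?_)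
        rw [hkn, ← (hlt' hu hv hle h3).1, ← hv2, relIndex_mul_index hle]⟩
  have hcases : ∀ (v : G) (s i : ℕ), s.Prime → v ∉ center G → orderOf v = s ^ i →
      (centralizer ({v} : Set G)).index = n₂ → (∃ j, k = s ^ j) ∨
      ∀ z : centralizer ({v} : Set G), (centralizer ({z} : Set (centralizer ({v} : Set G)))).index
        = 1 ∨ (centralizer ({z} : Set (centralizer ({v} : Set G)))).index = k := by
    intro v s i hs hv hi hv2
    rcases (htop v hv hv2).cases hs hv hi rfl with h3 | h3 | ⟨q, -, -, h3⟩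
    · exact Or.inl h3
    · exact Or.inr h3
    · exfalso
      refine hcen s q fun r j z hr hrs hrq hj => ?_
      by_contra hz
      obtain ⟨u, hu, huZ, l, hl⟩ := exists_noncentral_mem_cent (w := v) hr hz hj (by
        refine (Nat.factorization_le_iff_dvd index_ne_zero_of_finite index_ne_zero_of_finite).2 ?_ r
        rw [hv2]
        rcases hnc z hz with h4 | h4 <;> rw [h4]
        exact Dvd.intro_left _ hkn)
      exact huZ (h3 r l u hr hrs hrq hu hl)
  obtain ⟨p, j, hp, hkp⟩ : ∃ p j : ℕ, p.Prime ∧ k = p ^ j := by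
    obtain ⟨s, i, v, hs, -, hv, hi, hvZ⟩ := exists_primary_not_mem hy
    have hvy := (htop y hy hy2).max v hvZ (cent_le_cent_of_mem_zpowers hv)
    rcases hcases v s i hs hvZ hi (hvy ▸ hy2) with ⟨j, hj⟩ | h3
    · exact ⟨s, j, hs, hj⟩
    · refine exists_pow_of_two_sizes hk1 h3 ⟨⟨x, hvy.ge (hxy (self_mem_cent x))⟩, ?_⟩
      rw [index_cent_subtype]
      exact congrArg _ hvy
  have := Fact.mk hp
  have hPH : PH p G := by
    refine PH.mk' (fun w v hw hv hc hcop => ?_) (fun w v hw hv r hr hrp => ?_)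
      (two_of_not_cen2 (hcen p))
    · rcases hnc w hw.1 with h3 | h3
      · obtain ⟨hwZ, s, i, hs, hsp, hi⟩ := hw
        obtain ⟨-, t, l, ht, htp, hl⟩ := hv
        rcases hcases w s i hs hwZ hi h3 with ⟨m, hm⟩ | h4
        · exfalso
          have h5 : p ∣ s ^ m := by
            rw [← hm, hkp]
            refine dvd_pow_self p ?_
            rintro rfl
            rw [pow_zero] at hkp
            omega
          exact hsp ((Nat.prime_dvd_prime_iff_eq hp hs).1 (hp.dvd_of_dvd_pow h5)).symm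
        · have h5 := mem_center_of_two_sizes_pow hp hkp h4 ht htp
            (u := ⟨v, mem_cent_iff_commute.2 hc⟩) (by rw [← hl, orderOf_mk])
          exact fun b hb => mem_cent.2 (congrArg Subtype.val (mem_center_iff.1 h5 ⟨b, hb⟩))
      · refine cent_le_of_min hw.1 (fun z hz hle => ?_) (mem_cent_iff_commute.2 hc) hcop
        by_contra h4
        have := (hlt' hz hw.1 hle h4).2
        omega
    · have h3 : n₁.factorization r = n₂.factorization r := by
        rw [← hkn, Nat.factorization_mul (by omega) hn2.ne', Finsupp.add_apply, hkp,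
          hp.factorization_pow, Finsupp.single_eq_of_ne hrp, zero_add]
      rcases hnc w hw.1 with h4 | h4 <;> rcases hnc v hv.1 with h5 | h5 <;> simp [h4, h5, h3]
  obtain ⟨r, l, w, hr, hrp, -, hwZ, hl⟩ := hPH.two p
  obtain ⟨m, hm⟩ := hPH.index_eq_pow ⟨hwZ, r, l, hr, hrp, hl⟩
  obtain ⟨m₂, hm₂⟩ : ∃ m₂, n₂ = p ^ m₂ := by
    rcases hnc w hwZ with h3 | h3
    · exact ⟨m, h3 ▸ hm⟩
    · obtain ⟨m₂, -, h4⟩ := (Nat.dvd_prime_pow hp).1 (hm ▸ h3 ▸ Dvd.intro_left _ hkn)
      exact ⟨m₂, h4⟩
  refine hns (isSolvable_of_index_pow (p := p) fun z _ => ?_)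
  rcases h z with h3 | h3 | h3
  · exact ⟨0, h3⟩
  · exact ⟨m₂, h3.trans hm₂⟩
  · exact ⟨j + m₂, by rw [h3, ← hkn, hkp, hm₂, pow_add]⟩

end Cfsg.Lib.CITCor.Cls
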