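import Cfsg.Agent.CITCor.ClsH2
import Cfsg.Agent.Char.Burnside
import Cfsg.Agent.Solv.BHM

/-!
Groups whose `p`-regular elements have at most two class sizes.
-/

set_option autoImplicit false

namespace Cfsg.Lib.CITCor.Cls

open Subgroup Cfsg.Lib.Solv Cfsg.Lib.Solv.ClassSize Cfsg.Lib.Fus
open scoped commutatorElement Pointwise

universe u

variable {G : Type u} [Group G] [Finite G] {p : ℕ}

omit [Finite G] in
theorem normal_of_le_cen {H : Subgroup G} (h : H ≤ center G) : H.Normal :=
  ⟨fun n hn g => by rw [mem_center_iff.1 (h hn) g, mul_inv_cancel_right]; exact hn⟩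

theorem exists_orderOf_constt {r : ℕ} (hr : r.Prime) (x : G) :
    ∃ k, orderOf (FT.constt {r} x) = r ^ k :=
  (isPiNum_singleton_iff hr (orderOf_pos _).ne').1 (FT.p_elt_constt {r} x)

/-- An element outside `Z` has a primary component outside `Z`. -/
theorem exists_primary_not_mem {Z : Subgroup G} {x : G} (hx : x ∉ Z) :
    ∃ (r k : ℕ) (y : G), r.Prime ∧ r ∣ orderOf x ∧ y ∈ zpowers x ∧ orderOf y = r ^ k ∧ y ∉ Z := by
  by_contra hc
  push Not at hc
  refine hx (FT.mem_of_forall_constt_mem fun r hr hd => ?_)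
  obtain ⟨k, hk⟩ := exists_orderOf_constt hr x
  exact hc r k _ hr hd (FT.cycle_constt _ x) hk

theorem exists_good_of_coprime {x : G} (hx : x ∉ center G) (hxp : (orderOf x).Coprime p) :
    ∃ y ∈ zpowers x, Good p y := by
  obtain ⟨r, k, y, hr, hd, hy, hk, hyZ⟩ := exists_primary_not_mem hx
  refine ⟨y, hy, hyZ, r, k, hr, ?_, hk⟩
  rintro rfl
  exact hr.one_lt.ne' (Nat.Coprime.eq_one_of_dvd hxp.symm hd)

/-- Transfer of a prime between the central quotients of two centralizers. -/
theorem exists_noncentral_mem_cent {w y : G} {r k : ℕ} (hr : r.Prime) (hyZ : y ∉ center G)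
    (hy : orderOf y = r ^ k) (h : (centralizer ({w} : Set G)).index.factorization r ≤
      (centralizer ({y} : Set G)).index.factorization r) :
    ∃ u ∈ centralizer ({w} : Set G), u ∉ center G ∧ ∃ j, orderOf u = r ^ j := by
  have h1 := dvd_relIndex_of_normal hr (self_mem_cent y) hy hyZ
  have h3 := relIndex_mul_index (center_le_cent y)
  have h4 := relIndex_mul_index (center_le_cent w)
  have n1 : (center G).relIndex (centralizer {y}) ≠ 0 := index_ne_zero_of_finite
  have n2 : (center G).relIndex (centralizer {w}) ≠ 0 := index_ne_zero_of_finite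
  have h5 := congrArg (fun n => n.factorization r) (h3.trans h4.symm)
  simp only [Nat.factorization_mul n1 index_ne_zero_of_finite,
    Nat.factorization_mul n2 index_ne_zero_of_finite, Finsupp.add_apply] at h5
  have h6 := (hr.dvd_iff_one_le_factorization n1).1 h1
  exact exists_not_mem_of_dvd_relIndex hr ((hr.dvd_iff_one_le_factorization n2).2 (by omega))

omit [Finite G] in
theorem coprime_orderOf_of_ne {r s j k : ℕ} (hr : r.Prime) (hs : s.Prime) (hrs : r ≠ s) {x y : G}
    (hx : orderOf x = r ^ j) (hy : orderOf y = s ^ k) : (orderOf x).Coprime (orderOf y) := by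
  rw [hx, hy]
  exact Nat.Coprime.pow _ _ ((Nat.coprime_primes hr hs).2 hrs)

theorem PH.mk' (hdiff : ∀ w v : G, Good p w → Good p v → Commute v w →
      (orderOf w).Coprime (orderOf v) → centralizer ({w} : Set G) ≤ centralizer {v})
    (const : ∀ w v : G, Good p w → Good p v → ∀ r : ℕ, r.Prime → r ≠ p →
      (centralizer ({w} : Set G)).index.factorization r =
        (centralizer ({v} : Set G)).index.factorization r)
    (two : ∀ q : ℕ, ∃ (r k : ℕ) (x : G), r.Prime ∧ r ≠ p ∧ r ≠ q ∧ x ∉ center G ∧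
      orderOf x = r ^ k) : PH p G := by
  refine ⟨fun w v hw hv hc => ?_, const, two⟩
  obtain ⟨hwZ, s, i, hs, hsp, hi⟩ := id hw
  obtain ⟨hvZ, t, j, ht, htp, hj⟩ := id hv
  by_cases hst : s = t
  · subst hst
    obtain ⟨r, k, y, hr, hrp, hrs, hyZ, hy⟩ := two s
    obtain ⟨u, hu, huZ, l, hl⟩ := exists_noncentral_mem_cent (w := w) hr hyZ hy
      (const w y hw ⟨hyZ, r, k, hr, hrp, hy⟩ r hr hrp).le
    have hug : Good p u := ⟨huZ, r, l, hr, hrp, hl⟩
    have h1 := hdiff w u hw hug (mem_cent_iff_commute.1 hu)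
      (coprime_orderOf_of_ne hs hr hrs.symm hi hl)
    exact h1.trans (hdiff u v hug hv (mem_cent_iff_commute.1 (h1 (mem_cent_iff_commute.2 hc)))
      (coprime_orderOf_of_ne hr hs hrs hl hj))
  · exact hdiff w v hw hv hc (coprime_orderOf_of_ne hs ht hst hi hj)

/-- All elements of prime power order are central for the primes outside `{p, q}`. -/
def Cen2 (G : Type u) [Group G] (p q : ℕ) : Prop :=
  ∀ (r k : ℕ) (x : G), r.Prime → r ≠ p → r ≠ q → orderOf x = r ^ k → x ∈ center G

omit [Finite G] in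
theorem two_of_not_cen2 (h : ∀ q, ¬ Cen2 G p q) (q : ℕ) :
    ∃ (r k : ℕ) (x : G), r.Prime ∧ r ≠ p ∧ r ≠ q ∧ x ∉ center G ∧ orderOf x = r ^ k := by
  have := h q
  unfold Cen2 at this
  push Not at this
  obtain ⟨r, k, x, hr, hrp, hrq, hx, hxZ⟩ := this
  exact ⟨r, k, x, hr, hrp, hrq, hxZ, hx⟩

theorem Cen2.index_center {q : ℕ} (h : Cen2 G p q) {r : ℕ} (hr : r.Prime)
    (hd : r ∣ (center G).index) : r = p ∨ r = q := by
  by_contra hc
  push Not at hc
  exact not_dvd_index_of_forall_mem hr (fun x k hk => h r k x hr hc.1 hc.2 hk) hd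

theorem Cen2.index_cent {q : ℕ} (h : Cen2 G p q) {r : ℕ} (hr : r.Prime) {x : G}
    (hd : r ∣ (centralizer ({x} : Set G)).index) : r = p ∨ r = q :=
  h.index_center hr (hd.trans (index_dvd_of_le (center_le_cent x)))

omit [Finite G] in
theorem isSolvable_of_quotient (N : Subgroup G) [N.Normal] [Group.IsSolvable N]
    [Group.IsSolvable (G ⧸ N)] : Group.IsSolvable G :=
  Group.isSolvable_of_ker_le_range N.subtype (QuotientGroup.mk' N) (by simp)

theorem Cen2.isSolvable {q : ℕ} (h : Cen2 G p q) : Group.IsSolvable G := by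
  have : Group.IsSolvable (center G) := Group.isSolvable_of_comm mul_comm'
  have : Group.IsSolvable (G ⧸ center G) := by
    classical
    refine Char.isSolvable_of_prime_dvd_card (p := if p.Prime then p else 2)
      (q := if q.Prime then q else 2) (by split_ifs with h; exacts [h, Nat.prime_two])
      (by split_ifs with h; exacts [h, Nat.prime_two]) _ fun r hr hd => ?_
    rcases h.index_center hr hd with rfl | rfl
    · exact Or.inl (by rw [if_pos hr])
    · exact Or.inr (by rw [if_pos hr])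
  exact isSolvable_of_quotient (center G)

theorem isSolvable_of_index_pow [hp : Fact p.Prime]
    (h : ∀ x : G, (orderOf x).Coprime p → ∃ k, (centralizer ({x} : Set G)).index = p ^ k) :
    Group.IsSolvable G := by
  obtain ⟨H, hH, -, ⟨k, hk⟩, hN⟩ := exists_abelian_complement h
  have : Group.IsSolvable (pCore p G) := by
    have := (pCore_isPGroup p G).isNilpotent
    infer_instance
  have : Group.IsSolvable (pCore p G ⊔ H : Subgroup G) := by
    refine isSolvable_of_map_mk' (pCore p G) _ ?_
    rw [Subgroup.map_sup, (Subgroup.map_eq_bot_iff _).2 (by simp), bot_sup_eq]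
    exact Group.isSolvable_of_comm mul_comm'
  have : Group.IsSolvable (G ⧸ (pCore p G ⊔ H)) := by
    obtain ⟨j, -, hj⟩ := (Nat.dvd_prime_pow hp.out).1
      (hk ▸ index_dvd_of_le (le_sup_right : H ≤ pCore p G ⊔ H))
    have := (IsPGroup.of_card (p := p) (G := G ⧸ (pCore p G ⊔ H)) hj).isNilpotent
    infer_instance
  exact isSolvable_of_quotient (pCore p G ⊔ H)

/-- The structure of groups whose `p`-regular classes have at most two sizes. -/
theorem struct_two [hp : Fact p.Prime] {m : ℕ} (h : ∀ x : G, (orderOf x).Coprime p →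
      (centralizer ({x} : Set G)).index = 1 ∨ (centralizer ({x} : Set G)).index = m) :
    (∀ x : G, (orderOf x).Coprime p → ∃ k, (centralizer ({x} : Set G)).index = p ^ k) ∨
      ∃ q, q.Prime ∧ q ≠ p ∧ Cen2 G p q := by
  have hm : ∀ x : G, (orderOf x).Coprime p → x ∉ center G →
      (centralizer ({x} : Set G)).index = m := fun x hx hxZ =>
    (h x hx).resolve_left fun h1 => hxZ (index_cent_eq_one_iff.1 h1)
  by_cases h2 : ∀ q, ¬ Cen2 G p q
  · left
    have hPH : PH p G := by
      refine PH.mk' (fun w v hw hv hc hcop => ?_) (fun w v hw hv r _ _ => by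
        rw [hm w hw.coprime hw.1, hm v hv.coprime hv.1]) (two_of_not_cen2 h2)
      have h1 := cent_mul_of_coprime hc.symm hcop
      have h3 : (orderOf (w * v)).Coprime p :=
        (hw.coprime.mul_left hv.coprime).coprime_dvd_left hc.symm.orderOf_mul_dvd_mul_orderOf
      have h4 : w * v ∉ center G := fun h4 => hw.1 (by
        rw [← cent_eq_top_iff, h1] at h4
        exact cent_eq_top_iff.1 (eq_top_iff.2 (h4.ge.trans inf_le_left)))
      have h5 : centralizer ({w * v} : Set G) = centralizer {w} :=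
        cent_eq_of_le_of_index_le (h1 ▸ inf_le_left) (by rw [hm _ h3 h4, hm w hw.coprime hw.1])
      rw [← h5, h1]
      exact inf_le_right
    intro x hx
    by_cases hxZ : x ∈ center G
    · exact ⟨0, by rw [pow_zero, index_cent_eq_one_iff.2 hxZ]⟩
    · obtain ⟨y, -, hy⟩ := exists_good_of_coprime hxZ hx
      rw [hm x hx hxZ, ← hm y hy.coprime hy.1]
      exact hPH.index_eq_pow hy
  · push Not at h2
    obtain ⟨q, hq⟩ := h2
    by_cases hqp : q.Prime ∧ q ≠ p
    · exact Or.inr ⟨q, hqp.1, hqp.2, hq⟩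
    · refine Or.inl fun x hx => ⟨0, ?_⟩
      rw [pow_zero, index_cent_eq_one_iff]
      by_contra hxZ
      obtain ⟨y, -, hyZ, s, k, hs, hsp, hk⟩ := exists_good_of_coprime hxZ hx
      exact hyZ (hq s k y hs hsp (fun h => hqp ⟨h ▸ hs, h ▸ hsp⟩) hk)

theorem isSolvable_of_two [hp : Fact p.Prime] {m : ℕ} (h : ∀ x : G, (orderOf x).Coprime p →
      (centralizer ({x} : Set G)).index = 1 ∨ (centralizer ({x} : Set G)).index = m) :
    Group.IsSolvable G := by
  rcases struct_two h with h1 | ⟨q, -, -, h1⟩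
  · exact isSolvable_of_index_pow h1
  · exact h1.isSolvable

/-- The direct decomposition `G = PQ × A`. -/
theorem Cen2.decomp [hp : Fact p.Prime] {q : ℕ} [hq : Fact q.Prime] (hqp : q ≠ p)
    (h : Cen2 G p q) (P : Sylow p G) (Q : Sylow q G) : ∃ A : Subgroup G, A ≤ center G ∧
      Nat.card ↥((P : Subgroup G) ⊔ (Q : Subgroup G)) = Nat.card P * Nat.card Q ∧
      ((P : Subgroup G) ⊔ (Q : Subgroup G)).Normal ∧
      ((P : Subgroup G) ⊔ (Q : Subgroup G)) ⊓ A = ⊥ ∧
      ((P : Subgroup G) ⊔ (Q : Subgroup G)) ⊔ A = ⊤ := by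
  let A := piCore ({p, q}ᶜ : Set ℕ) G
  have hA : IsPiNum ({p, q}ᶜ : Set ℕ) (Nat.card A) := isPiNum_card_piCore _ G
  have hAZ : A ≤ center G := le_of_forall_prime_pow_mem fun r hr k x hx hk => by
    rcases k with _ | k
    · rw [pow_zero, orderOf_eq_one_iff] at hk
      rw [hk]
      exact one_mem _
    · have := hA.orderOf_of_mem hx r hr (by rw [hk]; exact dvd_pow_self r k.succ_ne_zero)
      simp only [Set.mem_compl_iff, Set.mem_insert_iff, Set.mem_singleton_iff, not_or] at this
      exact h r _ x hr this.1 this.2 hk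
  have hAi : IsPiNum ({p, q} : Set ℕ) A.index := fun r hr hd => by
    by_contra hc
    refine not_dvd_index_of_forall_mem hr (fun x k hk => ?_) hd
    simp only [Set.mem_insert_iff, Set.mem_singleton_iff, not_or] at hc
    have hxZ := h r k x hr hc.1 hc.2 hk
    refine le_piCore (N := zpowers x) (normal_of_le_cen (zpowers_le.2 hxZ)) ?_ (mem_zpowers x)
    rw [Nat.card_zpowers, hk]
    exact IsPiNum.prime_pow hr (by simp [hc.1, hc.2]) k
  obtain ⟨K, hK⟩ := exists_right_complement'_of_coprime (N := A) (hAi.coprime hA).symm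
  have hKn : K.Normal := by
    rw [← normalizer_eq_top_iff, eq_top_iff, ← hK.sup_eq_top]
    exact sup_le (hAZ.trans (center_le_normalizer _)) le_normalizer
  have hKi : K.index = Nat.card A := hK.index_eq_card
  have hKc : Nat.card K = A.index := hK.symm.index_eq_card.symm
  have hPK : (P : Subgroup G) ≤ K := le_of_isPiNum_of_index (π := {p, q})
    (isPiNum_card_of_isPGroup (by simp) P.isPGroup') (hKi ▸ hA)
  have hQK : (Q : Subgroup G) ≤ K := le_of_isPiNum_of_index (π := {p, q})
    (isPiNum_card_of_isPGroup (by simp) Q.isPGroup') (hKi ▸ hA)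
  have hsup : (P : Subgroup G) ⊔ Q = K := by
    refine le_antisymm (sup_le hPK hQK) (relIndex_eq_one.1 ?_)
    by_contra h1
    obtain ⟨r, hr, hd⟩ := Nat.exists_prime_and_dvd h1
    have h2 := hd.trans (relIndex_dvd_index_of_le (sup_le hPK hQK))
    rcases (hKc ▸ hAi) r hr (hd.trans (relIndex_dvd_card _ _)) with rfl | rfl
    · exact not_dvd_index_of_sylow_le P le_sup_left h2
    · exact not_dvd_index_of_sylow_le Q le_sup_right h2
  rw [hsup]
  refine ⟨A, hAZ, ?_, hKn, by rw [inf_comm]; exact hK.disjoint.eq_bot,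
    by rw [sup_comm]; exact hK.sup_eq_top⟩
  have hcop : (Nat.card P).Coprime (Nat.card Q) :=
    IsPGroup.coprime_card_of_ne p q hqp.symm _ _ P.isPGroup' Q.isPGroup'
  obtain ⟨m, hm⟩ := hcop.mul_dvd_of_dvd_of_dvd (card_dvd_of_le hPK) (card_dvd_of_le hQK)
  by_cases h1 : m = 1
  · rw [hm, h1, mul_one]
  exfalso
  obtain ⟨r, hr, hd⟩ := Nat.exists_prime_and_dvd h1
  have hG := card_subgroup_dvd_card K
  rcases (hKc ▸ hAi) r hr (hm ▸ hd.mul_left _) with rfl | rfl
  · rw [hm, ← card_mul_index (P : Subgroup G), mul_assoc] at hG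
    exact P.not_dvd_index ((hd.mul_left _).trans (Nat.dvd_of_mul_dvd_mul_left Nat.card_pos hG))
  · rw [hm, ← card_mul_index (Q : Subgroup G), mul_comm (Nat.card P), mul_assoc] at hG
    exact Q.not_dvd_index ((hd.mul_left _).trans (Nat.dvd_of_mul_dvd_mul_left Nat.card_pos hG))

end Cfsg.Lib.CITCor.Cls
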