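import Cfsg.Agent.CITCor.NatMod
import Cfsg.Agent.CITCor.MTen
import Cfsg.Agent.Class.Triangle

/-!
# Groups critical with respect to the element orders of the alternating group of degree six
-/

set_option autoImplicit false

universe u

namespace Cfsg.Lib.CITCor

open Cfsg.Agent Cfsg.Lib.Class Cfsg.Lib.Known.GL2 Subgroup
open scoped MatrixGroups

variable {G : Type u} [Group G] {Q : Subgroup G} [Q.Normal] {K : Type*} [Field K]
  {e : G ⧸ Q ≃* SL(2, K)} {k : ℕ} {ψ : G → Fin k → Fin 2 → K}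

theorem slU_one_mul_self (h2 : (2 : K) = 0) : slU (1 : K) * slU 1 = 1 := by
  rw [← slU_add, one_add_one_eq_two, h2, slU_zero]

theorem slU_one_mulVec (v : Fin 2 → K) :
    (slU (1 : K) : Matrix (Fin 2) (Fin 2) K).mulVec v = ![v 0 + v 1, v 1] := by
  ext j
  fin_cases j <;> simp [Matrix.mulVec, dotProduct, Fin.sum_univ_two]

/-- The matrix of an affine map of the plane. -/
def affSL (m : SL(2, K)) (c : Fin 2 → K) : SL(3, K) :=
  ⟨!![m 0 0, m 0 1, c 0; m 1 0, m 1 1, c 1; 0, 0, 1], by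
    have := m.2
    rw [Matrix.det_fin_two] at this
    simpa [Matrix.det_fin_three] using this⟩

theorem coe_affSL (m : SL(2, K)) (c : Fin 2 → K) : (affSL m c : Matrix (Fin 3) (Fin 3) K) =
    !![m 0 0, m 0 1, c 0; m 1 0, m 1 1, c 1; 0, 0, 1] := rfl

theorem affSL_mul (m m' : SL(2, K)) (c c' : Fin 2 → K) : affSL m c * affSL m' c' =
    affSL (m * m') ((m : Matrix (Fin 2) (Fin 2) K).mulVec c' + c) := by
  ext j l
  rw [Matrix.SpecialLinearGroup.coe_mul, coe_affSL, coe_affSL, coe_affSL]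
  fin_cases j <;> fin_cases l <;>
    simp [Matrix.mul_apply, Fin.sum_univ_three, Fin.sum_univ_two]

theorem affSL_eq_one {m : SL(2, K)} {c : Fin 2 → K} (h : affSL m c = 1) : m = 1 ∧ c = 0 := by
  have h1 : ∀ j l, (affSL m c : Matrix (Fin 3) (Fin 3) K) j l =
      (1 : Matrix (Fin 3) (Fin 3) K) j l := fun j l => by rw [h]; rfl
  rw [coe_affSL] at h1
  constructor
  · ext j l
    fin_cases j <;> fin_cases l
    · simpa using h1 0 0
    · simpa using h1 0 1
    · simpa using h1 1 0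
    · simpa using h1 1 1
  · ext j
    fin_cases j
    · simpa using h1 0 2
    · simpa using h1 1 2

theorem exists_affSL {M : SL(3, K)} (h0 : (M : Matrix (Fin 3) (Fin 3) K) 2 0 = 0)
    (h1 : (M : Matrix (Fin 3) (Fin 3) K) 2 1 = 0) (h2 : (M : Matrix (Fin 3) (Fin 3) K) 2 2 = 1) :
    ∃ m c, affSL m c = M := by
  refine ⟨⟨!![M 0 0, M 0 1; M 1 0, M 1 1], ?_⟩, ![M 0 2, M 1 2], ?_⟩
  · have := M.2
    rw [Matrix.det_fin_three] at this
    simp only [h0, h1, h2] at this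
    simpa [Matrix.det_fin_two] using this
  · refine Subtype.ext ((coe_affSL _ _).trans ?_)
    ext j l
    fin_cases j <;> fin_cases l <;> simp [h0, h1, h2]

theorem NatCoord.exists_invol_lift [Finite K] (h : NatCoord Q e ψ) (h2 : (2 : K) = 0) {x : G ⧸ Q}
    (hx1 : x ≠ 1) (hx : x * x = 1) : ∃ t : G, (t : G ⧸ Q) = x ∧ t * t = 1 := by
  have hK : ∀ t : K, t + t = 0 := fun t => by rw [← two_mul, h2, zero_mul]
  have hZ : e x ∉ (slLin K).Z := fun h =>
    hx1 (e.map_eq_one_iff.1 ((mem_Z_SL_iff_of_char_two h2).1 h))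
  have hZ' : slU (1 : K) ∉ (slLin K).Z := fun h => by
    simpa using congrArg (fun g : SL(2, K) => g 0 1) ((mem_Z_SL_iff_of_char_two h2).1 h)
  obtain ⟨c, hc⟩ := isConj_iff.1 (isConj_of_trace_SL_char_two h2 hZ' hZ (by
    rw [(slLin K).trace_eq_zero_of_sq_mem_Z (by rw [slU_one_mul_self h2]; exact one_mem _) hZ',
      (slLin K).trace_eq_zero_of_sq_mem_Z (by rw [← map_mul, hx, map_one]; exact one_mem _) hZ]))
  obtain ⟨c, rfl⟩ := e.surjective c
  obtain ⟨c, rfl⟩ := QuotientGroup.mk_surjective c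
  obtain ⟨t, ht⟩ := e.surjective (slU 1)
  obtain ⟨t, rfl⟩ := QuotientGroup.mk_surjective t
  have h1 : t * t ∈ Q := (QuotientGroup.eq_one_iff _).1 (e.map_eq_one_iff.1 (by
    rw [QuotientGroup.mk_mul, map_mul, ht, slU_one_mul_self h2]))
  obtain ⟨q, hq, h3⟩ := h.surj fun i => ![0, ψ (t * t) i 0]
  have h4 := (inferInstance : Q.Normal).conj_mem q hq t
  have h5 : q * t * (q * t) = 1 := by
    rw [show q * t * (q * t) = q * (t * q * t⁻¹) * (t * t) by group]
    refine h.inj _ (Q.mul_mem (Q.mul_mem hq h4) h1) (funext fun i => ?_)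
    have h6 := congrFun (h.conj t _ h1 i) 0
    rw [show t * (t * t) * t⁻¹ = t * t by group, ht, slU_one_mulVec] at h6
    simp at h6
    rw [h.add _ (Q.mul_mem hq h4) _ h1, h.add _ hq _ h4, Pi.add_apply, Pi.add_apply, h.conj t q hq,
      h3, ht, slU_one_mulVec]
    ext j
    fin_cases j <;> simp [hK, h6]
  refine ⟨c * (q * t) * c⁻¹, e.injective ?_, by rw [conj_mul, h5]; group⟩
  rw [← hc, ← ht]
  simp [(QuotientGroup.eq_one_iff q).2 hq]

theorem NatCoord.exists_sq (h : NatCoord Q e ψ) (h2 : (2 : K) = 0) (i : Fin k) :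
    ∃ g : G, g * g ∈ Q ∧ ψ (g * g) i ≠ 0 := by
  have hK : ∀ t : K, t + t = 0 := fun t => by rw [← two_mul, h2, zero_mul]
  obtain ⟨t, ht⟩ := e.surjective (slU 1)
  obtain ⟨t, rfl⟩ := QuotientGroup.mk_surjective t
  have h1 : t * t ∈ Q := (QuotientGroup.eq_one_iff _).1 (e.map_eq_one_iff.1 (by
    rw [QuotientGroup.mk_mul, map_mul, ht, slU_one_mul_self h2]))
  by_cases h0 : ψ (t * t) i = 0
  · obtain ⟨q, hq, h3⟩ := h.surj fun _ => ![0, 1]
    have h4 := (inferInstance : Q.Normal).conj_mem q hq t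
    have h5 : q * t * (q * t) = q * (t * q * t⁻¹) * (t * t) := by group
    refine ⟨q * t, h5 ▸ Q.mul_mem (Q.mul_mem hq h4) h1, fun h6 => ?_⟩
    rw [h5, h.add _ (Q.mul_mem hq h4) _ h1, h.add _ hq _ h4, Pi.add_apply, Pi.add_apply,
      h.conj t q hq, h3, ht, h0, slU_one_mulVec] at h6
    simpa using congrFun h6 0
  · exact ⟨t, h1, h0⟩

/-- A split extension of the natural module is the affine group. -/
theorem NatCoord.nonempty_equiv_affine (h : NatCoord Q e ψ) (i : Fin k)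
    (hi : ∀ u ∈ Q, ψ u i = 0 → u = 1) (s : G ⧸ Q →* G) (hs : ∀ x, (s x : G ⧸ Q) = x) :
    Nonempty (G ≃* ↥(closure {M : SL(3, K) | (M : Matrix (Fin 3) (Fin 3) K) 2 0 = 0 ∧
      (M : Matrix (Fin 3) (Fin 3) K) 2 1 = 0 ∧ (M : Matrix (Fin 3) (Fin 3) K) 2 2 = 1})) := by
  have hq : ∀ g : G, g * (s g)⁻¹ ∈ Q := fun g => (QuotientGroup.eq_one_iff _).1 (by
    rw [QuotientGroup.mk_mul, QuotientGroup.mk_inv, hs, mul_inv_cancel])
  let Φ : G →* SL(3, K) := MonoidHom.mk' (fun g => affSL (e g) (ψ (g * (s g)⁻¹) i)) fun a b => by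
    rw [affSL_mul, ← h.conj a _ (hq b), ← Pi.add_apply,
      ← h.add _ ((inferInstance : Q.Normal).conj_mem _ (hq b) a) _ (hq a), QuotientGroup.mk_mul,
      map_mul, map_mul]
    congr 2
    group
  have hΦ : ∀ g, Φ g = affSL (e g) (ψ (g * (s g)⁻¹) i) := fun _ => rfl
  have hinj : Function.Injective Φ := by
    rw [injective_iff_map_eq_one]
    intro g hg
    obtain ⟨h2, h3⟩ := affSL_eq_one hg
    have h4 := hi _ (hq g) h3
    rwa [e.map_eq_one_iff.1 h2, map_one, inv_one, mul_one] at h4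
  have hr : {M : SL(3, K) | (M : Matrix (Fin 3) (Fin 3) K) 2 0 = 0 ∧
      (M : Matrix (Fin 3) (Fin 3) K) 2 1 = 0 ∧ (M : Matrix (Fin 3) (Fin 3) K) 2 2 = 1} =
      Φ.range := by
    ext M
    constructor
    · rintro ⟨h0, h1, h2⟩
      obtain ⟨m, c, rfl⟩ := exists_affSL h0 h1 h2
      obtain ⟨x, rfl⟩ := e.surjective m
      obtain ⟨q, hq', h3⟩ := h.surj fun _ => c
      have h4 : ((q * s x : G) : G ⧸ Q) = x := by
        rw [QuotientGroup.mk_mul, (QuotientGroup.eq_one_iff q).2 hq', one_mul, hs]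
      exact ⟨q * s x, by rw [hΦ, h4, mul_inv_cancel_right, h3]⟩
    · rintro ⟨g, rfl⟩
      exact ⟨rfl, rfl, rfl⟩
  rw [hr, closure_eq]
  exact ⟨MonoidHom.ofInjective hinj⟩

theorem critical_five [Finite G] [Gate.CITStrong.{u}]
    (h1 : Set.range (orderOf : G → ℕ) = ({1, 2, 3, 4, 5} : Set ℕ))
    (hc : ∀ (N : Subgroup G) [N.Normal], N ≠ ⊥ →
      Set.range (orderOf : G ⧸ N → ℕ) ≠ ({1, 2, 3, 4, 5} : Set ℕ)) :
    Nonempty (G ≃* alternatingGroup (Fin 6)) ∨
      ∃ (F : Type) (_ : Field F) (_ : Fintype F), Fintype.card F = 4 ∧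
        Nonempty (G ≃* ↥(closure {M : SL(3, F) | (M : Matrix (Fin 3) (Fin 3) F) 2 0 = 0 ∧
          (M : Matrix (Fin 3) (Fin 3) F) 2 1 = 0 ∧ (M : Matrix (Fin 3) (Fin 3) F) 2 2 = 1})) := by
  have ex : ∀ n ∈ ({1, 2, 3, 4, 5} : Set ℕ), ∃ g : G, orderOf g = n := fun n hn => by
    rwa [← h1] at hn
  have hm : ∀ g : G, orderOf g ∈ ({1, 2, 3, 4, 5} : Set ℕ) := fun g => h1 ▸ ⟨g, rfl⟩
  have h5 : ∀ g : G, orderOf g ≤ 5 := fun g => by
    rcases hm g with h | h | h | h | h <;> simp_all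
  obtain ⟨a, ha⟩ := ex 3 (by simp)
  obtain ⟨b, hb⟩ := ex 5 (by simp)
  obtain ⟨c, hc4⟩ := ex 4 (by simp)
  rcases cases_of_orderOf_le_five h5 ((by norm_num : 2 ∣ 4).trans (hc4 ▸ orderOf_dvd_natCard c))
    (ha ▸ orderOf_dvd_natCard a) (hb ▸ orderOf_dvd_natCard b) with h | ⟨⟨-, hQ2⟩, ⟨f⟩⟩
  · exact Or.inl h
  set Q := pCore 2 G
  let _ := Fintype.ofFinite (GaloisField 2 2)
  have hF : Fintype.card (GaloisField 2 2) = 4 := by
    rw [← Nat.card_eq_fintype_card, GaloisField.card 2 2 two_ne_zero]; rfl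
  have h2 : (2 : GaloisField 2 2) = 0 := CharTwo.two_eq_zero
  obtain ⟨e'⟩ := S0252.result hF
  let e := f.trans (e'.symm.trans (equivPSL h2).symm)
  have hQ : IsPGroup 2 Q := fun q => ⟨1, Subtype.ext (hQ2 _ q.2)⟩
  have nQ : ∀ g : G, ¬ orderOf g ∣ 2 → g ∉ Q := fun g hg h => hg (orderOf_dvd_of_pow_eq_one (hQ2 g h))
  have ha' : F3 Q a := ⟨ha ▸ pow_orderOf_eq_one a, fun q hq e => by
    by_contra hq1
    have h6 := h5 (a * q)
    rw [Commute.orderOf_mul_eq_mul_orderOf_of_coprime (mul_inv_eq_iff_eq_mul.1 e)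
      (by rw [ha, orderOf_eq_prime (hQ2 q hq) hq1]; norm_num), ha,
      orderOf_eq_prime (hQ2 q hq) hq1] at h6
    omega⟩
  obtain ⟨k, ψ, h⟩ := ha'.exists_natCoord h2 hF.ge e hQ (nQ a (by rw [ha]; norm_num))
  have lift : ∀ (g : G) (p : ℕ), 3 ≤ p → p.Prime → f g ≠ 1 → f g ^ p = 1 → g ^ p = 1 :=
    fun g p h3 hp g1 gp => by
      have := Fact.mk hp
      have h6 : p ∣ orderOf g := by
        rw [← orderOf_eq_prime gp g1, f.orderOf_eq]
        exact orderOf_map_dvd (QuotientGroup.mk' Q) g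
      obtain ⟨m, hm⟩ := h6
      have h7 := h5 g
      have h8 := orderOf_pos g
      obtain rfl : m = 1 := by
        rcases m with _ | _ | m
        · omega
        · rfl
        · nlinarith
      rw [← mul_one p, ← hm, pow_orderOf_eq_one]
  obtain ⟨i⟩ : Nonempty (Fin k) := by
    by_contra h0
    rw [not_nonempty_iff] at h0
    have h6 : ∀ n, f c ^ n = 1 → 4 ∣ n := fun n hn => hc4 ▸ orderOf_dvd_of_pow_eq_one (h.inj _
      ((QuotientGroup.eq_one_iff _).1 (f.map_eq_one_iff.1 (by rw [← hn, ← map_pow]; rfl)))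
      (Subsingleton.elim _ _))
    rcases pow_of_equiv_A5 ⟨MulEquiv.refl _⟩ (f c) with h7 | h7 | h7 <;>
      exact absurd (h6 _ h7) (by norm_num)
  have := h.sub_normal {i}
  have hN : h.sub {i} = ⊥ := by
    by_contra h0
    refine hc _ h0 (Set.Subset.antisymm ?_ ?_)
    · rintro _ ⟨x, rfl⟩
      obtain ⟨g, rfl⟩ := QuotientGroup.mk_surjective x
      have h6 := (Nat.le_of_dvd (orderOf_pos g)
        (orderOf_map_dvd (QuotientGroup.mk' (h.sub {i})) g)).trans (h5 g)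
      have h7 := orderOf_pos (g : G ⧸ h.sub {i})
      change orderOf (g : G ⧸ h.sub {i}) ≤ 5 at h6
      generalize orderOf (g : G ⧸ h.sub {i}) = m at h6 h7
      interval_cases m <;> simp
    · obtain ⟨g, hg, hg'⟩ := h.exists_sq h2 i
      have h4 : orderOf (g : G ⧸ h.sub {i}) = 2 ^ (1 + 1) := orderOf_eq_prime_pow
        (fun h6 => hg' (((QuotientGroup.eq_one_iff _).1 (by
          rw [← h6, pow_one, sq]; rfl) : g * g ∈ h.sub {i}).2 i rfl))
        (by
          rw [← QuotientGroup.mk_pow, show 2 ^ (1 + 1) = 2 * 2 by rfl, pow_mul, sq g, hQ2 _ hg,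
            QuotientGroup.mk_one])
      have h6 : ∀ (x : G) (p : ℕ), p.Prime → p ≠ 2 → orderOf x = p →
          p ∈ Set.range (orderOf : G ⧸ h.sub {i} → ℕ) := fun x p hp hp2 hx => by
        have := Fact.mk hp
        refine ⟨x, orderOf_eq_prime (by
          rw [← QuotientGroup.mk_pow, ← hx, pow_orderOf_eq_one, QuotientGroup.mk_one]) fun h7 =>
            nQ x (fun h8 => hp2 ?_) ((QuotientGroup.eq_one_iff _).1 h7).1⟩
        exact (Nat.prime_dvd_prime_iff_eq hp Nat.prime_two).1 (hx ▸ h8)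
      rintro _ (rfl | rfl | rfl | rfl | rfl)
      · exact ⟨1, orderOf_one⟩
      · exact ⟨(g : G ⧸ h.sub {i}) ^ 2, by rw [orderOf_pow, h4]; rfl⟩
      · exact h6 a 3 Nat.prime_three (by norm_num) ha
      · exact ⟨g, h4⟩
      · exact h6 b 5 Nat.prime_five (by norm_num) hb
  obtain ⟨r1, r2, r3, r4, r5, r6⟩ := Tri.rel5
  obtain ⟨t, ht, ht2⟩ := h.exists_invol_lift h2 (x := f.symm Tri.a5)
    (fun h0 => r4 (f.symm.map_eq_one_iff.1 h0)) (by rw [← map_mul, r1, map_one])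
  obtain ⟨d, hd⟩ := QuotientGroup.mk_surjective (f.symm Tri.b5)
  have ft : f t = Tri.a5 := by rw [ht, f.apply_symm_apply]
  have fd : f d = Tri.b5 := by rw [hd, f.apply_symm_apply]
  have ftd : f (t * d : G) = Tri.a5 * Tri.b5 := by rw [QuotientGroup.mk_mul, map_mul, ft, fd]
  obtain ⟨φ, φa, φb⟩ := Tri.exists_hom_A5 ht2
    (lift d 3 le_rfl Nat.prime_three (fd ▸ r5) (fd ▸ r2))
    (lift (t * d) 5 (by norm_num) Nat.prime_five (ftd ▸ r6) (ftd ▸ r3))
  have h7 : f.toMonoidHom.comp ((QuotientGroup.mk' Q).comp φ) = MonoidHom.id _ :=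
    MonoidHom.eq_of_eqOn_dense Tri.closure5 (by
      rintro _ (rfl | rfl)
      · exact (congrArg (fun x : G => f x) φa).trans ft
      · exact (congrArg (fun x : G => f x) φb).trans fd)
  refine Or.inr ⟨_, _, _, hF, h.nonempty_equiv_affine i (fun u hu h0 => ?_)
    (φ.comp f.toMonoidHom) fun x => f.injective (DFunLike.congr_fun h7 (f x))⟩
  rw [← mem_bot, ← hN]
  exact ⟨hu, fun j hj => hj ▸ h0⟩

end Cfsg.Lib.CITCor
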