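/-
Groups of automorphisms of order prime to three of a group of order nine.
-/
import Mathlib.Tactic
import Mathlib.GroupTheory.PGroup
import Mathlib.GroupTheory.SpecificGroups.Cyclic

set_option autoImplicit false

namespace Cfsg.Lib.CITCor.Nine

open Subgroup

variable {R : Type*} [Group R] [Finite R]

/-- The linear map of the plane with the given images of the basis. -/
def lin (a b v : ZMod 3 × ZMod 3) : ZMod 3 × ZMod 3 :=
  (v.1 * a.1 + v.2 * b.1, v.1 * a.2 + v.2 * b.2)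

theorem lin_cases : ∀ a b : ZMod 3 × ZMod 3, (∃ v, v ≠ 0 ∧ lin a b v = 0) ∨
    (∀ v, (lin a b)^[6] v = v) ∨ ∃ u v, ∀ w, w = 0 ∨ ∃ i : Fin 8, (lin a b)^[i] u = w ∨
      (lin a b)^[i] v = w := by
  decide +kernel

theorem exists_coord (hc : ∀ a b : R, a * b = b * a) (hR : Nat.card R = 9) {x y : R}
    (hx : x ^ 3 = 1) (hy : y ^ 3 = 1)
    (h : ∀ i j : ℕ, i < 3 → j < 3 → x ^ i * y ^ j = 1 → i = 0 ∧ j = 0) :
    ∃ φ : Multiplicative (ZMod 3 × ZMod 3) ≃* R,
      ∀ v, φ (Multiplicative.ofAdd v) = x ^ v.1.val * y ^ v.2.val := by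
  let f : Multiplicative (ZMod 3 × ZMod 3) →* R :=
    MonoidHom.mk' (fun v => x ^ v.toAdd.1.val * y ^ v.toAdd.2.val) fun v w => by
      simp only [toAdd_mul, Prod.fst_add, Prod.snd_add, ZMod.val_add]
      rw [← pow_eq_pow_mod _ hx, ← pow_eq_pow_mod _ hy, pow_add, pow_add, mul_assoc, mul_assoc,
        ← mul_assoc (x ^ w.toAdd.1.val), hc (x ^ w.toAdd.1.val), mul_assoc]
  have hf : Function.Injective f := (injective_iff_map_eq_one f).2 fun v hv => by
    obtain ⟨h1, h2⟩ := h _ _ (ZMod.val_lt _) (ZMod.val_lt _) hv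
    exact Multiplicative.toAdd.injective
      (Prod.ext ((ZMod.val_eq_zero _).1 h1) ((ZMod.val_eq_zero _).1 h2))
  exact ⟨MulEquiv.ofBijective f ((Nat.bijective_iff_injective_and_card f).2 ⟨hf, by simp [hR]⟩),
    fun v => rfl⟩

theorem pow_six_or (hR : Nat.card R = 9) (e : MulAut R) :
    e ^ 6 = 1 ∨ ∃ u v : R, ∀ w, w = 1 ∨ ∃ i : ℕ, (e ^ i) u = w ∨ (e ^ i) v = w := by
  have : Fact (Nat.Prime 3) := ⟨Nat.prime_three⟩
  have hc := (IsPGroup.isMulCommutative_of_card_eq_prime_sq (p := 3) hR).is_comm.comm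
  by_cases hcy : IsCyclic R
  · left
    rw [← orderOf_dvd_iff_pow_eq_one]
    have := IsCyclic.card_mulAut (G := R)
    rw [hR, show Nat.totient 9 = 6 by decide] at this
    exact this ▸ orderOf_dvd_natCard e
  have h3 : ∀ w : R, w ^ 3 = 1 := fun w => by
    have h1 : orderOf w ∣ 3 ^ 2 := (orderOf_dvd_natCard w).trans hR.dvd
    obtain ⟨k, hk, h2⟩ := (Nat.dvd_prime_pow Nat.prime_three).1 h1
    rw [← orderOf_dvd_iff_pow_eq_one, h2]
    interval_cases k
    · simp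
    · simp
    · exact absurd (isCyclic_of_orderOf_eq_card w (h2.trans hR.symm)) hcy
  have : Nontrivial R := Finite.one_lt_card_iff_nontrivial.1 (by omega)
  obtain ⟨x, hx⟩ := exists_ne (1 : R)
  obtain ⟨y, hy⟩ : ∃ y, y ∉ zpowers x := by
    by_contra! c
    exact hcy ⟨x, c⟩
  obtain ⟨φ, -⟩ := exists_coord hc hR (h3 x) (h3 y) fun i j hi hj h => by
    have h1 : y ^ j ∈ zpowers x := by
      rw [eq_inv_of_mul_eq_one_right h]
      exact inv_mem (pow_mem (mem_zpowers x) i)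
    have hj : j = 0 := by
      interval_cases j
      · rfl
      · exact absurd (by simpa using h1) hy
      · refine absurd ?_ hy
        have := pow_mem h1 2
        rwa [← pow_mul, show 2 * 2 = 3 + 1 from rfl, pow_succ, h3, one_mul] at this
    subst hj
    rw [pow_zero, mul_one, ← orderOf_dvd_iff_pow_eq_one, orderOf_eq_prime (h3 x) hx] at h
    omega
  let g : ZMod 3 × ZMod 3 →+ ZMod 3 × ZMod 3 := AddMonoidHom.mk'
    (fun v => (φ.symm (e (φ (Multiplicative.ofAdd v)))).toAdd) fun v w => by simp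
  have hg : ∀ v, lin (g (1, 0)) (g (0, 1)) v = g v := fun v => by
    have : v = v.1 • ((1, 0) : ZMod 3 × ZMod 3) + v.2 • (0, 1) := by simp
    conv_rhs => rw [this, map_add, ZMod.map_smul, ZMod.map_smul]
    rfl
  have hi : ∀ (i : ℕ) v, φ (Multiplicative.ofAdd ((lin (g (1, 0)) (g (0, 1)))^[i] v)) =
      (e ^ i) (φ (Multiplicative.ofAdd v)) := fun i v => by
    induction i with
    | zero => rfl
    | succ i ih => rw [Function.iterate_succ_apply', hg, pow_succ', MulAut.mul_apply, ← ih]; simp [g]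
  have hs : ∀ w, ∃ v, φ (Multiplicative.ofAdd v) = w := fun w => ⟨(φ.symm w).toAdd, by simp⟩
  rcases lin_cases (g (1, 0)) (g (0, 1)) with ⟨v, hv, h⟩ | h | ⟨u, v, h⟩
  · have := hi 1 v
    rw [Function.iterate_one, h, pow_one, ofAdd_zero, map_one, eq_comm, map_eq_one_iff _ e.injective,
      map_eq_one_iff _ φ.injective] at this
    exact absurd this hv
  · refine Or.inl (MulEquiv.ext fun w => ?_)
    obtain ⟨v, rfl⟩ := hs w
    rw [← hi, h]
    rfl
  · refine Or.inr ⟨φ (Multiplicative.ofAdd u), φ (Multiplicative.ofAdd v), fun w => ?_⟩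
    obtain ⟨w, rfl⟩ := hs w
    rcases h w with rfl | ⟨i, h⟩
    · exact Or.inl (map_one φ)
    · exact Or.inr ⟨i, h.imp (fun h => by rw [← hi, h]) fun h => by rw [← hi, h]⟩

/-- The two possible shapes of an automizer with at least three orbits. -/
theorem aut_cases (hR : Nat.card R = 9) (E : Subgroup (MulAut R)) (h3 : ¬ 3 ∣ Nat.card E)
    (horb : ∀ u v : R, ∃ w, w ≠ 1 ∧ ∀ e ∈ E, e u ≠ w ∧ e v ≠ w)
    (hfoc : ∀ A : Subgroup R, (∀ e ∈ E, ∀ w, w * (e w)⁻¹ ∈ A) → A = ⊤) :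
    ((∀ e ∈ E, (∀ w, e w = w) ∨ ∀ w, e w = w⁻¹) ∧ ∃ e ∈ E, ∀ w, e w = w⁻¹) ∨
      ∃ x y : R, orderOf x = 3 ∧ orderOf y = 3 ∧ y ∉ zpowers x ∧ zpowers x ⊔ zpowers y = ⊤ ∧
        (∃ e ∈ E, e x = x ∧ e y = y⁻¹) ∧ (∃ e ∈ E, e x = x⁻¹ ∧ e y = y) ∧
        ∀ e ∈ E, (e x = x ∨ e x = x⁻¹) ∧ (e y = y ∨ e y = y⁻¹) := by
  have : Fact (Nat.Prime 3) := ⟨Nat.prime_three⟩
  have hc := (IsPGroup.isMulCommutative_of_card_eq_prime_sq (p := 3) hR).is_comm.comm
  let _ : CommGroup R := { mul_comm := hc }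
  have h2 : ∀ e ∈ E, e * e = 1 := fun e he => by
    rcases pow_six_or hR e with h | ⟨u, v, h⟩
    · have h6 := orderOf_dvd_of_pow_eq_one h
      have h7 : ¬ 3 ∣ orderOf e := fun c => h3 (c.trans (E.orderOf_dvd_natCard he))
      rw [← pow_two, ← orderOf_dvd_iff_pow_eq_one]
      exact ((Nat.prime_three.coprime_iff_not_dvd.2 h7).symm).dvd_of_dvd_mul_right (m := 2) h6
    · obtain ⟨w, hw, h'⟩ := horb u v
      obtain ⟨i, hi⟩ := (h w).resolve_left hw
      exact absurd hi (not_or.2 (h' _ (pow_mem he i)))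
  have h2' : ∀ e ∈ E, ∀ w, e (e w) = w := fun e he w => by rw [← MulAut.mul_apply, h2 e he]; rfl
  have odd : ∀ w : R, w = w⁻¹ → w = 1 := fun w hw => by
    have h1 : w ^ 9 = 1 := hR ▸ pow_card_eq_one'
    have h4 : w ^ 2 = 1 := by rw [pow_two]; exact eq_inv_iff_mul_eq_one.1 hw
    rwa [show 9 = 2 * 4 + 1 from rfl, pow_succ, pow_mul, h4, one_pow, one_mul] at h1
  have hnt : (⊥ : Subgroup R) ≠ ⊤ := fun c => by
    have := congrArg (fun H : Subgroup R => Nat.card H) c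
    simp [hR] at this
  by_cases hpm : ∀ e ∈ E, (∀ w, e w = w) ∨ ∀ w, e w = w⁻¹
  · refine Or.inl ⟨hpm, ?_⟩
    by_contra! c
    refine hnt (hfoc _ fun e he w => ?_)
    obtain ⟨v, hv⟩ := c e he
    rw [(hpm e he).resolve_right (fun h => hv (h v)) w, mul_inv_cancel]
    exact one_mem _
  push Not at hpm
  obtain ⟨σ, hσ, ⟨u, hu⟩, ⟨v, hv⟩⟩ := hpm
  obtain ⟨x, hx1, hx⟩ : ∃ x : R, x ≠ 1 ∧ σ x = x :=
    ⟨v * σ v, fun c => hv (eq_inv_of_mul_eq_one_right c), by rw [map_mul, h2' σ hσ, hc]⟩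
  obtain ⟨y, hy1, hy⟩ : ∃ y : R, y ≠ 1 ∧ σ y = y⁻¹ :=
    ⟨u * (σ u)⁻¹, fun c => hu (mul_inv_eq_one.1 c).symm, by
      rw [map_mul, map_inv, h2' σ hσ, mul_inv_rev, inv_inv]⟩
  have fx : ∀ w ∈ zpowers x, σ w = w := by
    rintro _ ⟨i, rfl⟩
    simp only [map_zpow, hx]
  have fy : ∀ w ∈ zpowers y, σ w = w⁻¹ := by
    rintro _ ⟨i, rfl⟩
    simp only [map_zpow, hy, inv_zpow]
  have hd : Disjoint (zpowers x) (zpowers y) :=
    disjoint_iff_inf_le.2 fun w hw => odd w ((fx w hw.1).symm.trans (fy w hw.2))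
  have hcard : Nat.card (zpowers x ⊔ zpowers y : Subgroup R) = orderOf x * orderOf y := by
    rw [← Nat.card_zpowers, ← Nat.card_zpowers, ← Nat.card_prod]
    refine (Nat.card_congr (Equiv.ofBijective (fun p : zpowers x × zpowers y =>
      (⟨p.1 * p.2, mul_mem_sup p.1.2 p.2.2⟩ : (zpowers x ⊔ zpowers y : Subgroup R))) ⟨?_, ?_⟩)).symm
    · intro p q h
      exact mul_injective_of_disjoint hd (congrArg Subtype.val h)
    · rintro ⟨w, hw⟩
      obtain ⟨a, ha, b, hb, rfl⟩ := mem_sup.1 hw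
      exact ⟨(⟨a, ha⟩, ⟨b, hb⟩), rfl⟩
  have hdv : orderOf x * orderOf y ∣ 9 := hcard ▸ hR ▸ card_subgroup_dvd_card _
  have ox : orderOf x ≠ 1 := orderOf_eq_one_iff.not.2 hx1
  have oy : orderOf y ≠ 1 := orderOf_eq_one_iff.not.2 hy1
  obtain ⟨ox, oy⟩ : orderOf x = 3 ∧ orderOf y = 3 := by
    have a1 := Nat.le_of_dvd (by norm_num) ((dvd_mul_right _ _).trans hdv)
    have a2 := Nat.le_of_dvd (by norm_num) ((dvd_mul_left _ _).trans hdv)
    generalize orderOf x = a at *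
    generalize orderOf y = b at *
    interval_cases a <;> interval_cases b <;> simp at hdv ox oy ⊢
  have htop : zpowers x ⊔ zpowers y = ⊤ := eq_top_of_card_eq _ (by rw [hcard, ox, oy, hR])
  have pm : ∀ {z w : R}, orderOf z = 3 → w ∈ zpowers z → w ≠ 1 → w = z ∨ w = z⁻¹ := by
    intro z w hz hw h1
    obtain ⟨i, rfl⟩ := mem_powers_iff_mem_zpowers.2 hw
    have hz3 : z ^ 3 = 1 := hz ▸ pow_orderOf_eq_one z
    change z ^ i ≠ 1 at h1
    change z ^ i = z ∨ z ^ i = z⁻¹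
    rw [pow_eq_pow_mod i hz3] at h1 ⊢
    have := Nat.mod_lt i three_pos
    generalize i % 3 = j at *
    interval_cases j
    · simp at h1
    · simp
    · exact Or.inr (eq_inv_of_mul_eq_one_left (by rw [← pow_succ, hz3]))
  have comm : ∀ e ∈ E, ∀ w, σ (e w) = e (σ w) := fun e he w => by
    have := h2' _ (mul_mem hσ he) (e (σ w))
    rw [MulAut.mul_apply, MulAut.mul_apply, h2' e he, h2' σ hσ] at this
    exact this
  have hall : ∀ e ∈ E, (e x = x ∨ e x = x⁻¹) ∧ (e y = y ∨ e y = y⁻¹) := fun e he => by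
    constructor
    · refine pm ox ?_ ((map_ne_one_iff _ e.injective).2 hx1)
      obtain ⟨a, ha, b, hb, h⟩ := mem_sup.1 (htop ▸ mem_top (e x))
      have h1 := comm e he x
      rw [hx, ← h, map_mul, fx a ha, fy b hb, mul_right_inj] at h1
      rwa [← h, odd b h1.symm, mul_one]
    · refine pm oy ?_ ((map_ne_one_iff _ e.injective).2 hy1)
      obtain ⟨a, ha, b, hb, h⟩ := mem_sup.1 (htop ▸ mem_top (e y))
      have h1 := comm e he y
      rw [hy, map_inv, ← h, map_mul, fx a ha, fy b hb, mul_inv, mul_left_inj] at h1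
      rwa [← h, odd a h1, one_mul]
  refine Or.inr ⟨x, y, ox, oy, fun c => hy1 (odd y ((fx y c).symm.trans hy)), htop,
    ⟨σ, hσ, hx, hy⟩, ?_, hall⟩
  obtain ⟨τ, hτ, h⟩ : ∃ τ ∈ E, τ x = x⁻¹ := by
    by_contra! c
    have := hfoc (zpowers y) fun e he w => by
      obtain ⟨_, ⟨i, rfl⟩, _, ⟨j, rfl⟩, rfl⟩ := mem_sup.1 (htop ▸ mem_top w)
      simp only [map_mul, map_zpow, (hall e he).1.resolve_right (c e he), mul_inv]
      rw [mul_mul_mul_comm, mul_inv_cancel, one_mul]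
      refine mul_mem (zpow_mem (mem_zpowers y) j) (inv_mem (zpow_mem ?_ j))
      rcases (hall e he).2 with h | h <;> rw [h]
      exacts [mem_zpowers y, inv_mem (mem_zpowers y)]
    exact hx1 (odd x (hx.symm.trans (fy x (this ▸ mem_top x))))
  rcases (hall τ hτ).2 with h' | h'
  · exact ⟨τ, hτ, h, h'⟩
  · exact ⟨τ * σ, mul_mem hτ hσ, by rw [MulAut.mul_apply, hx, h], by
      rw [MulAut.mul_apply, hy, map_inv, h', inv_inv]⟩

end Cfsg.Lib.CITCor.Nine
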