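/-
Numerical lemmas on the principal `3`-block of a group with Sylow `3`-subgroup of order nine.
-/
import Mathlib.Tactic

set_option autoImplicit false

namespace Cfsg.Lib.CITCor.Nine

theorem eq_pow_or {q a b n : ℕ} (hq : q.Prime) (h : n ∣ 9 * 2 ^ a * q ^ b) (h3 : ¬ 3 ∣ n) :
    ∃ i j, i ≤ a ∧ j ≤ b ∧ n = 2 ^ i * q ^ j := by
  rw [mul_assoc] at h
  have h1 := (((Nat.prime_three.coprime_iff_not_dvd.2 h3).symm).pow_right 2).dvd_of_dvd_mul_left h
  obtain ⟨u, v, hu, hv, rfl⟩ := (Nat.dvd_mul).1 h1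
  obtain ⟨i, hi, rfl⟩ := (Nat.dvd_prime_pow Nat.prime_two).1 hu
  obtain ⟨j, hj, rfl⟩ := (Nat.dvd_prime_pow hq).1 hv
  exact ⟨i, j, hi, hj, rfl⟩

theorem pow_adj {q i j : ℕ} (hq : q = 5 ∨ q = 7 ∨ q = 13 ∨ q = 17) (hj : 0 < j)
    (h : 2 ^ i = q ^ j + 1 ∨ q ^ j = 2 ^ i + 1) : j = 1 := by
  by_contra hj1
  obtain ⟨k, rfl⟩ : ∃ k, j = k + 2 := ⟨j - 2, by omega⟩
  have h5 : 5 ≤ i := by
    by_contra c
    have h1 : 2 ^ i ≤ 2 ^ 4 := Nat.pow_le_pow_right (by norm_num) (by omega)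
    have h2 : 5 ^ 2 ≤ q ^ (k + 2) :=
      (Nat.pow_le_pow_left (by omega) 2).trans (Nat.pow_le_pow_right (by omega) (by omega))
    omega
  obtain ⟨l, rfl⟩ : ∃ l, i = l + 5 := ⟨i - 5, by omega⟩
  have key : ∀ m r : ℕ, 1 < r → q ^ 2 % r = 1 → (q ^ 2) ^ m % r = 1 := fun m r h1 h2 => by
    rw [Nat.pow_mod, h2, one_pow, Nat.mod_eq_of_lt h1]
  have h3 : ¬ 3 ∣ 2 ^ (l + 5) := fun c => by
    have := Nat.prime_three.dvd_of_dvd_pow c
    omega
  rw [pow_add] at h h3
  obtain ⟨m, hm | hm⟩ := Nat.even_or_odd' (k + 2) <;> rw [hm] at h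
  · have e1 := key m 3 (by norm_num) (by rcases hq with rfl | rfl | rfl | rfl <;> rfl)
    have e2 := key m 4 (by norm_num) (by rcases hq with rfl | rfl | rfl | rfl <;> rfl)
    rw [pow_mul] at h
    omega
  · rw [pow_succ q, pow_mul] at h
    rcases hq with rfl | rfl | rfl | rfl
    · have := key m 8 (by norm_num) rfl
      omega
    · have := key m 16 (by norm_num) rfl
      omega
    · have := key m 8 (by norm_num) rfl
      omega
    · have := key m 32 (by norm_num) rfl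
      omega

/-- A signed degree. -/
structure Deg (q a b : ℕ) (z : ℤ) : Prop where
  dvd : z.natAbs ∣ 9 * 2 ^ a * q ^ b
  mod : ¬ 3 ∣ z

/-- Two degrees with difference one. -/
theorem Deg.adj {q a b : ℕ} (hq : q = 5 ∨ q = 7 ∨ q = 13 ∨ q = 17) {u : ℤ} (hu : Deg q a b u)
    (hv : Deg q a b (1 + u)) (h1 : u ≠ 1) (h2 : u ≠ -2) :
    q = 5 ∧ (u = 4 ∨ u = -5) ∨ q = 7 ∧ (u = 7 ∨ u = -8) ∨ q = 17 ∧ (u = 16 ∨ u = -17) := by
  have hp : q.Prime := by rcases hq with rfl | rfl | rfl | rfl <;> norm_num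
  have key : ∀ m : ℕ, m ∣ 9 * 2 ^ a * q ^ b → m + 1 ∣ 9 * 2 ^ a * q ^ b → ¬ 3 ∣ m → ¬ 3 ∣ m + 1 →
      m = 1 ∨ q = 5 ∧ m = 4 ∨ q = 7 ∧ m = 7 ∨ q = 17 ∧ m = 16 := fun m d1 d2 n1 n2 => by
    obtain ⟨i, j, -, -, e1⟩ := eq_pow_or hp d1 n1
    obtain ⟨k, l, -, -, e2⟩ := eq_pow_or hp d2 n2
    have c : ∀ {r : ℕ}, r.Prime → r ∣ m → r ∣ m + 1 → False := fun hr a b =>
      hr.one_lt.ne' (Nat.dvd_one.1 ((Nat.dvd_add_right a).1 b))
    have z : ∀ {r s t w : ℕ}, r.Prime → r ^ s ∣ m → r ^ t ∣ m + 1 → s = 0 ∨ t = 0 := by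
      intro r s t _ hr a b
      by_contra! h
      exact c hr ((dvd_pow_self r h.1).trans a) ((dvd_pow_self r h.2).trans b)
    have two : ∀ i : ℕ, 2 ^ i ≤ 18 → 2 ^ i = 1 ∨ 2 ^ i = 2 ∨ 2 ^ i = 4 ∨ 2 ^ i = 8 ∨ 2 ^ i = 16 := by
      intro i hi
      have : i ≤ 4 := by
        by_contra c
        have := Nat.pow_le_pow_right (n := 2) (by norm_num) (show 5 ≤ i by omega)
        omega
      interval_cases i <;> simp
    have m0 : 0 < m := Nat.pos_of_ne_zero fun c => n1 (c ▸ dvd_zero 3)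
    rcases z (w := 0) Nat.prime_two (e1 ▸ dvd_mul_right _ _) (e2 ▸ dvd_mul_right _ _) with rfl | rfl <;>
      rcases z (w := 0) hp (e1 ▸ dvd_mul_left _ _) (e2 ▸ dvd_mul_left _ _) with rfl | rfl <;>
      simp only [pow_zero, mul_one, one_mul] at e1 e2
    · exact Or.inl e1
    · rcases Nat.eq_zero_or_pos j with rfl | hj
      · exact Or.inl e1
      obtain rfl := pow_adj hq hj (i := k) (Or.inl (by omega))
      rw [pow_one] at e1
      have := two k (by omega)
      omega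
    · rcases Nat.eq_zero_or_pos l with rfl | hl
      · rw [pow_zero] at e2
        omega
      obtain rfl := pow_adj hq hl (i := i) (Or.inr (by omega))
      rw [pow_one] at e2
      have := two i (by omega)
      omega
    · omega
  have d1 := hu.dvd
  have d2 := hv.dvd
  have n1 := hu.mod
  have n2 := hv.mod
  rcases le_or_gt 0 u with h | h
  · have := key u.natAbs d1 (by convert d2 using 1; omega) (by omega) (by omega)
    omega
  · have := key (1 + u).natAbs d2 (by convert d1 using 1; omega) (by omega) (by omega)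
    omega

theorem Deg.neg {q a b : ℕ} {u : ℤ} (hu : Deg q a b u) : Deg q a b (-u) :=
  ⟨by simpa using hu.dvd, by simpa using hu.mod⟩

theorem Deg.cases {q a b : ℕ} (hq : q.Prime) (hb : b ≤ 1) {u : ℤ} (hu : Deg q a b u) :
    ∃ i, u.natAbs = 2 ^ i ∨ u.natAbs = 2 ^ i * q := by
  obtain ⟨i, j, -, hj, e⟩ := eq_pow_or hq hu.dvd (by have := hu.mod; omega)
  refine ⟨i, ?_⟩
  have : j ≤ 1 := hj.trans hb
  interval_cases j <;> simp [e]

/-- There is no square of degrees with vanishing row and column sums. -/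
theorem no_grid {q a b : ℕ} (hq : q = 5 ∨ q = 7 ∨ q = 13 ∨ q = 17) {u u' v v' s t s' t' : ℤ}
    (h : ∀ z ∈ [u, u', v, v', s, t, s', t'], Deg q a b z ∧ z % 3 = 1 ∧ z ≠ 1 ∧
      (z.natAbs = q → b ≤ 1))
    (r1 : 1 + u + u' = 0) (r2 : v + s + t = 0) (r3 : v' + s' + t' = 0) (c1 : 1 + v + v' = 0)
    (c2 : u + s + s' = 0) : False := by
  have hp : q.Prime := by rcases hq with rfl | rfl | rfl | rfl <;> norm_num
  simp only [List.mem_cons, List.not_mem_nil, or_false, forall_eq_or_imp, forall_eq] at h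
  obtain ⟨hu, hu', hv, hv', hs, ht, hs', ht'⟩ := h
  have e1 := hu.1.adj hq (by rw [show 1 + u = -u' by linarith]; exact hu'.1.neg) hu.2.2.1
    fun c => hu'.2.2.1 (by linarith)
  have e2 := hv.1.adj hq (by rw [show 1 + v = -v' by linarith]; exact hv'.1.neg) hv.2.2.1
    fun c => hv'.2.2.1 (by linarith)
  have hb : b ≤ 1 := by
    have k1 := hu.2.2.2
    have k2 := hu'.2.2.2
    obtain rfl : u' = -1 - u := by linarith
    rcases e1 with ⟨rfl, rfl | rfl⟩ | ⟨rfl, rfl | rfl⟩ | ⟨rfl, rfl | rfl⟩ <;>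
      first | exact k1 rfl | exact k2 rfl
  have odd : ∀ z : ℤ, Deg q a b z → z % 2 = 1 → z.natAbs = 1 ∨ z.natAbs = q := fun z hz h2 => by
    obtain ⟨i, h⟩ := hz.cases hp hb
    rcases i with _ | i
    · simpa using h
    · rw [pow_succ', mul_assoc] at h
      clear * - h h2
      omega
  have bad : ∀ z : ℤ, Deg q a b z → ∀ r : ℕ, r.Prime → r ≠ 2 → r ≠ q → ¬ r ∣ z.natAbs :=
    fun z hz r hr h2 h3 c => by
      obtain ⟨i, h | h⟩ := hz.cases hp hb <;> rw [h] at c
      · exact h2 ((Nat.prime_dvd_prime_iff_eq hr Nat.prime_two).1 (hr.dvd_of_dvd_pow c))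
      · rcases (Nat.Prime.dvd_mul hr).1 c with c | c
        · exact h2 ((Nat.prime_dvd_prime_iff_eq hr Nat.prime_two).1 (hr.dvd_of_dvd_pow c))
        · exact h3 ((Nat.prime_dvd_prime_iff_eq hr hp).1 c)
  have fin : ∀ z : ℤ, Deg q a b z ∧ z % 3 = 1 ∧ z ≠ 1 ∧ (z.natAbs = q → b ≤ 1) →
      z % 3 = 1 ∧ z ≠ 1 ∧ (z % 2 = 0 ∨ z = q ∨ z = -q) ∧ (q = 5 → z ≠ -14) ∧ (q = 7 → z ≠ 22) ∧
        (q = 17 → z ≠ -50) := fun z hz => by
    refine ⟨hz.2.1, hz.2.2.1, ?_, ?_, ?_, ?_⟩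
    · have k1 := odd z hz.1
      have k2 := hz.2.1
      have k3 := hz.2.2.1
      clear * - k1 k2 k3
      omega
    · rintro rfl rfl
      exact bad _ hz.1 7 (by norm_num) (by norm_num) (by norm_num) (by norm_num)
    · rintro rfl rfl
      exact bad _ hz.1 11 (by norm_num) (by norm_num) (by norm_num) (by norm_num)
    · rintro rfl rfl
      exact bad _ hz.1 5 (by norm_num) (by norm_num) (by norm_num) (by norm_num)
  have f1 := fin _ hs
  have f2 := fin _ ht
  have f3 := fin _ hs'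
  have f4 := fin _ ht'
  clear fin bad odd hs ht hs' ht' hu hu' hv hv' hq hp hb
  rcases e1 with ⟨rfl, rfl | rfl⟩ | ⟨rfl, rfl | rfl⟩ | ⟨rfl, rfl | rfl⟩ <;>
    simp only [Nat.reduceEqDiff, false_and, true_and, or_false, false_or, false_imp_iff,
      true_imp_iff, and_true] at e2 f1 f2 f3 f4 <;> rcases e2 with rfl | rfl <;> omega

/-- A pair of columns with Gram matrix `(6, 3; 3, 6)`, orthogonal to the given columns. -/
structure Pair {ι : Type*} (s : Finset ι) (A B W d : ι → ℤ) : Prop where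
  aa : ∑ i ∈ s, A i * A i = 6
  ab : ∑ i ∈ s, A i * B i = 3
  bb : ∑ i ∈ s, B i * B i = 6
  aw : ∑ i ∈ s, A i * W i = 0
  bw : ∑ i ∈ s, B i * W i = 0
  ad : ∑ i ∈ s, A i * d i = 0
  bd : ∑ i ∈ s, B i * d i = 0
  mod : ∀ i ∈ s, 3 ∣ W i - (A i + B i)

theorem exists_type {w a b : ℤ} (hw : w * w = 1) (h : a * a - a * b + b * b = 1)
    (h3 : 3 ∣ w - (a + b)) : ∃ t : Fin 3, ∀ k : Fin 3,
      3 * (if t = k then 1 else 0 : ℤ) = 1 + ![2, -1, -1] k * (w * a) + ![-1, 2, -1] k * (w * b) := by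
  have a1 : a ≤ 1 := by nlinarith [sq_nonneg (2 * b - a)]
  have a2 : -1 ≤ a := by nlinarith [sq_nonneg (2 * b - a)]
  have b1 : b ≤ 1 := by nlinarith [sq_nonneg (2 * a - b)]
  have b2 : -1 ≤ b := by nlinarith [sq_nonneg (2 * a - b)]
  rcases mul_self_eq_one_iff.1 hw with rfl | rfl <;> interval_cases a <;> interval_cases b <;>
    first | (exfalso; omega) | decide

theorem no_columns {q a b : ℕ} (hq : q = 5 ∨ q = 7 ∨ q = 13 ∨ q = 17) {ι : Type*} {s : Finset ι}
    {A B A' B' W d : ι → ℤ} {o : ι} (ho : o ∈ s) (h : Pair s A B W d) (h' : Pair s A' B' W d)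
    (aa : ∑ i ∈ s, A i * A' i = 0) (ab : ∑ i ∈ s, A i * B' i = 0)
    (ba : ∑ i ∈ s, B i * A' i = 0) (bb : ∑ i ∈ s, B i * B' i = 0)
    (ww : ∑ i ∈ s, W i * W i = 9) (wd : ∑ i ∈ s, W i * d i = 0) (wo : W o = 1) (d1 : d o = 1)
    (hd : ∀ i ∈ s, W i ≠ 0 ∧ 3 ∣ W i - d i ∧ 0 < d i ∧ (d i).natAbs ∣ 9 * 2 ^ a * q ^ b ∧
      (d i = 1 → i = o) ∧ (d i = q → b ≤ 1)) : False := by
  classical
  have bes : ∀ i ∈ s, 2 * (A i * A i - A i * B i + B i * B i) +
      2 * (A' i * A' i - A' i * B' i + B' i * B' i) + W i * W i < 9 := fun i hi => by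
    set m := 2 * (A i * A i - A i * B i + B i * B i) +
      2 * (A' i * A' i - A' i * B' i + B' i * B' i) + W i * W i with hm
    let P : ι → ℤ := fun j => (2 * A i - B i) * A j + (2 * B i - A i) * B j +
      (2 * A' i - B' i) * A' j + (2 * B' i - A' i) * B' j + W i * W j
    have lin : ∀ F : ι → ℤ, ∑ j ∈ s, P j * F j = (2 * A i - B i) * ∑ j ∈ s, A j * F j +
        (2 * B i - A i) * ∑ j ∈ s, B j * F j + (2 * A' i - B' i) * ∑ j ∈ s, A' j * F j +
        (2 * B' i - A' i) * ∑ j ∈ s, B' j * F j + W i * ∑ j ∈ s, W j * F j := fun F => by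
      simp only [Finset.mul_sum, ← Finset.sum_add_distrib]
      exact Finset.sum_congr rfl fun j _ => by ring
    have cm : ∀ F G : ι → ℤ, ∑ j ∈ s, F j * G j = ∑ j ∈ s, G j * F j := fun F G =>
      Finset.sum_congr rfl fun j _ => mul_comm _ _
    have e1 : ∑ j ∈ s, P j * P j = 9 * m := by
      rw [lin, cm A, cm B, cm A', cm B', cm W, lin, lin, lin, lin, lin, h.aa, cm B A, h.ab, h.bb,
        h'.aa, cm B' A', h'.ab, h'.bb, cm A' A, cm B' A, cm A' B, cm B' B, aa, ab, ba, bb, cm W A,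
        cm W B, cm W A', cm W B', h.aw, h.bw, h'.aw, h'.bw, ww]
      ring
    have e2 : ∑ j ∈ s, P j * d j = 0 := by rw [lin, h.ad, h.bd, h'.ad, h'.bd, wd]; ring
    have e3 : P i = m := by simp only [P, hm]; ring
    rw [← Finset.add_sum_erase _ _ hi, e3] at e1 e2
    have e4 : 0 ≤ ∑ j ∈ s.erase i, P j * P j := Finset.sum_nonneg fun _ _ => mul_self_nonneg _
    by_contra c
    have e5 : m = 9 := by nlinarith
    have e6 := (Finset.sum_eq_zero_iff_of_nonneg fun j _ => mul_self_nonneg (P j)).1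
      (show ∑ j ∈ s.erase i, P j * P j = 0 by rw [e5] at e1; linarith)
    rw [Finset.sum_eq_zero fun j hj => by rw [mul_self_eq_zero.1 (e6 j hj), zero_mul], e5] at e2
    have := (hd i hi).2.2.1
    omega
  have one : ∀ i ∈ s, A i * A i - A i * B i + B i * B i = 1 ∧
      A' i * A' i - A' i * B' i + B' i * B' i = 1 := fun i hi => by
    have e1 := bes i hi
    have key : ∀ x y : ℤ, 3 ∣ W i - (x + y) → 0 ≤ x * x - x * y + y * y ∧
        3 ∣ x * x - x * y + y * y - W i * W i := fun x y ⟨c, hc⟩ =>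
      ⟨by nlinarith [sq_nonneg (x - y), sq_nonneg x, sq_nonneg y],
        ⟨-x * y - c * (W i + x + y), by linear_combination (-(W i + x + y)) * hc⟩⟩
    obtain ⟨e2, e3⟩ := key _ _ (h.mod i hi)
    obtain ⟨e4, e5⟩ := key _ _ (h'.mod i hi)
    have w0 := (hd i hi).1
    have w1 : W i ≤ 2 := by nlinarith
    have w2 : -2 ≤ W i := by nlinarith
    generalize A i * A i - A i * B i + B i * B i = x at *
    generalize A' i * A' i - A' i * B' i + B' i * B' i = y at *
    generalize W i = w at *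
    clear * - e1 e2 e3 e4 e5 w0 w1 w2
    interval_cases w <;> omega
  have hc : (s.card : ℤ) = 9 := by
    have : ∑ i ∈ s, (A i * A i - A i * B i + B i * B i) = 9 := by
      rw [Finset.sum_add_distrib, Finset.sum_sub_distrib, h.aa, h.ab, h.bb]; rfl
    rwa [Finset.sum_congr rfl fun i hi => (one i hi).1, Finset.sum_const, nsmul_one] at this
  have w1 : ∀ i ∈ s, W i * W i = 1 := fun i hi => by
    have := (Finset.sum_eq_zero_iff_of_nonneg (s := s) (f := fun i => W i * W i - 1) fun j hj => by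
      have := mul_self_pos.2 (hd j hj).1
      omega).1 (by rw [Finset.sum_sub_distrib, ww, Finset.sum_const, nsmul_one, hc]; rfl) i hi
    linarith
  choose! τ hτ using fun i hi => exists_type (w1 i hi) (one i hi).1 (h.mod i hi)
  choose! τ' hτ' using fun i hi => exists_type (w1 i hi) (one i hi).2 (h'.mod i hi)
  have uniq : ∀ p : Fin 3 × Fin 3, ∃ i, (s.filter fun i => (τ i, τ' i) = p) = {i} := by
    rintro ⟨k, l⟩
    rw [← Finset.card_eq_one]
    have : 9 * ((s.filter fun i => (τ i, τ' i) = (k, l)).card : ℤ) = 9 := by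
      rw [Finset.card_filter, Nat.cast_sum, Finset.mul_sum, Finset.sum_congr rfl (g := fun i => 1 +
        (![2, -1, -1] k * (A i * W i) + ![-1, 2, -1] k * (B i * W i) +
        ![2, -1, -1] l * (A' i * W i) + ![-1, 2, -1] l * (B' i * W i) +
        ![2, -1, -1] k * ![2, -1, -1] l * (A i * A' i) +
        ![2, -1, -1] k * ![-1, 2, -1] l * (A i * B' i) +
        ![-1, 2, -1] k * ![2, -1, -1] l * (B i * A' i) +
        ![-1, 2, -1] k * ![-1, 2, -1] l * (B i * B' i))) fun i hi => ?_]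
      · simp only [Finset.sum_add_distrib, ← Finset.mul_sum, h.aw, h.bw, h'.aw, h'.bw, aa, ab, ba,
          bb, Finset.sum_const, nsmul_one, hc]
        ring
      · have e : (9 : ℤ) * ((if (τ i, τ' i) = (k, l) then 1 else 0 : ℕ) : ℤ) =
            (3 * if τ i = k then 1 else 0) * (3 * if τ' i = l then 1 else 0) := by
          by_cases h1 : τ i = k <;> by_cases h2 : τ' i = l <;> simp [h1, h2]
        rw [e, hτ i hi, hτ' i hi]
        linear_combination (![2, -1, -1] k * A i + ![-1, 2, -1] k * B i) *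
          (![2, -1, -1] l * A' i + ![-1, 2, -1] l * B' i) * w1 i hi
    omega
  choose c hc using uniq
  have hm : ∀ p, c p ∈ s ∧ (τ (c p), τ' (c p)) = p := fun p =>
    Finset.mem_filter.1 (hc p ▸ Finset.mem_singleton_self (c p))
  have hsum : ∀ F : ι → ℤ, ∑ i ∈ s, F i = ∑ p, F (c p) := fun F => by
    rw [← Finset.sum_fiberwise s fun i => (τ i, τ' i)]
    exact Finset.sum_congr rfl fun p _ => by rw [hc, Finset.sum_singleton]
  have line : ∀ {A B : ι → ℤ} {τ : ι → Fin 3}, Pair s A B W d → (∀ i ∈ s, ∀ k : Fin 3,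
      3 * (if τ i = k then 1 else 0 : ℤ) = 1 + ![2, -1, -1] k * (W i * A i) +
        ![-1, 2, -1] k * (W i * B i)) → ∀ k,
      ∑ p, (if τ (c p) = k then W (c p) * d (c p) else 0) = 0 := by
    intro A B τ h hτ k
    rw [← hsum fun i => if τ i = k then W i * d i else 0]
    have : 3 * ∑ i ∈ s, (if τ i = k then W i * d i else 0) = 0 := by
      rw [Finset.mul_sum, Finset.sum_congr rfl (g := fun i => W i * d i +
        ![2, -1, -1] k * (A i * d i) + ![-1, 2, -1] k * (B i * d i)) fun i hi => ?_]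
      · simp only [Finset.sum_add_distrib, ← Finset.mul_sum, h.ad, h.bd, wd]
        ring
      · have e : (3 : ℤ) * (if τ i = k then W i * d i else 0) =
            (3 * if τ i = k then 1 else 0) * (W i * d i) := by split_ifs <;> ring
        rw [e, hτ i hi]
        linear_combination (![2, -1, -1] k * A i + ![-1, 2, -1] k * B i) * d i * w1 i hi
    omega
  have t1 : ∀ p, τ (c p) = p.1 := fun p => congrArg Prod.fst (hm p).2
  have t2 : ∀ p, τ' (c p) = p.2 := fun p => congrArg Prod.snd (hm p).2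
  have row : ∀ k, ∑ l, W (c (k, l)) * d (c (k, l)) = 0 := fun k => by
    have := line h hτ k
    simp only [t1, Fintype.sum_prod_type_right, Finset.sum_ite_eq', Finset.mem_univ, if_true] at this
    exact this
  have col : ∀ l, ∑ k, W (c (k, l)) * d (c (k, l)) = 0 := fun l => by
    have := line h' hτ' l
    simp only [t2, Fintype.sum_prod_type, Finset.sum_ite_eq', Finset.mem_univ, if_true] at this
    exact this
  have co : c (τ o, τ' o) = o :=
    (Finset.mem_singleton.1 (hc _ ▸ Finset.mem_filter.2 ⟨ho, rfl⟩)).symm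
  have good : ∀ p, p ≠ (τ o, τ' o) → ∀ z, z = W (c p) * d (c p) →
      Deg q a b z ∧ z % 3 = 1 ∧ z ≠ 1 ∧ (z.natAbs = q → b ≤ 1) := fun p hp z hz => by
    obtain ⟨-, e1, e2, e3, e4, e5⟩ := hd _ (hm p).1
    have e6 : d (c p) ≠ 1 := fun e => hp (by rw [← (hm p).2, e4 e])
    have e7 : z.natAbs = (d (c p)).natAbs ∧ z % 3 = 1 ∧ z ≠ 1 := by
      rcases mul_self_eq_one_iff.1 (w1 _ (hm p).1) with e | e <;> rw [e] at hz e1 <;> omega
    exact ⟨⟨e7.1 ▸ e3, by omega⟩, e7.2.1, e7.2.2, fun e => e5 (by omega)⟩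
  have rot : ∀ (k : Fin 3) (F : Fin 3 → ℤ), ∑ l, F l = F k + F (k + 1) + F (k + 2) := fun k F => by
    rw [Fin.sum_univ_three]
    fin_cases k <;> simp <;> ring
  have ne : ∀ k : Fin 3, k + 1 ≠ k ∧ k + 2 ≠ k := by decide
  have r1 := row (τ o)
  have r2 := row (τ o + 1)
  have r3 := row (τ o + 2)
  have c1 := col (τ' o)
  have c2 := col (τ' o + 1)
  rw [rot (τ' o)] at r1 r2 r3
  rw [rot (τ o)] at c1 c2
  simp only [co, wo, d1, mul_one] at r1 c1
  refine no_grid (a := a) (b := b) hq (fun z hz => ?_) r1 r2 r3 c1 c2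
  simp only [List.mem_cons, List.not_mem_nil, or_false] at hz
  rcases hz with hz | hz | hz | hz | hz | hz | hz | hz <;> refine good _ ?_ z hz <;>
    simp [(ne _).1, (ne _).2]

end Cfsg.Lib.CITCor.Nine
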