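import Cfsg.Agent.Block.SmithTyrer
import Cfsg.Agent.Block.Prince
import Cfsg.Agent.Block.PrincAvg
import Cfsg.Agent.Block.PrimeSylow
import Cfsg.Agent.Block.Transport

/-!
# Generalized decomposition numbers of a real element of order three
-/

set_option autoImplicit false
set_option linter.unusedSectionVars false

open scoped ComplexConjugate
open Cfsg Cfsg.Lib.Char Cfsg.Lib.Block Cfsg.Lib.Block.Princ Cfsg.Lib.Block.Tri Cfsg.Lib.Block.ST
  Subgroup

namespace Cfsg.Lib.CITCor.Nine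

universe u

theorem exists_int_of_conj {ι : Type*} (s : Finset ι) (n : ι → ℤ) (ω : ι → ℂ)
    (hω : ∀ i ∈ s, ω i ^ 3 = 1) (h : ∑ i ∈ s, n i * conj (ω i) = ∑ i ∈ s, n i * ω i) :
    ∃ m : ℤ, ∑ i ∈ s, n i * ω i = m := by
  have hζ := Complex.isPrimitiveRoot_exp 3 (by norm_num)
  generalize Complex.exp _ = ζ at hζ
  have h3 := hζ.pow_eq_one
  have h1 : ζ ^ 2 + ζ + 1 = 0 := by
    have := hζ.geom_sum_eq_zero (by norm_num)
    simp only [Finset.sum_range_succ, Finset.range_zero, Finset.sum_empty] at this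
    linear_combination this
  have hc : conj ζ = -1 - ζ := by
    rw [← Complex.inv_eq_conj (hζ.norm'_eq_one (by norm_num))]
    exact inv_eq_of_mul_eq_one_right (by linear_combination -h1)
  have : ∀ i ∈ s, ∃ u v : ℤ, ω i = u + v * ζ := fun i hi => by
    obtain ⟨k, hk, e⟩ := hζ.eq_pow_of_pow_eq_one (hω i hi)
    interval_cases k
    · exact ⟨1, 0, by simp [← e]⟩
    · exact ⟨0, 1, by simp [← e]⟩
    · exact ⟨-1, -1, by rw [← e]; push_cast; linear_combination h1⟩
  choose! u v huv using this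
  have e : ∀ z : ℂ, ∑ i ∈ s, n i * (u i + v i * z) =
      (∑ i ∈ s, n i * u i : ℤ) + (∑ i ∈ s, n i * v i : ℤ) * z := fun z => by
    push_cast
    rw [Finset.sum_mul, ← Finset.sum_add_distrib]
    exact Finset.sum_congr rfl fun _ _ => by ring
  have e1 : ∑ i ∈ s, n i * ω i = _ := (Finset.sum_congr rfl fun i hi => by rw [huv i hi]).trans (e ζ)
  have e2 : ∑ i ∈ s, n i * conj (ω i) = _ :=
    (Finset.sum_congr rfl fun i hi => by rw [huv i hi]; simp [hc]).trans (e (-1 - ζ))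
  rw [e1, e2] at h
  refine ⟨∑ i ∈ s, n i * u i, ?_⟩
  rw [e1]
  linear_combination -(2 + ζ) / 3 * h - 2 / 3 * ((∑ i ∈ s, n i * v i : ℤ) : ℂ) * h1

variable {M : Ideal AlgInt} {G : Type u} [Group G] [Finite G]

theorem iv_ne_zero (hM : IsPModular 3 M) {χ : IrrCharacter G} (hχ : χ ∈ principalBlock M G) {a : G}
    (ra : IsRat a) (h3 : ¬ 3 ∣ (centralizer ({a} : Set G)).index) : iv χ a ≠ 0 := fun h => by
  have h1 := hχ a
  simp only [centralChar, ← ra.iv_cast] at h1
  generalize (centralizer ({a} : Set G)).index = k at *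
  have := (Loc.ideal_intCast_iff hM (k : ℤ)).1 (by simpa [h] using h1)
  omega

theorem three_chars (hM : IsPModular 3 M) (h9 : ¬ 9 ∣ Nat.card G) {y : G} (hy : orderOf y = 3)
    (hr : IsConj y y⁻¹) : ∃ (α η : IrrCharacter G) (a δ : ℤ), TwoType 3 M α a δ {η} ∧
      (α : G → ℂ) y = a ∧ ∃ s, ¬ 3 ∣ orderOf s ∧ (α : G → ℂ) s ≠ (α : G → ℂ) 1 := by
  classical
  have : Fact (Nat.Prime 3) := ⟨Nat.prime_three⟩
  have hz : Nat.card (zpowers y) = 3 := by rw [Nat.card_zpowers, hy]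
  have hi : ¬ 3 ∣ (zpowers y).index := fun c => h9 (by
    rw [← (zpowers y).card_mul_index, hz]
    exact mul_dvd_mul_left 3 c)
  let P : Sylow 3 G := (IsPGroup.of_card (n := 1) hz).toSylow hi
  have hy1 : y ≠ 1 := by rintro rfl; simp at hy
  have hidx := index_pPrimeCore_centralizer_of_abelian P (inferInstanceAs
    (IsMulCommutative (zpowers y))) (mem_zpowers y)
    (inf_le_left.trans (Princ.centralizer_zpowers y).ge)
  have ry := isRat_of_three hy hr
  have h1 := sum_princ_iv_self hM ry ⟨1, hy⟩ (k := 1) (hidx.trans hz)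
  have ht := mem_irrFin.2 (triv_mem_principalBlock (G := G) hM)
  rw [← Finset.add_sum_erase _ _ ht, iv_triv] at h1
  obtain ⟨α, hα, η, hη, hne, sα, sη, hoth⟩ := exists_of_sum_sq_eq_two
    ((irrFin (principalBlock M G)).erase (triv G)) (fun χ => iv χ y)
    (by simp only [sq]; push_cast at h1; linarith)
  have hB : irrFin (principalBlock M G) = {triv G, α} ∪ {η} := by
    ext χ
    simp only [Finset.mem_union, Finset.mem_insert, Finset.mem_singleton, or_assoc]
    refine ⟨fun h => ?_, ?_⟩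
    · by_contra! c
      exact iv_ne_zero hM (mem_irrFin.1 h) ry (fun d => hi (d.trans (index_dvd_of_le
        (zpowers_le.2 (mem_centralizer_singleton_iff.2 rfl)))))
        (hoth χ (Finset.mem_erase.2 ⟨c.1, h⟩) c.2.1 c.2.2)
    · rintro (rfl | rfl | rfl)
      exacts [ht, Finset.mem_of_mem_erase hα, Finset.mem_of_mem_erase hη]
  have hd : Disjoint {triv G, α} ({η} : Finset _) := by
    simp [(Finset.ne_of_mem_erase hη), hne.symm]
  refine ⟨α, η, iv α y, -iv η y, ⟨sα, by omega, Finset.ne_of_mem_erase hα, by convert hB,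
    by convert hd, fun η' h ρ hρ => ?_⟩, (ry.iv_cast α).symm, ?_⟩
  · obtain rfl := Finset.mem_singleton.1 h
    have := sum_princ_mul_regular hM hρ hy.symm.dvd
    rw [hB, Finset.sum_union hd, Finset.sum_pair (Finset.ne_of_mem_erase hα).symm,
      Finset.sum_singleton, ry.conj_apply, ry.conj_apply, ry.conj_apply, iv_triv, triv_apply] at this
    rcases sη with e | e <;> rw [e] at this ⊢ <;> push_cast at this ⊢
    · linear_combination this
    · linear_combination -this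
  by_contra! c
  have hn := α.2.charKer_normal
  have hreg : ∀ s, ¬ 3 ∣ orderOf s → s ∈ charKer (α : G → ℂ) := fun s hs =>
    α.2.mem_charKer_iff.2 (c s hs)
  have hyK : y ∈ charKer (α : G → ℂ) := by
    obtain ⟨t, ht⟩ := isConj_iff.1 hr
    obtain ⟨k, b, hb, hkb⟩ := Nat.exists_eq_pow_mul_and_not_dvd (orderOf_pos t).ne' 3 (by norm_num)
    have h2 : ∀ j : ℕ, t ^ (2 * j + 1) * y * (t ^ (2 * j + 1))⁻¹ = y⁻¹ := fun j => by
      induction j with
      | zero => simpa using ht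
      | succ j ih =>
        calc _ = t * (t * (t ^ (2 * j + 1) * y * (t ^ (2 * j + 1))⁻¹) * t⁻¹) * t⁻¹ := by group
          _ = t * (t * y * t⁻¹)⁻¹ * t⁻¹ := by rw [ih]; group
          _ = _ := by rw [ht, inv_inv, ht]
    obtain ⟨j, hj⟩ : Odd (3 ^ k) := Odd.pow (by decide)
    have h3 := hreg (t ^ 3 ^ k) (by
      rw [orderOf_pow' _ (by positivity), hkb, Nat.gcd_eq_right (dvd_mul_right _ _),
        Nat.mul_div_cancel_left _ (by positivity)]
      exact hb)
    have h4 := mul_mem h3 (hn.conj_mem _ (inv_mem h3) y)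
    rw [hj, ← mul_assoc, ← mul_assoc, h2, ← pow_two, inv_pow] at h4
    have h5 := pow_mem (inv_mem h4) 2
    rwa [inv_inv, ← pow_mul, show 2 * 2 = 3 + 1 from rfl, pow_succ, ← hy, pow_orderOf_eq_one,
      one_mul] at h5
  refine Finset.ne_of_mem_erase hα (eq_triv_iff.2 (α.2.charKer_eq_top_iff.1 (eq_top_iff.2 fun g _ => ?_)))
  obtain ⟨s, hs, e⟩ := exists_regular_lift (QuotientGroup.mk' (charKer (α : G → ℂ)))
    Nat.prime_three (QuotientGroup.mk'_surjective _) (q := g) fun d =>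
      hi ((d.trans (orderOf_dvd_natCard _)).trans (index_dvd_of_le (zpowers_le.2 hyK)))
  rw [← QuotientGroup.eq_one_iff, ← e]
  exact (QuotientGroup.eq_one_iff _).2 (hreg s hs)

/-- The two columns of generalized decomposition numbers of the section of `x`. -/
structure Cols (M : Ideal AlgInt) (x : G) (A B : IrrCharacter G → ℤ) : Prop where
  aa : ∑ χ ∈ irrFin (principalBlock M G), A χ * A χ = 6
  ab : ∑ χ ∈ irrFin (principalBlock M G), A χ * B χ = 3
  bb : ∑ χ ∈ irrFin (principalBlock M G), B χ * B χ = 6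
  mod : ∀ χ ∈ irrFin (principalBlock M G), 3 ∣ iv χ x - (A χ + B χ)
  orth : ∀ F : IrrCharacter G → ℂ, (∀ g, IsPPart 3 g x →
    ∑ χ ∈ irrFin (principalBlock M G), (χ : G → ℂ) g * F χ = 0) →
    ∑ χ ∈ irrFin (principalBlock M G), A χ * F χ = 0 ∧
      ∑ χ ∈ irrFin (principalBlock M G), B χ * F χ = 0

theorem exists_cols (hM : IsPModular 3 M) (h27 : ¬ 27 ∣ Nat.card G) {x y n t : G}
    (hx : orderOf x = 3) (hy : orderOf y = 3) (hxy : y ∉ zpowers x) (hc : y * x = x * y)
    (hn : n * x * n⁻¹ = x⁻¹) (ht : t * x * t⁻¹ = x) (hty : t * y * t⁻¹ = y⁻¹) :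
    ∃ A B, Cols M x A B := by
  classical
  have : Fact (Nat.Prime 3) := ⟨Nat.prime_three⟩
  set C := centralizer ({x} : Set G) with hC
  have := Fintype.ofFinite C
  let w : C := ⟨x, mem_centralizer_singleton_iff.2 rfl⟩
  have hz : w ∈ center C := mem_center_iff.2 fun c =>
    Subtype.ext (mem_centralizer_singleton_iff.1 c.2)
  have ho : orderOf w = 3 := by rw [← orderOf_coe]; exact hx
  have hn' : (zpowers w).Normal := ⟨fun a ha g => by
    rwa [mem_center_iff.1 (zpowers_le.2 hz ha) g, mul_inv_cancel_right]⟩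
  let f := QuotientGroup.mk' (zpowers w)
  have hf : Function.Surjective f := QuotientGroup.mk'_surjective _
  have hw : f.ker = zpowers w := QuotientGroup.ker_mk' _
  have hK : IsPGroup 3 f.ker := IsPGroup.of_card (n := 1) (by rw [hw, Nat.card_zpowers, ho, pow_one])
  have hCK : ∀ y : C, ¬ 3 ∣ orderOf y → y ∈ centralizer (f.ker : Set C) := fun y _ z hz' =>
    (mem_center_iff.1 ((zpowers_le.2 hz) (hw ▸ hz')) y).symm
  let y' : C := ⟨y, mem_centralizer_singleton_iff.2 hc⟩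
  let t' : C := ⟨t, mem_centralizer_singleton_iff.2 (mul_inv_eq_iff_eq_mul.1 ht)⟩
  have oy : orderOf (f y') = 3 := orderOf_eq_prime (by
      rw [← map_pow, show y' ^ 3 = 1 from Subtype.ext (hy ▸ pow_orderOf_eq_one y), map_one])
    fun e => hxy (by
      obtain ⟨i, hi⟩ := (QuotientGroup.eq_one_iff _).1 e
      exact ⟨i, congrArg Subtype.val hi⟩)
  have cy : IsConj (f y') (f y')⁻¹ := by
    rw [← map_inv]
    exact f.map_isConj (isConj_iff.2 ⟨t', Subtype.ext hty⟩)
  obtain ⟨α, η, a, δ, h, hαy, s, hs', hαs⟩ := three_chars hM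
    (fun d => h27 (by
      have := card_eq_card_quotient_mul_card_subgroup (zpowers w)
      rw [Nat.card_zpowers, ho] at this
      exact (this ▸ mul_dvd_mul_right d 3 : 9 * 3 ∣ Nat.card C).trans (card_subgroup_dvd_card C)))
    oy cy
  obtain ⟨s, hs, rfl⟩ := exists_regular_lift f Nat.prime_three hf hs'
  have ha0 : (a : ℂ) ≠ 0 := left_ne_zero_of_mul_eq_one h.a_sq
  have r1 : ¬ 3 ∣ orderOf (1 : C) := by simp
  set S := irrFin (principalBlock M C) with hS
  have hpre : ∀ θ, infI hf θ ∈ principalBlock M C ↔ θ ∈ principalBlock M (C ⧸ zpowers w) :=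
    fun θ => by rw [← preimage_principalBlock hM hf hK hCK]; rfl
  have hnC : n ∈ normalizer (C : Set G) := mem_normalizer_fintype fun c hc => by
    have e : Commute (n * c * n⁻¹) (n * x * n⁻¹) :=
      Commute.conj (mem_centralizer_singleton_iff.1 hc) n
    rw [hn] at e
    exact mem_centralizer_singleton_iff.2 (Commute.inv_right_iff.1 e)
  obtain ⟨e, -, he⟩ := exists_autE hnC
  have hew : e w = w⁻¹ := Subtype.ext ((he w).trans hn)
  have hinv : ∀ c, (α : _ → ℂ) (f (e c)) = (α : _ → ℂ) (f c) := by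
    have hαB : α ∈ principalBlock M (C ⧸ zpowers w) := mem_irrFin.1 (by rw [h.eq]; simp)
    obtain ⟨θ, hθ⟩ := exists_infI_eq hf (ψ := irrComap e (infI hf α)) (by
      rw [hw, zpowers_le, (irrComap e (infI hf α)).2.mem_charKer_iff]
      simp only [irrComap_apply, infI_apply, hew, map_one, map_inv]
      rw [show f w = 1 from hw.ge (mem_zpowers w), inv_one])
    have hv : ∀ c, (θ : _ → ℂ) (f c) = (α : _ → ℂ) (f (e c)) := fun c =>
      congrFun (congrArg Subtype.val hθ) c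
    have hB : θ ∈ irrFin (principalBlock M (C ⧸ zpowers w)) := by
      rw [mem_irrFin, ← hpre, hθ, ← trB_principalBlock e, irrComap_mem_trB, hpre]
      exact hαB
    rw [h.eq] at hB
    simp only [Finset.mem_union, Finset.mem_insert, Finset.mem_singleton, or_assoc] at hB
    rcases hB with rfl | rfl | rfl
    · refine absurd (eq_triv_iff.2 (funext fun c => ?_)) h.ne
      obtain ⟨c, rfl⟩ := hf c
      rw [← e.apply_symm_apply c, ← hv, triv_apply]
    · exact fun c => (hv c).symm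
    · have e1 := h.val θ (Finset.mem_singleton_self θ) 1 (by simp)
      have e2 := hv 1
      simp only [map_one] at e2
      rw [e2, ← iv_one_cast] at e1
      have e3 : iv α 1 = δ * (1 + a * iv α 1) := by exact_mod_cast e1
      rcases h.ha with rfl | rfl <;> rcases h.hδ with rfl | rfl <;> omega
  choose! c d hcd using fun ξ => h.int_comp hM hf hK hCK (ξ := ξ)
  let ω : IrrCharacter C → ℂ := fun ξ => (ξ : C → ℂ) w / (ξ : C → ℂ) 1
  have hω : ∀ (ξ : IrrCharacter C) (i : ℕ) (ρ : C),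
      (ξ : C → ℂ) (w ^ i * ρ) = (ξ : C → ℂ) ρ * ω ξ ^ i := fun ξ i ρ => by
    induction i with
    | zero => simp
    | succ i ih => rw [pow_succ', mul_assoc, irr_mul_center ξ.2 hz, ih]; ring
  have hωp : ∀ ξ ∈ S, ω ξ ^ 3 = 1 := fun ξ _ => by
    have := hω ξ 3 1
    rw [← ho, pow_orderOf_eq_one, mul_one, ho] at this
    exact (mul_left_cancel₀ ξ.2.apply_one_ne_zero (this.symm.trans (mul_one _).symm))
  have hωc : ∀ (ξ : IrrCharacter C) (ρ : C),
      (ξ : C → ℂ) (w⁻¹ * ρ) = (ξ : C → ℂ) ρ * conj (ω ξ) := fun ξ ρ => by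
    rw [irr_mul_center ξ.2 (inv_mem hz), ξ.2.isCharacter.apply_inv, map_div₀, ← iv_one_cast,
      map_intCast, mul_comm]
  let X : C → ℂ := fun ρ => a * (α : _ → ℂ) (f ρ)
  have hX : X s ≠ X 1 := fun e => hαs (by simpa [X, ha0] using e)
  have two : ∀ u v : ℂ, (∀ ρ, ¬ 3 ∣ orderOf ρ → u + v * X ρ = 0) → u = 0 ∧ v = 0 := fun u v h => by
    have e1 := h 1 r1
    have e2 := h s hs
    have : v = 0 := mul_right_cancel₀ (sub_ne_zero.2 hX) (by linear_combination e2 - e1)
    exact ⟨by simpa [this] using e1, this⟩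
  have key : ∀ χ ∈ irrFin (principalBlock M G), ∃ A B : ℤ, ∀ ρ : C, ¬ 3 ∣ orderOf ρ →
      (χ : G → ℂ) (x * ρ) = A + B * X ρ := fun χ hχ => by
    choose m hm using fun ξ : IrrCharacter C =>
      (χ.2.isGeneralizedCharacter.comp C.subtype).exists_int_classInner ξ.2.isGeneralizedCharacter
    have val : ∀ (z : C) (Ω : IrrCharacter C → ℂ), (∃ k, orderOf (z : G) = 3 ^ k) →
        centralizer ({(z : G)} : Set G) ≤ C → z ∈ center C →
        (∀ (ξ : IrrCharacter C) ρ, (ξ : C → ℂ) (z * ρ) = (ξ : C → ℂ) ρ * Ω ξ) →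
        ∀ ρ : C, ¬ 3 ∣ orderOf ρ → (χ : G → ℂ) (z * ρ) =
          ∑ ξ ∈ S, (m ξ * c ξ : ℤ) * Ω ξ + (∑ ξ ∈ S, (m ξ * d ξ : ℤ) * Ω ξ) * X ρ := by
      intro z Ω hzo hzC hzc hΩ ρ hρ
      have e1 := blockPart_res_centralizer hM ⟨1, hx⟩ Princ.isPBlock_principalBlock
        χ.2.isClassFunction (z * ρ) (x := z)
        (isPPart_mul (congrArg Subtype.val (mem_center_iff.1 hzc ρ)).symm hzo
          (by rwa [orderOf_coe])) hzC
      rw [blockPart_irr_of_mem (mem_irrFin.1 hχ), indSet_principalBlock hM ⟨1, hx⟩,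
        blockPart_apply] at e1
      rw [Finset.sum_mul, ← Finset.sum_add_distrib]
      refine e1.trans (Finset.sum_congr rfl fun ξ hξ => ?_)
      rw [hΩ, hcd ξ (mem_irrFin.1 hξ) ρ hρ]
      erw [hm ξ]
      push_cast
      ring
    have v1 := val w ω ⟨1, hx⟩ le_rfl hz fun ξ ρ => by simpa using hω ξ 1 ρ
    have v2 := val w⁻¹ (fun ξ => conj (ω ξ)) ⟨1, by simpa using ho⟩ (fun g hg =>
      mem_centralizer_singleton_iff.2 (by
        simpa using (Commute.inv_right (mem_centralizer_singleton_iff.1 hg)).eq))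
      (inv_mem hz) hωc
    obtain ⟨e1, e2⟩ := two
      (∑ ξ ∈ S, (m ξ * c ξ : ℤ) * conj (ω ξ) - ∑ ξ ∈ S, (m ξ * c ξ : ℤ) * ω ξ)
      (∑ ξ ∈ S, (m ξ * d ξ : ℤ) * conj (ω ξ) - ∑ ξ ∈ S, (m ξ * d ξ : ℤ) * ω ξ) fun ρ hρ => by
        have e3 := v2 (e ρ) (by rwa [e.orderOf_eq])
        have e4 : ((w⁻¹ : C) : G) * e ρ = n * (w * ρ) * n⁻¹ := by
          rw [← hew, he, he]; group
        rw [e4, χ.2.isClassFunction, v1 ρ hρ, show X (e ρ) = X ρ from congrArg ((a : ℂ) * ·) (hinv ρ)] at e3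
        linear_combination -e3
    obtain ⟨A, hA⟩ := exists_int_of_conj S _ ω hωp (sub_eq_zero.1 e1)
    obtain ⟨B, hB⟩ := exists_int_of_conj S _ ω hωp (sub_eq_zero.1 e2)
    exact ⟨A, B, fun ρ hρ => by rw [← hA, ← hB]; exact v1 ρ hρ⟩
  choose! A B hAB using key
  have gram : ∀ ρ σ : C, ¬ 3 ∣ orderOf ρ → ¬ 3 ∣ orderOf σ →
      ∑ χ ∈ irrFin (principalBlock M G), (A χ + B χ * X ρ) * (A χ + B χ * conj (X σ)) =
        3 * (1 + X ρ * conj (X σ) + (1 + X ρ) * (1 + conj (X σ))) := fun ρ σ hρ hσ => by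
    have e1 := sum_mul_conj_section_princ hM ⟨1, hx⟩ hρ hσ
    rw [Finset.sum_congr rfl fun χ hχ => by
      rw [hAB χ hχ ρ hρ, hAB χ hχ σ hσ, map_add, map_mul, map_intCast, map_intCast]] at e1
    rw [e1, ← sum_filter_root S ω (fun ξ => (ξ : C → ℂ) ρ * conj ((ξ : C → ℂ) σ)) hωp
      (fun i h0 hi => ?_) three_pos (one_pow 3)]
    · have hone : ∑ ξ ∈ S with ω ξ = 1, (ξ : C → ℂ) ρ * conj ((ξ : C → ℂ) σ) =
          ∑ θ ∈ irrFin (principalBlock M (C ⧸ zpowers w)),
            (θ : _ → ℂ) (f ρ) * conj ((θ : _ → ℂ) (f σ)) := by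
        refine (Finset.sum_bij (fun θ _ => infI hf θ) (fun θ hθ => Finset.mem_filter.2 ⟨?_, ?_⟩)
          (fun _ _ _ _ e => infI_injective hf e) (fun ξ hξ => ?_) fun _ _ => rfl).symm
        · exact mem_irrFin.2 ((hpre θ).2 (mem_irrFin.1 hθ))
        · have : f w = 1 := hw.ge (mem_zpowers w)
          simp only [ω, infI_apply, this, map_one]
          exact div_self θ.2.apply_one_ne_zero
        · obtain ⟨h1, h2⟩ := Finset.mem_filter.1 hξ
          obtain ⟨θ, rfl⟩ := exists_infI_eq hf (ψ := ξ) (by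
            rw [hw, zpowers_le, ξ.2.mem_charKer_iff]
            exact (div_eq_one_iff_eq ξ.2.apply_one_ne_zero).1 h2)
          exact ⟨θ, mem_irrFin.2 ((hpre θ).1 (mem_irrFin.1 h1)), rfl⟩
      have r : ∀ ρ : C, ¬ 3 ∣ orderOf ρ → ¬ 3 ∣ orderOf (f ρ) := fun ρ hρ d =>
        hρ (d.trans (orderOf_map_dvd f ρ))
      rw [hone, h.sum_eq, Finset.sum_singleton, h.val η (Finset.mem_singleton_self η) _ (r ρ hρ),
        h.val η (Finset.mem_singleton_self η) _ (r σ hσ)]
      simp only [X, triv_apply, map_one, map_mul, map_add, map_intCast]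
      rcases h.ha with rfl | rfl <;> rcases h.hδ with rfl | rfl <;> push_cast <;> ring
    · have hoi : orderOf (w ^ i) = 3 := by
        rw [Nat.Coprime.orderOf_pow (by
          rw [ho]; exact Nat.coprime_of_lt_prime h0.ne' hi Nat.prime_three), ho]
      rw [← (isUnionOfBlocks_of_isPBlock hM Princ.isPBlock_principalBlock).sum_mul_conj_eq_zero hM
        (g := w ^ i * ρ) (x := w ^ i) ⟨ρ, rfl, (mem_center_iff.1 (pow_mem hz i) ρ).symm,
          ⟨1, hoi⟩, hρ⟩ (isPPart_one_iff.2 hσ) (by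
          rw [isConj_one_left, ← orderOf_eq_one_iff, hoi]
          norm_num)]
      exact Finset.sum_congr rfl fun ξ _ => by rw [hω]; ring
  have g2 : ∀ σ : C, ¬ 3 ∣ orderOf σ → _ := fun σ hσ => two
    ((∑ χ ∈ irrFin (principalBlock M G), A χ * A χ - 6 : ℤ) +
      (∑ χ ∈ irrFin (principalBlock M G), A χ * B χ - 3 : ℤ) * conj (X σ))
    ((∑ χ ∈ irrFin (principalBlock M G), A χ * B χ - 3 : ℤ) +
      (∑ χ ∈ irrFin (principalBlock M G), B χ * B χ - 6 : ℤ) * conj (X σ)) fun ρ hρ => by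
      have e1 := gram ρ σ hρ hσ
      rw [Finset.sum_congr rfl (g := fun χ => A χ * A χ + A χ * B χ * conj (X σ) +
        (A χ * B χ * X ρ + B χ * B χ * (conj (X σ) * X ρ))) fun χ _ => by ring] at e1
      simp only [Finset.sum_add_distrib, ← Finset.sum_mul] at e1
      push_cast
      linear_combination e1
  have cj : ∀ u v : ℤ, ∀ z : ℂ, u + v * conj z = 0 → u + v * z = 0 := fun u v z h => by
    simpa using congrArg conj h
  obtain ⟨e1, -⟩ := two _ _ fun σ hσ => cj _ _ _ (g2 σ hσ).1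
  obtain ⟨e2, e3⟩ := two _ _ fun σ hσ => cj _ _ _ (g2 σ hσ).2
  refine ⟨A, B, ⟨sub_eq_zero.1 (by exact_mod_cast e1), sub_eq_zero.1 (by exact_mod_cast e2),
    sub_eq_zero.1 (by exact_mod_cast e3), fun χ hχ => ?_, fun F hF => two _ _ fun ρ hρ => ?_⟩⟩
  · have e4 := hAB χ hχ 1 r1
    simp only [X, coe_one, mul_one, map_one, ← iv_one_cast] at e4
    have e5 := iv_modEq_one Nat.prime_three α ⟨1, oy⟩ (isRat_of_three oy cy)
    rw [iv_of_eq hαy] at e5
    rw [iv_of_eq (n := A χ + B χ * (a * iv α 1)) (by rw [e4]; push_cast; rfl)]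
    obtain ⟨k, hk⟩ := e5
    refine ⟨-B χ * a * k, ?_⟩
    rcases h.ha with rfl | rfl
    · linear_combination -B χ * hk
    · linear_combination B χ * hk
  · rw [← hF _ (isPPart_mul_coe ⟨1, hx⟩ hρ), Finset.sum_mul, ← Finset.sum_add_distrib]
    exact Finset.sum_congr rfl fun χ hχ => by rw [hAB χ hχ ρ hρ]; ring

end Cfsg.Lib.CITCor.Nine
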