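/-
Orders of the form `9 * 2 ^ a * q ^ b` among the groups `L₂(r)`, `L₃(2 ^ n)`, `U₃(2 ^ n)`.
-/
import Mathlib.Tactic

set_option autoImplicit false

namespace Cfsg.Lib.CITCor

theorem prime_dvd_nine {q a b p : ℕ} (hq : q.Prime) (hp : p.Prime) (h : p ∣ 9 * 2 ^ a * q ^ b) :
    p = 2 ∨ p = 3 ∨ p = q := by
  rcases (Nat.Prime.dvd_mul hp).1 h with h | h
  · rcases (Nat.Prime.dvd_mul hp).1 h with h | h
    · exact Or.inr (Or.inl ((Nat.prime_dvd_prime_iff_eq hp Nat.prime_three).1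
        (hp.dvd_of_dvd_pow (n := 2) h)))
    · exact Or.inl ((Nat.prime_dvd_prime_iff_eq hp Nat.prime_two).1 (hp.dvd_of_dvd_pow h))
  · exact Or.inr (Or.inr ((Nat.prime_dvd_prime_iff_eq hp hq).1 (hp.dvd_of_dvd_pow h)))

/-- Three odd factors as in the orders of `L₃(r)` and `U₃(r)` involve three odd primes. -/
theorem not_two_primes {q s w : ℕ} (hs : 0 < s) (hw : 3 < w) (h9 : ¬ 9 ∣ w) (ho : Odd w)
    (h1 : ∀ p : ℕ, p.Prime → p ≠ 3 → p ∣ w → ¬ p ∣ 2 * s + 1 ∧ ¬ p ∣ 2 * s + 3)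
    (h : ∀ p : ℕ, p.Prime → p ∣ (2 * s + 1) * (2 * s + 3) * w → p = 2 ∨ p = 3 ∨ p = q) : False := by
  obtain ⟨p, hp, hd, hp3⟩ : ∃ p : ℕ, p.Prime ∧ p ∣ w ∧ p ≠ 3 := by
    by_contra c
    push Not at c
    have e := Nat.eq_prime_pow_of_unique_prime_dvd (by omega) fun hd h => c _ hd h
    generalize w.primeFactorsList.length = k at e
    subst e
    match k, hw with
    | k + 2, _ => exact h9 ⟨3 ^ k, by ring⟩
  have odd : ∀ {p m : ℕ}, Odd m → p ∣ m → p ≠ 2 := fun hm hd e =>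
    (Nat.not_even_iff_odd.2 hm) (even_iff_two_dvd.2 (e ▸ hd))
  have hq : p = q := ((h p hp (hd.mul_left _)).resolve_left (odd ho hd)).resolve_left hp3
  have k : ∀ m, 1 < m → Odd m → m ∣ (2 * s + 1) * (2 * s + 3) → ¬ p ∣ m → 3 ∣ m := fun m a b c d => by
    have hm := Nat.minFac_dvd m
    rcases h _ (Nat.minFac_prime a.ne') ((hm.trans c).mul_right w) with e | e | e
    · exact absurd e (odd b hm)
    · exact e ▸ hm
    · exact absurd (hq ▸ e ▸ hm) d
  have := k _ (by omega) ⟨s, rfl⟩ (dvd_mul_right _ _) (h1 p hp hp3 hd).1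
  have := k _ (by omega) ⟨s + 1, rfl⟩ (dvd_mul_left _ _) (h1 p hp hp3 hd).2
  omega

theorem not_dvd_l3 {q a b n : ℕ} (hq : q.Prime) (hn : 2 ≤ n) {c : ℕ} (hc : c ∣ 3)
    {ε : ℤ} (hε : ε = 1 ∨ ε = -1) :
    ¬ ((2 ^ n - 1) * (2 ^ n + 1) * ((2 ^ n) ^ 2 + ε * 2 ^ n + 1) : ℤ) ∣
      (c * (9 * 2 ^ a * q ^ b) : ℕ) := fun h => by
  obtain ⟨s, hs⟩ : ∃ s : ℕ, 2 ^ n = 2 * s + 2 ∧ 0 < s := by
    obtain ⟨k, rfl⟩ : ∃ k, n = k + 2 := ⟨n - 2, by omega⟩
    have := Nat.one_le_two_pow (n := k)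
    exact ⟨2 * 2 ^ k - 1, by rw [pow_add]; omega, by omega⟩
  have e : (2 : ℤ) ^ n = 2 * s + 2 := by exact_mod_cast hs.1
  rw [e] at h
  obtain ⟨w, hw⟩ : ∃ w : ℕ, (w : ℤ) = (2 * s + 2) ^ 2 + ε * (2 * s + 2) + 1 :=
    ⟨_, Int.toNat_of_nonneg (by rcases hε with rfl | rfl <;> nlinarith)⟩
  have h' : (2 * s + 1) * (2 * s + 3) * w ∣ c * (9 * 2 ^ a * q ^ b) := by
    rw [← Int.natCast_dvd_natCast]
    convert h using 1
    push_cast
    rw [hw]
    ring
  refine not_two_primes (q := q) hs.2 (w := w) ?_ ?_ ?_ (fun p hp h3 hd => ?_) fun p hp hd => ?_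
  · have : (3 : ℤ) < w := by
      have := hs.2
      rcases hε with rfl | rfl <;> nlinarith
    exact_mod_cast this
  · rw [← Int.natCast_dvd_natCast, hw]
    have : ∀ x : ZMod 9, x ^ 2 + x + 1 ≠ 0 ∧ x ^ 2 - x + 1 ≠ 0 := by decide
    intro c
    have c' := (ZMod.intCast_zmod_eq_zero_iff_dvd _ 9).2 c
    push_cast at c'
    rcases hε with rfl | rfl
    · exact (this (2 * s + 2)).1 (by simpa using c')
    · exact (this (2 * s + 2)).2 (by simpa [sub_eq_add_neg] using c')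
  · rw [← Int.odd_coe_nat, hw]
    exact ⟨2 * (s + 1) ^ 2 + ε * (s + 1), by ring⟩
  · have hd' : (p : ℤ) ∣ (2 * s + 2) ^ 2 + ε * (2 * s + 2) + 1 := hw ▸ Int.natCast_dvd_natCast.2 hd
    have k : ∀ m : ℤ, (p : ℤ) ∣ m → m = 1 ∨ m = 3 → False := by
      rintro m hm (rfl | rfl)
      · exact hp.one_lt.ne' (by exact_mod_cast Int.eq_one_of_dvd_one (by positivity) hm)
      · exact h3 ((Nat.prime_dvd_prime_iff_eq hp Nat.prime_three).1 (by exact_mod_cast hm))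
    constructor <;> intro c <;> have c' := Int.natCast_dvd_natCast.2 c <;> push_cast at c'
    · refine k _ (hd'.sub (c'.mul_right (2 * s + 3 + ε))) ?_
      rcases hε with rfl | rfl <;> [right; left] <;> ring
    · refine k _ (hd'.sub (c'.mul_right (2 * s + 1 + ε))) ?_
      rcases hε with rfl | rfl <;> [left; right] <;> ring
  · rcases (Nat.Prime.dvd_mul hp).1 (hd.trans h') with e | e
    · exact Or.inr (Or.inl ((Nat.prime_dvd_prime_iff_eq hp Nat.prime_three).1 (e.trans hc)))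
    · exact prime_dvd_nine hq hp e

theorem l2_cases {q a b p f : ℕ} (hq : q.Prime) (hq2 : q ≠ 2) (hq3 : q ≠ 3) (hp : p.Prime)
    (hf : 0 < f) (h : p ^ f * (p ^ f - 1) * (p ^ f + 1) = 9 * 2 ^ a * q ^ b) :
    p ^ f = 8 ∨ p ^ f = 9 ∨ p ^ f = 17 := by
  have hr : 2 ≤ p ^ f := hp.two_le.trans (Nat.le_self_pow hf.ne' p)
  have hpr : p ∣ p ^ f := dvd_pow_self p hf.ne'
  have c2 : ∀ {m : ℕ}, ¬ 2 ∣ m → m.Coprime (2 ^ a) := fun hm =>
    ((Nat.prime_two.coprime_iff_not_dvd.2 hm).symm).pow_right a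
  have cq : ∀ {m : ℕ}, ¬ q ∣ m → m.Coprime (q ^ b) := fun hm =>
    ((hq.coprime_iff_not_dvd.2 hm).symm).pow_right b
  have c3 : ∀ {m : ℕ}, ¬ 3 ∣ m → m.Coprime 9 := fun hm =>
    ((Nat.prime_three.coprime_iff_not_dvd.2 hm).symm).pow_right 2
  have h9 : 9 ∣ p ^ f * (p ^ f - 1) * (p ^ f + 1) := h ▸ (dvd_mul_right _ _).mul_right _
  have d0 : p ^ f ∣ 9 * 2 ^ a * q ^ b := h ▸ (dvd_mul_right _ _).mul_right _
  have d1 : p ^ f - 1 ∣ 9 * 2 ^ a * q ^ b := h ▸ (dvd_mul_left _ _).mul_right _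
  have d2 : p ^ f + 1 ∣ 9 * 2 ^ a * q ^ b := h ▸ dvd_mul_left _ _
  have hq5 := hq.two_le
  rcases prime_dvd_nine hq hp (hpr.trans d0) with rfl | rfl | rfl
  · by_cases c : q ∣ 2 ^ f + 1
    · have : ¬ q ∣ 2 ^ f - 1 := fun d => hq2 ((Nat.prime_dvd_prime_iff_eq hq Nat.prime_two).1 (by
        convert Nat.dvd_sub c d using 1; omega))
      have := (c2 (by omega)).dvd_of_dvd_mul_right ((cq this).dvd_of_dvd_mul_right d1)
      have h10 := Nat.le_of_dvd (by norm_num) this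
      have : f ≤ 3 := by
        by_contra d
        have := Nat.pow_le_pow_right (n := 2) (by norm_num) (show 4 ≤ f by omega)
        omega
      interval_cases f <;> simp at *
    · have := (c2 (by omega)).dvd_of_dvd_mul_right ((cq c).dvd_of_dvd_mul_right d2)
      have h10 := Nat.le_of_dvd (by norm_num) this
      generalize 2 ^ f = r at *
      have : r ≤ 8 := by omega
      interval_cases r <;> simp at *
  · have h3 : (3 ^ f).Coprime (2 ^ a) := Nat.Coprime.pow _ _ (by norm_num)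
    have := h3.dvd_of_dvd_mul_right ((Nat.Coprime.pow _ _
      ((Nat.coprime_primes hp hq).2 hq3.symm)).dvd_of_dvd_mul_right d0)
    have h10 := Nat.le_of_dvd (by norm_num) this
    generalize 3 ^ f = r at *
    interval_cases r <;> simp at *
  · have e1 := (cq fun c => hp.one_lt.ne' (Nat.dvd_one.1 (by
      convert Nat.dvd_sub hpr c using 1; omega))).dvd_of_dvd_mul_right d1
    have e2 := (cq fun c => hp.one_lt.ne' (Nat.dvd_one.1 ((Nat.dvd_add_right hpr).1 c)))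
      |>.dvd_of_dvd_mul_right d2
    have ho : Odd (p ^ f) := (hp.odd_of_ne_two hq2).pow
    have h3 : ¬ 3 ∣ p ^ f := fun c =>
      hq3 ((Nat.prime_dvd_prime_iff_eq Nat.prime_three hp).1 (Nat.prime_three.dvd_of_dvd_pow c)).symm
    have key : ∀ m : ℕ, m ∣ 9 * 2 ^ a → m % 4 = 2 → m ∣ 18 := fun m hm h4 => by
      obtain ⟨k, rfl⟩ : ∃ k, m = 2 * k := ⟨m / 2, by omega⟩
      exact Nat.mul_dvd_mul_left 2 (c := 9)
        ((c2 (by omega)).dvd_of_dvd_mul_right ((dvd_mul_left k 2).trans hm))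
    generalize p ^ f = r at *
    obtain ⟨k, rfl⟩ := ho
    have : 2 * k + 1 ≤ 19 ∧ (2 * k + 1 - 1 ∣ 18 ∨ 2 * k + 1 + 1 ∣ 18) := by
      rcases Nat.mod_two_eq_zero_or_one k with c | c
      · have := key _ e2 (by omega)
        exact ⟨by have := Nat.le_of_dvd (by norm_num) this; omega, Or.inr this⟩
      · have := key _ e1 (by omega)
        exact ⟨by have := Nat.le_of_dvd (by norm_num) this; omega, Or.inl this⟩
    have h5 : ¬ 5 ∣ 9 * 2 ^ a := fun c => by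
      have := Nat.Coprime.dvd_of_dvd_mul_left (by norm_num) c
      exact absurd (Nat.prime_five.dvd_of_dvd_pow this) (by norm_num)
    obtain ⟨h19, h18⟩ := this
    have : k ≤ 9 := by omega
    interval_cases k <;> simp at h9 h18 h3 hr ⊢
    exact h5 ((by norm_num : 5 ∣ 20).trans e2)

end Cfsg.Lib.CITCor
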